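import Cfsg.Agent.Linear.Mitchell.Socle.Lifts
import Cfsg.Agent.Linear.Mitchell.Traces
import Cfsg.Agent.Unitary.AschAdjoint
import Cfsg.Agent.Aschbacher.UnitTheorem
import Cfsg.Agent.Symplectic.HermBasic

/-!
The forms of the classical outcomes: fields of definition, and traces in unitary groups.
-/

set_option autoImplicit false
set_option linter.style.haveILetI false
set_option linter.unusedSectionVars false

namespace Cfsg.Agent.Linear.Mitchell.Socle

open scoped MatrixGroups Matrix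
open Cfsg.Geo

variable {F : Type*} [Field F]

local notation "M3" => Matrix (Fin 3) (Fin 3) F

/-- The inclusion of the matrices over a subfield. -/
noncomputable def inclGL (K : Subfield F) : GL (Fin 3) K →* GL (Fin 3) F :=
  Matrix.GeneralLinearGroup.map (n := Fin 3) (K.subtype : K →+* F)

theorem inclGL_apply (K : Subfield F) (x : GL (Fin 3) K) (i j : Fin 3) :
    (inclGL K x : M3) i j = ((x : Matrix (Fin 3) (Fin 3) K) i j : F) := rfl

theorem inclGL_injective (K : Subfield F) : Function.Injective (inclGL K) := fun a b h =>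
  Units.ext (Matrix.ext fun i j => Subtype.ext (by rw [← inclGL_apply, h]; rfl))

theorem inclGL_surjective {K : Subfield F} (hK : K = ⊤) : Function.Surjective (inclGL K) := by
  subst hK
  intro y
  refine ⟨Matrix.GeneralLinearGroup.map (n := Fin 3)
    (Subfield.topEquiv.symm.toRingHom : F →+* (⊤ : Subfield F)) y, Units.ext (Matrix.ext fun i j => rfl)⟩

theorem inclGL_mem_sl {K : Subfield F} {x : GL (Fin 3) K} :
    inclGL K x ∈ specialLinear (Fin 3) F ↔ x ∈ specialLinear (Fin 3) K := by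
  have hd : ((inclGL K x : GL (Fin 3) F) : M3).det = ((x : Matrix (Fin 3) (Fin 3) K).det : F) :=
    ((K.subtype : K →+* F).map_det _).symm
  rw [specialLinear, specialLinear, MonoidHom.mem_ker, MonoidHom.mem_ker, Units.ext_iff, Units.ext_iff]
  simp only [Matrix.GeneralLinearGroup.val_det_apply, Units.val_one, hd]
  exact OneMemClass.coe_eq_one

/-- A conjugate of a group over a subfield is realisable over it. -/
theorem realisable_conj (K : Subfield F) (L : Subgroup (GL (Fin 3) K)) (g : GL (Fin 3) F) :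
    RealisableOver K (matrixSet ((L.map (inclGL K)).map (MulAut.conj g).toMonoidHom)) := by
  refine ⟨g⁻¹, ?_⟩
  rintro _ ⟨_, ⟨_, ⟨x, -, rfl⟩, rfl⟩, rfl⟩ i j
  show ((g⁻¹ : GL (Fin 3) F) : M3) * ((MulAut.conj g (inclGL K x) : GL (Fin 3) F) : M3) *
    (((g⁻¹)⁻¹ : GL (Fin 3) F) : M3) |> fun M => M i j ∈ K
  rw [← Units.val_mul, ← Units.val_mul, MulAut.conj_apply,
    show g⁻¹ * (g * inclGL K x * g⁻¹) * g⁻¹⁻¹ = inclGL K x by group]
  exact (x.1 i j).2

theorem map_sl_top {K : Subfield F} (hK : K = ⊤) :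
    (specialLinear (Fin 3) K).map (inclGL K) = specialLinear (Fin 3) F := by
  ext y
  obtain ⟨x, rfl⟩ := inclGL_surjective hK y
  rw [inclGL_mem_sl]
  exact ⟨fun ⟨x', hx', he⟩ => inclGL_injective K he ▸ hx', fun h => ⟨x, h, rfl⟩⟩

theorem conj_sl (g : GL (Fin 3) F) :
    (specialLinear (Fin 3) F).map (MulAut.conj g).toMonoidHom = specialLinear (Fin 3) F := by
  haveI : (specialLinear (Fin 3) F).Normal := MonoidHom.normal_ker _
  exact Subgroup.normal_iff_map_conj_eq.mp inferInstance g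

/-- A group of `SL`-form which is realisable over no proper subfield is the whole of `SL₃`. -/
theorem eq_sl_of_isSLForm {P : Subgroup (GL (Fin 3) F)} (h : IsSLForm P)
    (hno : ∀ F₀ : Subfield F, F₀ ≠ ⊤ → ¬ RealisableOver F₀ (matrixSet P)) :
    P = specialLinear (Fin 3) F := by
  obtain ⟨K, g, rfl⟩ := h
  by_cases hK : K = ⊤
  · exact ((congrArg _ (map_sl_top hK)).trans (conj_sl g))
  · exact absurd (realisable_conj K _ g) (hno K hK)

theorem map_su_top {K : Subfield F} (hK : K = ⊤) (q : ℕ) :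
    (GU 3 K q ⊓ specialLinear (Fin 3) K).map (inclGL K) = GU 3 F q ⊓ specialLinear (Fin 3) F := by
  have hmv : ∀ (x : GL (Fin 3) K) (u : Fin 3 → K), (inclGL K x : M3) *ᵥ (fun i => (u i : F)) =
      fun i => (((x : Matrix (Fin 3) (Fin 3) K) *ᵥ u) i : F) := fun x u => by
    funext i
    exact (RingHom.map_mulVec (K.subtype : K →+* F) _ _ i).symm
  have hh : ∀ u v : Fin 3 → K, hermForm 3 F q (fun i => (u i : F)) (fun i => (v i : F)) =
      ((hermForm 3 K q u v : K) : F) := fun u v => by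
    simp [hermForm]
  have hiff : ∀ x : GL (Fin 3) K, inclGL K x ∈ GU 3 F q ↔ x ∈ GU 3 K q := by
    intro x
    rw [Unitary.mem_GU_iff, Unitary.mem_GU_iff]
    constructor
    · intro h u v
      have := h (fun i => (u i : F)) (fun i => (v i : F))
      rw [hmv, hmv, hh, hh] at this
      exact Subtype.ext this
    · intro h u v
      obtain ⟨u, rfl⟩ : ∃ u' : Fin 3 → K, (fun i => (u' i : F)) = u :=
        ⟨fun i => ⟨u i, hK ▸ Subfield.mem_top _⟩, rfl⟩
      obtain ⟨v, rfl⟩ : ∃ v' : Fin 3 → K, (fun i => (v' i : F)) = v :=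
        ⟨fun i => ⟨v i, hK ▸ Subfield.mem_top _⟩, rfl⟩
      rw [hmv, hmv, hh, hh, h u v]
  ext y
  obtain ⟨x, rfl⟩ := inclGL_surjective hK y
  constructor
  · rintro ⟨x', hx', he⟩
    obtain rfl := inclGL_injective K he
    exact ⟨(hiff _).mpr hx'.1, inclGL_mem_sl.mpr hx'.2⟩
  · rintro ⟨h1, h2⟩
    exact ⟨x, ⟨(hiff _).mp h1, inclGL_mem_sl.mp h2⟩, rfl⟩

variable [Fintype F]

/-- A group of `SU`-form which is realisable over no proper subfield is conjugate to `SU₃`. -/
theorem eq_su_of_isSUForm {P : Subgroup (GL (Fin 3) F)} (h : IsSUForm P)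
    (hno : ∀ F₀ : Subfield F, F₀ ≠ ⊤ → ¬ RealisableOver F₀ (matrixSet P)) :
    ∃ (q₀ : ℕ) (g : GL (Fin 3) F), Fintype.card F = q₀ ^ 2 ∧
      P = (GU 3 F q₀ ⊓ specialLinear (Fin 3) F).map (MulAut.conj g).toMonoidHom := by
  obtain ⟨K, q₀, g, hc, -, rfl⟩ := h
  by_cases hK : K = ⊤
  · refine ⟨q₀, g, ?_, congrArg _ (map_su_top hK q₀)⟩
    rw [← hc, hK, Nat.card_congr Subfield.topEquiv.toEquiv, Nat.card_eq_fintype_card]
  · exact absurd (realisable_conj K _ g) (hno K hK)

/-- Conjugates of subgroups of `GU₃` fix a unitary form. -/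
theorem exists_unitary_of_conj {q₀ : ℕ} (hF : Fintype.card F = q₀ ^ 2)
    {L : Subgroup (GL (Fin 3) F)} (hL : L ≤ GU 3 F q₀) (g : GL (Fin 3) F) :
    ∃ (σ : F ≃+* F) (f : (Fin 3 → F) → (Fin 3 → F) → F),
      IsUnitaryForm σ f ∧ FixesForm (matrixSet (L.map (MulAut.conj g).toMonoidHom)) f := by
  obtain ⟨σ, -, hf⟩ := Cfsg.Agent.Symplectic.isUnitaryForm_hermForm (n := 3) hF
  let T : (Fin 3 → F) → (Fin 3 → F) := fun u => ((g⁻¹ : GL (Fin 3) F) : M3) *ᵥ u
  have hinj : ∀ u, T u = 0 → u = 0 := fun u hu => by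
    have := congrArg ((g : M3) *ᵥ ·) hu
    simpa [T, Matrix.mulVec_mulVec, ← Units.val_mul] using this
  have hsurj : ∀ w, ∃ u, T u = w := fun w => ⟨(g : M3) *ᵥ w, by
    simp [T, Matrix.mulVec_mulVec, ← Units.val_mul]⟩
  refine ⟨σ, fun u v => hermForm 3 F q₀ (T u) (T v), ⟨hf.ne_refl, hf.involutive, fun x y v => ?_,
    fun c x v => ?_, fun v w => hf.herm _ _, fun v hv => ?_⟩, ?_⟩
  · simp only [T, Matrix.mulVec_add]; exact hf.add_left _ _ _
  · simp only [T, Matrix.mulVec_smul]; exact hf.smul_left _ _ _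
  · obtain ⟨⟨x, hx⟩, y, hy⟩ := hf.nondegenerate (T v) fun h => hv (hinj v h)
    obtain ⟨x, rfl⟩ := hsurj x
    obtain ⟨y, rfl⟩ := hsurj y
    exact ⟨⟨x, hx⟩, y, hy⟩
  · rintro _ ⟨_, ⟨x, hx, rfl⟩, rfl⟩ u v
    have e : ∀ u, T (((MulAut.conj g).toMonoidHom x : GL (Fin 3) F).1 *ᵥ u) = (x : M3) *ᵥ T u := by
      intro u
      simp only [T, Matrix.mulVec_mulVec, ← Units.val_mul]
      congr 2
      show g⁻¹ * (g * x * g⁻¹) = x * g⁻¹
      group
    show hermForm 3 F q₀ _ _ = hermForm 3 F q₀ _ _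
    rw [e, e]
    exact hL hx _ _

/-- The trace of the inverse of a unitary element. -/
theorem trace_inv_GU {q : ℕ} (hF : Fintype.card F = q ^ 2) {x : GL (Fin 3) F} (hx : x ∈ GU 3 F q) :
    tr x⁻¹ = tr x ^ q := by
  have h := (Unitary.Asch.mem_GU_iff_hst hF).mp hx
  have hi : ((x⁻¹ : GL (Fin 3) F) : M3) = Unitary.Asch.hst q (x : M3) := Units.inv_eq_of_mul_eq_one_left h
  rw [tr, hi, Unitary.Asch.hst, Matrix.trace_transpose]
  have : tr x ^ q = Unitary.frob hF (tr x) := (Unitary.frob_apply hF _).symm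
  rw [this, tr]
  simp [Matrix.trace, map_sum, Unitary.frob_apply]

/-- `SL₃` is not unitary. -/
theorem not_sl_le_GU {q : ℕ} (hF : Fintype.card F = q ^ 2) :
    ¬ specialLinear (Fin 3) F ≤ GU 3 F q := by
  intro h
  let M : M3 := !![1, 0, 1; 1, 0, 0; 0, 1, 0]
  have hd : M.det = 1 := by simp [M, Matrix.det_fin_three]
  let x : GL (Fin 3) F := Matrix.GeneralLinearGroup.mkOfDetNeZero M (by rw [hd]; exact one_ne_zero)
  have hx : x ∈ specialLinear (Fin 3) F := by
    rw [specialLinear, MonoidHom.mem_ker, Units.ext_iff]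
    exact hd
  have hi : ((x⁻¹ : GL (Fin 3) F) : M3) = !![0, 1, 0; 0, 0, 1; 1, -1, 0] := by
    refine Units.inv_eq_of_mul_eq_one_left ?_
    ext i j
    fin_cases i <;> fin_cases j <;> simp [x, M, Matrix.mul_apply, Fin.sum_univ_three]
  have := trace_inv_GU hF (h hx)
  rw [tr, tr, hi, show (x : M3) = M from rfl] at this
  simp [M, Matrix.trace_fin_three] at this

end Cfsg.Agent.Linear.Mitchell.Socle
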