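import Cfsg.Agent.Linear.Mitchell.Socle.TraceSets
import Cfsg.Agent.Linear.Mitchell.Socle.Forms
import Cfsg.Agent.Aschbacher.Subfield

/-!
The field and the forms of the groups of order 168, 360 and 2520.
-/

set_option autoImplicit false
set_option linter.style.haveILetI false
set_option linter.unusedSectionVars false

namespace Cfsg.Agent.Linear.Mitchell.Socle

open scoped MatrixGroups Matrix
open Cfsg.Geo Cfsg.Agent.Aschbacher

variable {F : Type*} [Field F] [Fintype F] {P : Subgroup (GL (Fin 3) F)} (p : ℕ) [Fact p.Prime]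
  [CharP F p]

local notation "M3" => Matrix (Fin 3) (Fin 3) F

/-- The field of definition is bounded by the traces. -/
theorem card_le_of_traces (hS : Setting P)
    (hno : ∀ F₀ : Subfield F, F₀ ≠ ⊤ → ¬ RealisableOver F₀ (matrixSet P)) {n : ℕ} (hn : 0 < n)
    (h : ∀ x ∈ P, tr x ^ p ^ n = tr x) : Fintype.card F ≤ p ^ n := by
  refine card_le_of_fixed p n hn fun x => ?_
  by_contra hx
  refine hno (frobFixed p n) (fun e => hx ?_)
    (realisableOver_of_traces hS.abs _ fun y hy => mem_frobFixed.mpr (h y hy))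
  exact mem_frobFixed.mp (e ▸ Subfield.mem_top x)

theorem card_eq_char (h : Fintype.card F ≤ p) : Fintype.card F = p := by
  obtain ⟨n, hpr, hn⟩ := FiniteField.card F p
  rw [hn] at h ⊢
  have h1 : (n : ℕ) = 1 := by
    by_contra hne
    exact absurd h (Nat.not_le.mpr (lt_self_pow₀ hpr.one_lt (by have := n.pos; omega)))
  rw [h1, pow_one]

/-- The degree of the field is at most two. -/
theorem IsSmall.card_cases (hs : IsSmall P) (hS : Setting P)
    (hno : ∀ F₀ : Subfield F, F₀ ≠ ⊤ → ¬ RealisableOver F₀ (matrixSet P)) :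
    Fintype.card F = p ∨ Fintype.card F = p ^ 2 := by
  have h := card_le_of_traces p hS hno (n := 2) two_pos (hs.traces_fixed p hS)
  obtain ⟨n, hpr, hn⟩ := FiniteField.card F p
  rw [hn] at h ⊢
  have := n.pos
  rcases (show (n : ℕ) = 1 ∨ (n : ℕ) = 2 by
    have := (Nat.pow_le_pow_iff_right hpr.one_lt).mp h; omega) with e | e <;> rw [e]
  · exact Or.inl (pow_one p)
  · exact Or.inr rfl

theorem pow_card_prime (h : Fintype.card F = p) (x : F) : x ^ p = x := by
  have := FiniteField.pow_card x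
  rwa [h] at this

/-- Twisted traces give a unitary form. -/
theorem exists_unitary_of_twisted (hS : Setting P) (h : Fintype.card F = p ^ 2)
    (ht : ∀ x ∈ P, tr x ^ p = tr x⁻¹) :
    ∃ (σ : F ≃+* F) (f : (Fin 3 → F) → (Fin 3 → F) → F),
      IsUnitaryForm σ f ∧ FixesForm (matrixSet P) f := by
  refine ⟨frob2 p, ?_⟩
  refine exists_unitary_of_traces hS.abs (fun a => ?_) (fun e => ?_) fun x hx => ?_
  · have := FiniteField.pow_card a
    rw [h] at this
    rw [frob2_apply, frob2_apply, ← pow_mul, ← sq]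
    exact this
  · have hle : Fintype.card F ≤ p ^ 1 := card_le_of_fixed p 1 one_pos fun x => by
      rw [pow_one, ← frob2_apply p x, e]; rfl
    rw [pow_one, h] at hle
    have := (Fact.out : p.Prime).one_lt
    nlinarith
  · rw [frob2_apply]; exact ht x hx

/-- Real traces give a quadratic form. -/
theorem exists_quad_of_real (hS : Setting P) (hp : p ≠ 2) (ht : ∀ x ∈ P, tr x = tr x⁻¹) :
    ∃ Q : (Fin 3 → F) → F, IsNondegenerateQuadraticForm Q ∧ FixesQuadForm (matrixSet P) Q :=
  exists_quad_of_traces hS.abs (two_ne_zero_char (F := F) p hp) (by decide) ht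

theorem three_ne_zero_char (h : p ≠ 3) : (3 : F) ≠ 0 := fun h3 => h
  ((Nat.prime_dvd_prime_iff_eq Fact.out Nat.prime_three).mp
    ((CharP.cast_eq_zero_iff F p 3).mp (by exact_mod_cast h3)))

/-- Order 168: no scalar but the identity. -/
theorem scalar_cases_168 (hS : Setting P) (h : projCard P = 168) {c : F}
    (hz : ∃ z ∈ P, (z : M3) = c • 1) : c = 1 :=
  hz.elim fun _ hz => scalar_eq_one_168 hS h hz.1 hz.2

/-- The residues modulo 3 seen by the scalar of order three. -/
theorem omega_mod (hS : Setting P) (h : projCard P = 360 ∨ projCard P = 2520) (hp : p ≠ 3) :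
    ∃ z ∈ P, ∃ w : F, (z : M3) = w • 1 ∧ w ≠ 1 ∧
      ((p % 3 = 1 ∧ w ^ p = w) ∨ (p % 3 = 2 ∧ w ^ p = w⁻¹)) := by
  obtain ⟨z, hz, w, hw, hne, h3⟩ := exists_omega hS h (three_ne_zero_char p hp)
  exact ⟨z, hz, w, hw, hne, (cube_root_cases p h3).resolve_left hne⟩

theorem inv_ne_self_of_cube {w : F} (h3 : w ^ 3 = 1) (hne : w ≠ 1) : w⁻¹ ≠ w := by
  intro h
  have h0 : w ≠ 0 := fun h0 => by simp [h0] at h3
  have h2 : w * w = 1 := by nth_rw 1 [← h]; exact inv_mul_cancel₀ h0
  exact hne (by linear_combination h3 - w * h2)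

end Cfsg.Agent.Linear.Mitchell.Socle
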