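import Cfsg.Agent.Linear.Mitchell.Socle.Lifts
import Cfsg.Agent.Linear.Mitchell.Traces
import Mathlib.NumberTheory.LegendreSymbol.QuadraticReciprocity

/-!
The fields of the traces for the groups of order 168, 360 and 2520, and the scalar of order three
in the covers of the groups of order 360 and 2520.
-/

set_option autoImplicit false
set_option linter.style.haveILetI false
set_option linter.unusedSectionVars false
set_option linter.unusedSimpArgs false

namespace Cfsg.Agent.Linear.Mitchell.Socle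

open scoped MatrixGroups Matrix commutatorElement
open Cfsg.Geo Cfsg.Agent.Aschbacher Equiv

/-! ### Roots of the three quadratics -/

section Roots

variable {F : Type*} [Field F] (p : ℕ) [Fact p.Prime] [CharP F p]

theorem castHom_legendre (a : ℤ) : (legendreSym p a : F) = (a : F) ^ (p / 2) := by
  have h := congrArg (ZMod.castHom dvd_rfl F) (legendreSym.eq_pow p a)
  simpa using h

theorem pow_char_of_sq (hp : p ≠ 2) {r : F} {a : ℤ} (hr : r ^ 2 = a) :
    r ^ p = r * legendreSym p a := by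
  rw [castHom_legendre, ← hr, ← pow_mul, ← pow_succ']
  congr 1
  have := (Fact.out : p.Prime).eq_two_or_odd
  omega

theorem two_ne_zero_char (hp : p ≠ 2) : (2 : F) ≠ 0 := by
  intro h
  have h2 : p ∣ 2 := (CharP.cast_eq_zero_iff F p 2).mp (by exact_mod_cast h)
  exact hp ((Nat.prime_dvd_prime_iff_eq Fact.out Nat.prime_two).mp h2)

theorem natCast_pow_char (n : ℕ) : ((n : F)) ^ p = n := by
  rw [← map_natCast (ZMod.castHom dvd_rfl F) n, ← map_pow, ZMod.pow_card]

theorem two_pow_char : (2 : F) ^ p = 2 := by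
  have := natCast_pow_char (F := F) p 2
  exact_mod_cast this

theorem factFive : Fact (Nat.Prime 5) := ⟨by norm_num⟩

theorem factSeven : Fact (Nat.Prime 7) := ⟨by norm_num⟩

attribute [local instance] factFive factSeven

theorem mod_five (hp : p ≠ 2) :
    (p % 5 = 1 ∨ p % 5 = 4 → legendreSym p 5 = 1) ∧
      (p % 5 = 2 ∨ p % 5 = 3 → legendreSym p 5 = -1) := by
  have h := legendreSym.quadratic_reciprocity_one_mod_four (p := 5) (q := p) (by norm_num) hp
  rw [Nat.cast_ofNat] at h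
  constructor <;> intro hm <;>
    rw [h, legendreSym.mod, show ((p : ℤ) % ((5 : ℕ) : ℤ)) = ((p % 5 : ℕ) : ℤ) by push_cast; rfl] <;>
    rcases hm with e | e <;> rw [e] <;> decide +kernel

theorem mod_seven (hp : p ≠ 2) :
    (p % 7 = 1 ∨ p % 7 = 2 ∨ p % 7 = 4 → legendreSym p (-7) = 1) ∧
      (p % 7 = 3 ∨ p % 7 = 5 ∨ p % 7 = 6 → legendreSym p (-7) = -1) := by
  have h : legendreSym p (-7) = legendreSym 7 p := by
    have hq := legendreSym.quadratic_reciprocity' (p := p) (q := 7) hp (by norm_num)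
    rw [hq, show (-7 : ℤ) = -1 * ((7 : ℕ) : ℤ) by norm_num, legendreSym.mul, legendreSym.at_neg_one hp,
      ZMod.χ₄_eq_neg_one_pow ((Fact.out : p.Prime).eq_two_or_odd.resolve_left hp)]
    norm_num [pow_mul]
    exact Or.inl (by rw [← pow_mul, mul_comm, pow_mul]; norm_num)
  constructor <;> intro hm <;>
    rw [h, legendreSym.mod, show ((p : ℤ) % ((7 : ℕ) : ℤ)) = ((p % 7 : ℕ) : ℤ) by push_cast; rfl] <;>
    rcases hm with e | e | e <;> rw [e] <;> decide +kernel

theorem five_fix {t : F} (ht : t ^ 2 = t + 1) (h : p % 5 = 0 ∨ p % 5 = 1 ∨ p % 5 = 4) : t ^ p = t := by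
  by_cases hp : p = 2
  · subst hp; omega
  have h2 := two_ne_zero_char (F := F) p hp
  have hr : (2 * t - 1) ^ 2 = ((5 : ℤ) : F) := by push_cast; linear_combination 4 * ht
  have e := pow_char_of_sq p hp hr
  rw [sub_pow_char, one_pow, mul_pow, two_pow_char (F := F) p] at e
  by_cases h5 : p = 5
  · subst h5
    have h50 : (5 : F) = 0 := by exact_mod_cast CharP.cast_eq_zero F 5
    have hr0 : 2 * t - 1 = 0 := by
      refine pow_eq_zero_iff (n := 2) (by norm_num) |>.mp ?_
      rw [hr]; exact_mod_cast h50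
    rw [hr0, zero_mul] at e
    exact mul_left_cancel₀ h2 (by linear_combination e - hr0)
  have h1 : p % 5 ≠ 0 := fun h0 =>
    h5 ((Nat.prime_dvd_prime_iff_eq (by norm_num) Fact.out).mp (Nat.dvd_of_mod_eq_zero h0)).symm
  rw [(mod_five p hp).1 (by omega)] at e
  exact mul_left_cancel₀ h2 (by push_cast at e; linear_combination e)

theorem five_swap {t : F} (ht : t ^ 2 = t + 1) (h : p % 5 = 2 ∨ p % 5 = 3) :
    t ^ p = 1 - t ∧ 1 - t ≠ t := by
  refine ⟨?_, fun e => ?_⟩
  · by_cases hp : p = 2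
    · subst hp
      have h20 : (2 : F) = 0 := by exact_mod_cast CharP.cast_eq_zero F 2
      linear_combination ht + t * h20
    have hr : (2 * t - 1) ^ 2 = ((5 : ℤ) : F) := by push_cast; linear_combination 4 * ht
    have e := pow_char_of_sq p hp hr
    rw [sub_pow_char, one_pow, mul_pow, two_pow_char (F := F) p,
      (mod_five p hp).2 h] at e
    exact mul_left_cancel₀ (two_ne_zero_char (F := F) p hp) (by push_cast at e; linear_combination e)
  · have h5 : (5 : F) = 0 := by linear_combination (2 * t - 1) * (-e) - 4 * ht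
    have : p ∣ 5 := (CharP.cast_eq_zero_iff F p 5).mp (by exact_mod_cast h5)
    have := (Nat.prime_dvd_prime_iff_eq Fact.out (by norm_num)).mp this
    omega

theorem seven_fix {s : F} (hs : s ^ 2 + s + 2 = 0)
    (h : p % 7 = 0 ∨ p % 7 = 1 ∨ p % 7 = 2 ∨ p % 7 = 4) : s ^ p = s := by
  by_cases hp : p = 2
  · subst hp
    have h20 : (2 : F) = 0 := by exact_mod_cast CharP.cast_eq_zero F 2
    linear_combination hs - (1 + s) * h20
  have h2 := two_ne_zero_char (F := F) p hp
  have hr : (2 * s + 1) ^ 2 = ((-7 : ℤ) : F) := by push_cast; linear_combination 4 * hs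
  have e := pow_char_of_sq p hp hr
  rw [add_pow_char, one_pow, mul_pow, two_pow_char (F := F) p] at e
  by_cases h7 : p = 7
  · subst h7
    have h70 : (7 : F) = 0 := by exact_mod_cast CharP.cast_eq_zero F 7
    have hr0 : 2 * s + 1 = 0 := by
      refine pow_eq_zero_iff (n := 2) (by norm_num) |>.mp ?_
      rw [hr]; push_cast; linear_combination -h70
    rw [hr0, zero_mul] at e
    exact mul_left_cancel₀ h2 (by linear_combination e - hr0)
  have h1 : p % 7 ≠ 0 := fun h0 =>
    h7 ((Nat.prime_dvd_prime_iff_eq (by norm_num) Fact.out).mp (Nat.dvd_of_mod_eq_zero h0)).symm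
  rw [(mod_seven p hp).1 (by omega)] at e
  exact mul_left_cancel₀ h2 (by push_cast at e; linear_combination e)

theorem seven_swap {s : F} (hs : s ^ 2 + s + 2 = 0) (h : p % 7 = 3 ∨ p % 7 = 5 ∨ p % 7 = 6) :
    s ^ p = -1 - s ∧ -1 - s ≠ s := by
  refine ⟨?_, fun e => ?_⟩
  · have hp : p ≠ 2 := by omega
    have hr : (2 * s + 1) ^ 2 = ((-7 : ℤ) : F) := by push_cast; linear_combination 4 * hs
    have e := pow_char_of_sq p hp hr
    rw [add_pow_char, one_pow, mul_pow, two_pow_char (F := F) p,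
      (mod_seven p hp).2 h] at e
    exact mul_left_cancel₀ (two_ne_zero_char (F := F) p hp) (by push_cast at e; linear_combination e)
  · have h7 : (7 : F) = 0 := by linear_combination 4 * hs + (2 * s + 1) * e
    have : p ∣ 7 := (CharP.cast_eq_zero_iff F p 7).mp (by exact_mod_cast h7)
    have := (Nat.prime_dvd_prime_iff_eq Fact.out (by norm_num)).mp this
    omega

theorem cube_root_cases {c : F} (hc : c ^ 3 = 1) :
    c = 1 ∨ (p % 3 = 1 ∧ c ^ p = c) ∨ (p % 3 = 2 ∧ c ^ p = c⁻¹) := by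
  by_cases h1 : c = 1
  · exact Or.inl h1
  have hc0 : c ≠ 0 := fun h => by simp [h] at hc
  have hmod : c ^ p = c ^ (p % 3) := pow_eq_pow_mod p hc
  rcases (show p % 3 = 0 ∨ p % 3 = 1 ∨ p % 3 = 2 by omega) with h | h | h
  · have h3 : p = 3 := ((Nat.prime_dvd_prime_iff_eq Nat.prime_three Fact.out).mp
      (Nat.dvd_of_mod_eq_zero h)).symm
    subst h3
    refine absurd (frobenius_inj F 3 ?_) h1
    rw [frobenius_def, map_one, hc]
  · exact Or.inr (Or.inl ⟨h, by rw [hmod, h, pow_one]⟩)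
  · refine Or.inr (Or.inr ⟨h, ?_⟩)
    rw [hmod, h]
    exact eq_inv_of_mul_eq_one_left (by rw [← pow_succ, hc])

/-- A root of a monic quadratic over the prime field lies in the field of `p²` elements. -/
theorem fixed_of_quadratic {t : F} {a b : ℤ} (ht : t ^ 2 = a * t + b) : t ^ p ^ 2 = t := by
  have hint : ∀ n : ℤ, ((n : F)) ^ p = n := fun n => by
    rw [← map_intCast (ZMod.castHom dvd_rfl F) n, ← map_pow, ZMod.pow_card]
  have h : (t ^ p) ^ 2 = a * t ^ p + b := by
    rw [← pow_mul, mul_comm, pow_mul, ht, add_pow_char, mul_pow, hint, hint]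
  rw [sq, pow_mul]
  rcases mul_eq_zero.mp (show (t ^ p - t) * (t ^ p + t - a) = 0 by linear_combination h - ht)
    with e | e
  · rw [sub_eq_zero.mp e, sub_eq_zero.mp e]
  · have e' : t ^ p = a - t := by linear_combination e
    rw [e', sub_pow_char, hint, e']
    ring

theorem cube_root_fixed {c : F} (hc : c ^ 3 = 1) : c ^ p ^ 2 = c := by
  rcases mul_eq_zero.mp (show (c - 1) * (c ^ 2 + c + 1) = 0 by linear_combination hc) with e | e
  · rw [sub_eq_zero.mp e, one_pow]
  · exact fixed_of_quadratic p (a := -1) (b := -1) (by push_cast; linear_combination e)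

variable [Fintype F]

/-- The automorphism of order two of the field of `p²` elements. -/
noncomputable def frob2 : F ≃+* F :=
  RingEquiv.ofBijective (frobenius F p)
    (Finite.injective_iff_bijective.mp (frobenius_inj F p))

theorem frob2_apply (x : F) : frob2 p x = x ^ p := rfl

theorem card_le_of_fixed (n : ℕ) (hn : 0 < n) (h : ∀ x : F, x ^ p ^ n = x) :
    Fintype.card F ≤ p ^ n := by
  classical
  have hp1 : 1 < p ^ n := Nat.one_lt_pow hn.ne' (Fact.out : p.Prime).one_lt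
  have hne : (Polynomial.X ^ p ^ n - Polynomial.X : Polynomial F) ≠ 0 :=
    FiniteField.X_pow_card_sub_X_ne_zero F hp1
  calc Fintype.card F
      ≤ (Polynomial.X ^ p ^ n - Polynomial.X : Polynomial F).roots.toFinset.card := by
        refine Finset.card_le_card fun x _ => ?_
        rw [Multiset.mem_toFinset, Polynomial.mem_roots hne]
        simp [h x]
    _ ≤ _ := Multiset.toFinset_card_le _
    _ ≤ _ := Polynomial.card_roots' _
    _ = p ^ n := FiniteField.X_pow_card_sub_X_natDegree_eq F hp1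

end Roots

/-! ### Setting -/

variable {F : Type*} [Field F] [Fintype F] {P : Subgroup (GL (Fin 3) F)}

local notation "M3" => Matrix (Fin 3) (Fin 3) F

/-- Elements of order three modulo scalars have trace zero. -/
theorem trace_order_three (hS : Setting P) {x : P} (ho : orderOf (px P x) = 3)
    (hr : RealElt (px P x)) : tr (x : GL (Fin 3) F) = 0 := by
  obtain ⟨w, hw, hp, h1, h2⟩ := exists_real_lift hS hr
  have h := tv_of_real hS (n := 3) (by simp) ho hw hp h1 h2
  have h0 : tr (w : GL (Fin 3) F) = 0 := by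
    rcases h with ⟨h, _⟩ | ⟨_, h⟩ | ⟨h, _⟩ | ⟨h, _⟩ | ⟨h, _⟩
    all_goals first
      | exact h
      | omega
  obtain ⟨c, hc⟩ := px_eq_iff.mp hw
  rw [tr, hc, Matrix.trace_smul, smul_eq_mul]
  exact mul_eq_zero_of_right _ h0

/-- Lifts of two independent commuting classes of order three do not commute. -/
theorem not_commute_of_pair (hS : Setting P) (h3 : (3 : F) ≠ 0)
    (hreal : ∀ X : PX P, orderOf X = 3 → RealElt X)
    {x y : P} (hU : orderOf (px P x) = 3) (hV : orderOf (px P y) = 3)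
    (hind : ∀ i : ℕ, px P y ≠ px P x ^ i) : ¬ Commute x y := by
  classical
  intro hcomm
  have hc : px P x * px P y = px P y * px P x := by rw [← map_mul, ← map_mul, hcomm.eq]
  have hX3 : px P x ^ 3 = 1 := orderOf_dvd_iff_pow_eq_one.mp (by rw [hU])
  have hY3 : px P y ^ 3 = 1 := orderOf_dvd_iff_pow_eq_one.mp (by rw [hV])
  haveI : Fact (Nat.Prime 3) := ⟨Nat.prime_three⟩
  let v : Fin 3 × Fin 3 → M3 := fun a => ((x ^ (a.1 : ℕ) * y ^ (a.2 : ℕ) : P) : GL (Fin 3) F).1
  have hnon : ∀ i j : ℕ, ¬ (3 ∣ i ∧ 3 ∣ j) → orderOf (px P (x ^ i * y ^ j)) = 3 := by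
    intro i j hij
    rw [map_mul, map_pow, map_pow]
    refine orderOf_eq_prime ?_ ?_
    · rw [((show Commute (px P x) (px P y) from hc).pow_pow i j).mul_pow, ← pow_mul, ← pow_mul,
        mul_comm i, mul_comm j, pow_mul, pow_mul, hX3, hY3, one_pow, one_pow, one_mul]
    · intro h
      by_cases hj : 3 ∣ j
      · obtain ⟨j, rfl⟩ := hj
        rw [pow_mul (px P y), hY3, one_pow, mul_one] at h
        exact hij ⟨hU ▸ orderOf_dvd_of_pow_eq_one h, dvd_mul_right _ _⟩
      · obtain ⟨k, hk⟩ : ∃ k, j * k % 3 = 1 := by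
          rcases (show j % 3 = 1 ∨ j % 3 = 2 by omega) with e | e
          · exact ⟨1, by omega⟩
          · exact ⟨2, by omega⟩
        refine hind (2 * i * k) ?_
        have e : px P y ^ j = px P x ^ (2 * i) := by
          rw [eq_inv_of_mul_eq_one_right h]
          refine inv_eq_of_mul_eq_one_right ?_
          rw [← pow_add, show i + 2 * i = 3 * i by ring, pow_mul, hX3, one_pow]
        rw [pow_mul (px P x), ← e, ← pow_mul, pow_eq_pow_mod (j * k) hY3, hk, pow_one]
  have hpair : ∀ a b : Fin 3 × Fin 3, (v a * v b).trace ≠ 0 ↔ b = (-a.1, -a.2) := by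
    intro a b
    have e : v a * v b = ((x ^ ((a.1 : ℕ) + (b.1 : ℕ)) * y ^ ((a.2 : ℕ) + (b.2 : ℕ)) : P) : GL (Fin 3) F).1 := by
      simp only [v, ← Units.val_mul, ← Subgroup.coe_mul]
      rw [pow_add, pow_add, (hcomm.pow_pow (b.1 : ℕ) (a.2 : ℕ)).symm.mul_mul_mul_comm]
    have hiff : b = (-a.1, -a.2) ↔ 3 ∣ (a.1 : ℕ) + (b.1 : ℕ) ∧ 3 ∣ (a.2 : ℕ) + (b.2 : ℕ) := by
      obtain ⟨a1, a2⟩ := a
      obtain ⟨b1, b2⟩ := b
      fin_cases a1 <;> fin_cases a2 <;> fin_cases b1 <;> fin_cases b2 <;> decide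
    rw [hiff, e]
    constructor
    · intro hne
      by_contra hno
      exact hne (trace_order_three hS (hnon _ _ hno) (hreal _ (hnon _ _ hno)))
    · rintro ⟨⟨i, hi⟩, j, hj⟩
      obtain ⟨c, hc'⟩ := px_eq_one.mp (show
          px P (x ^ ((a.1 : ℕ) + (b.1 : ℕ)) * y ^ ((a.2 : ℕ) + (b.2 : ℕ))) = 1 by
        rw [hi, hj, map_mul, map_pow, map_pow, pow_mul, pow_mul, hX3, hY3, one_pow, one_pow, one_mul])
      have hc0 : c ≠ 0 := fun h0 => by
        have := Matrix.GeneralLinearGroup.det_ne_zero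
          ((x ^ ((a.1 : ℕ) + (b.1 : ℕ)) * y ^ ((a.2 : ℕ) + (b.2 : ℕ)) : P) : GL (Fin 3) F)
        rw [hc', h0, zero_smul, Matrix.det_zero] at this
        exact this rfl
      rw [hc', Matrix.trace_smul, Matrix.trace_one, Fintype.card_fin, smul_eq_mul]
      exact mul_ne_zero hc0 (by exact_mod_cast h3)
  have hli : LinearIndependent F v := by
    rw [Fintype.linearIndependent_iff]
    intro g hg a
    have := congrArg (fun M => (M * v (-a.1, -a.2)).trace) hg
    simp only [Finset.sum_mul, Matrix.trace_sum, smul_mul_assoc, Matrix.trace_smul, smul_eq_mul,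
      zero_mul, Matrix.trace_zero] at this
    rw [Finset.sum_eq_single a ?_ (fun h => absurd (Finset.mem_univ a) h)] at this
    · exact (mul_eq_zero.mp this).resolve_right ((hpair a _).mpr rfl)
    · intro b _ hb
      refine mul_eq_zero_of_right _ (by_contra fun h => hb ?_)
      have := (hpair b _).mp h
      simp only [Prod.mk.injEq, neg_inj] at this
      exact Prod.ext this.1.symm this.2.symm
  have hspan : Submodule.span F (Set.range v) = ⊤ :=
    hli.span_eq_top_of_card_eq_finrank' (by simp [Module.finrank_matrix])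
  have hxc : ∀ a, ((x : GL (Fin 3) F) : M3) * v a = v a * ((x : GL (Fin 3) F) : M3) := by
    intro a
    have := ((Commute.refl x).pow_right (a.1 : ℕ)).mul_right (hcomm.pow_right (a.2 : ℕ))
    exact congrArg (fun z : P => ((z : GL (Fin 3) F) : M3)) this.eq
  obtain ⟨c, hc'⟩ := hS.abs.2 ((x : GL (Fin 3) F) : M3) fun s _ => by
    clear * - hspan hxc
    have hs : s ∈ Submodule.span F (Set.range v) := hspan ▸ Submodule.mem_top
    induction hs using Submodule.span_induction with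
    | mem z hz => obtain ⟨a, rfl⟩ := hz; exact hxc a
    | zero => simp
    | add u w _ _ hu hw => simp [mul_add, add_mul, hu, hw]
    | smul d u _ hu => simp [hu]
  rw [px_eq_one.mpr ⟨c, hc'⟩, orderOf_one] at hU
  norm_num at hU

/-- Two independent commuting classes of order three give a scalar of order three. -/
theorem exists_omega_of_pair (hS : Setting P) (h3 : (3 : F) ≠ 0)
    (hreal : ∀ X : PX P, orderOf X = 3 → RealElt X)
    {U V : PX P} (hU : orderOf U = 3) (hV : orderOf V = 3) (hc : U * V = V * U)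
    (hind : ∀ i : ℕ, V ≠ U ^ i) :
    ∃ z ∈ P, ∃ w : F, (z : M3) = w • 1 ∧ w ≠ 1 ∧ w ^ 3 = 1 := by
  obtain ⟨x, rfl⟩ := px_surjective U
  obtain ⟨y, rfl⟩ := px_surjective V
  obtain ⟨w, hw⟩ := px_eq_one.mp (show px P ⁅x, y⁆ = 1 by
    rw [commutatorElement_def, map_mul, map_mul, map_mul, map_inv, map_inv, hc]; group)
  refine ⟨_, (⁅x, y⁆ : P).2, w, hw, fun h1 => ?_, hS.scalar_cube (⁅x, y⁆ : P).2 hw⟩
  rw [h1, one_smul] at hw
  exact not_commute_of_pair hS h3 hreal hU hV hind
    (commutatorElement_eq_one_iff_mul_comm.mp (Subtype.ext (Units.ext hw)))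

theorem pair6 : (mk ![1,2,0,3,4,5] ![2,0,1,3,4,5] : Perm (Fin 6)) ^ 3 = 1 ∧
    (mk ![0,1,2,4,5,3] ![0,1,2,5,3,4] : Perm (Fin 6)) ^ 3 = 1 ∧
    (mk ![1,2,0,3,4,5] ![2,0,1,3,4,5] : Perm (Fin 6)) * mk ![0,1,2,4,5,3] ![0,1,2,5,3,4] =
      mk ![0,1,2,4,5,3] ![0,1,2,5,3,4] * mk ![1,2,0,3,4,5] ![2,0,1,3,4,5] ∧
    (∀ i < 3, (mk ![0,1,2,4,5,3] ![0,1,2,5,3,4] : Perm (Fin 6)) ≠ (mk ![1,2,0,3,4,5] ![2,0,1,3,4,5]) ^ i) ∧
    Perm.sign (mk ![1,2,0,3,4,5] ![2,0,1,3,4,5] : Perm (Fin 6)) = 1 ∧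
    Perm.sign (mk ![0,1,2,4,5,3] ![0,1,2,5,3,4] : Perm (Fin 6)) = 1 := by decide +kernel

theorem pair7 : (mk ![1,2,0,3,4,5,6] ![2,0,1,3,4,5,6] : Perm (Fin 7)) ^ 3 = 1 ∧
    (mk ![0,1,2,4,5,3,6] ![0,1,2,5,3,4,6] : Perm (Fin 7)) ^ 3 = 1 ∧
    (mk ![1,2,0,3,4,5,6] ![2,0,1,3,4,5,6] : Perm (Fin 7)) * mk ![0,1,2,4,5,3,6] ![0,1,2,5,3,4,6] =
      mk ![0,1,2,4,5,3,6] ![0,1,2,5,3,4,6] * mk ![1,2,0,3,4,5,6] ![2,0,1,3,4,5,6] ∧
    (∀ i < 3, (mk ![0,1,2,4,5,3,6] ![0,1,2,5,3,4,6] : Perm (Fin 7)) ≠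
      (mk ![1,2,0,3,4,5,6] ![2,0,1,3,4,5,6]) ^ i) ∧
    Perm.sign (mk ![1,2,0,3,4,5,6] ![2,0,1,3,4,5,6] : Perm (Fin 7)) = 1 ∧
    Perm.sign (mk ![0,1,2,4,5,3,6] ![0,1,2,5,3,4,6] : Perm (Fin 7)) = 1 := by decide +kernel

theorem exists_pair_alt {n : ℕ} {G : Type*} [Group G] (e : G ≃* alternatingGroup (Fin n))
    {u v : Perm (Fin n)} (h : u ^ 3 = 1 ∧ v ^ 3 = 1 ∧ u * v = v * u ∧ (∀ i < 3, v ≠ u ^ i) ∧
      Perm.sign u = 1 ∧ Perm.sign v = 1) (hu1 : u ≠ 1) :
    ∃ U V : G, orderOf U = 3 ∧ orderOf V = 3 ∧ U * V = V * U ∧ ∀ i : ℕ, V ≠ U ^ i := by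
  obtain ⟨hu, hv, hc, hi, su, sv⟩ := h
  haveI : Fact (Nat.Prime 3) := ⟨Nat.prime_three⟩
  set a : alternatingGroup (Fin n) := ⟨u, Perm.mem_alternatingGroup.mpr su⟩
  set b : alternatingGroup (Fin n) := ⟨v, Perm.mem_alternatingGroup.mpr sv⟩
  have ha3 : a ^ 3 = 1 := Subtype.ext hu
  have hb1 : b ≠ 1 := fun h => hi 0 (by norm_num) (by rw [pow_zero]; exact congrArg Subtype.val h)
  have hab : ∀ i : ℕ, b ≠ a ^ i := fun i h => by
    rw [pow_eq_pow_mod i ha3] at h
    exact hi _ (Nat.mod_lt _ (by norm_num)) (congrArg Subtype.val h)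
  have ha1 : a ≠ 1 := fun h => hu1 (congrArg Subtype.val h)
  have ho : ∀ x : alternatingGroup (Fin n), orderOf (e.symm x) = orderOf x := fun x =>
    orderOf_injective e.symm.toMonoidHom e.symm.injective x
  refine ⟨e.symm a, e.symm b, (ho a).trans (orderOf_eq_prime ha3 ha1),
    (ho b).trans (orderOf_eq_prime (Subtype.ext hv) hb1), ?_, fun i h => ?_⟩
  · rw [← map_mul, ← map_mul, show a * b = b * a from Subtype.ext hc]
  · rw [← map_pow] at h
    exact hab i (e.symm.injective h)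

end Cfsg.Agent.Linear.Mitchell.Socle
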