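import Cfsg.Agent.Linear.Mitchell.Socle.Common
import Cfsg.Agent.Linear.Mitchell.Transport

/-!
The automorphisms of the groups of order 168 and 2520 which preserve traces are inner.
-/

set_option autoImplicit false
set_option linter.style.haveILetI false
set_option linter.unusedSectionVars false

namespace Cfsg.Agent.Linear.Mitchell.Socle

open scoped MatrixGroups Matrix
open Cfsg.Geo

/-- An automorphism fixing the class of `z` is inner. -/
theorem PairData.exists_inner {G : Type*} [Group G] {z b : G} {ks : List (ℕ × ℕ)}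
    (d : PairData z b ks) (θ : G ≃* G) (hne : ∀ g, g * z⁻¹ * g⁻¹ ≠ θ z) :
    ∃ g, ∀ x, θ x = g * x * g⁻¹ := by
  have ho : ∀ x, orderOf (θ x) = orderOf x := fun x => orderOf_injective θ.toMonoidHom θ.injective x
  obtain ⟨g, hg⟩ : ∃ g, g * z * g⁻¹ = θ z := by
    obtain ⟨g, h | h⟩ := d.cls (θ z) ((ho z).trans d.oz)
    · exact ⟨g, h⟩
    · exact absurd h (hne g)
  obtain ⟨k, hk⟩ := d.inner (g⁻¹ * θ b * g) (by
      have := orderOf_injective (MulAut.conj g⁻¹).toMonoidHom (MulAut.conj g⁻¹).injective (θ b)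
      simpa using this.trans ((ho b).trans d.ob)) (fun k hk => by
    have e : z ^ k.1 * (g⁻¹ * θ b * g) = g⁻¹ * θ (z ^ k.1 * b) * g⁻¹⁻¹ := by
      rw [map_mul, map_pow, ← hg, conj_pow]; group
    rw [e, conj_pow, ← map_pow, orderOf_dvd_iff_pow_eq_one.mp (by rw [d.words k hk]), map_one]
    group)
  refine ⟨g * z ^ k, fun x => ?_⟩
  have hcl : Set.EqOn θ.toMonoidHom (MulAut.conj (g * z ^ k)).toMonoidHom ({z, b} : Set G) := by
    rintro y (hy | hy) <;> rw [hy]
    · show θ z = g * z ^ k * z * (g * z ^ k)⁻¹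
      rw [← hg]; group
    · show θ b = g * z ^ k * b * (g * z ^ k)⁻¹
      rw [show g * z ^ k * b * (g * z ^ k)⁻¹ = g * (z ^ k * b * (z ^ k)⁻¹) * g⁻¹ by group, hk]
      group
  exact MonoidHom.eqOn_closure hcl (show x ∈ Subgroup.closure ({z, b} : Set G) from d.gen ▸ Subgroup.mem_top x)

variable {F : Type*} [Field F] [Fintype F] {P : Subgroup (GL (Fin 3) F)} {h : GL (Fin 3) F}

local notation "M3" => Matrix (Fin 3) (Fin 3) F

/-- Conjugation on `P`. -/
noncomputable def conjEquiv (hn : ∀ x ∈ P, h * x * h⁻¹ ∈ P) : P ≃* P :=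
  MulEquiv.ofBijective
    ({ toFun := fun x => ⟨h * x * h⁻¹, hn x x.2⟩
       map_one' := Subtype.ext (by simp)
       map_mul' := fun x y => Subtype.ext (by simp) } : P →* P)
    (Finite.injective_iff_bijective.mp fun x y e => Subtype.ext (by
      simpa using congrArg Subtype.val e))

theorem conjEquiv_apply (hn : ∀ x ∈ P, h * x * h⁻¹ ∈ P) (x : P) :
    ((conjEquiv hn x : P) : GL (Fin 3) F) = h * x * h⁻¹ := rfl

/-- The automorphism induced modulo scalars. -/
noncomputable def indAut (hn : ∀ x ∈ P, h * x * h⁻¹ ∈ P) : PX P ≃* PX P :=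
  QuotientGroup.congr _ _ (conjEquiv hn) (by
    ext x
    constructor
    · rintro ⟨y, hy, rfl⟩
      exact (conj_scalar_iff h _).mpr hy
    · intro hx
      obtain ⟨y, rfl⟩ := (conjEquiv hn).surjective x
      exact ⟨y, (conj_scalar_iff h _).mp hx, rfl⟩)

theorem indAut_px (hn : ∀ x ∈ P, h * x * h⁻¹ ∈ P) (x : P) :
    indAut hn (px P x) = px P ⟨h * x * h⁻¹, hn x x.2⟩ := rfl

/-- An element inducing an inner automorphism lies in `P` up to a scalar. -/
theorem eq_smul_of_inner (hS : Setting P) (hn : ∀ x ∈ P, h * x * h⁻¹ ∈ P) {g : P}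
    (hg : ∀ x : P, indAut hn (px P x) = px P g * px P x * (px P g)⁻¹) :
    ∃ c : F, (h : M3) = c • ((g : GL (Fin 3) F) : M3) := by
  set k : GL (Fin 3) F := (g : GL (Fin 3) F)⁻¹ * h with hk
  have hc : ∀ x : P, ∃ c : Fˣ, ((k * x * k⁻¹ * (x : GL (Fin 3) F)⁻¹ : GL (Fin 3) F) : M3) = (c : F) • 1 := by
    intro x
    have hx := hg x
    rw [indAut_px, ← map_inv, ← map_mul, ← map_mul] at hx
    set y : P := g⁻¹ * ⟨h * x * h⁻¹, hn x x.2⟩ * g * x⁻¹
    have hy : px P y = 1 := by
      simp only [y, map_mul, map_inv, hx]; group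
    have := Subgroup.mem_subgroupOf.mp ((QuotientGroup.eq_one_iff y).mp hy)
    rw [show k * x * k⁻¹ * (x : GL (Fin 3) F)⁻¹ = (y : GL (Fin 3) F) by simp [y, hk, mul_assoc]]
    exact (mem_scalars_iff _).mp this
  choose c hc using hc
  have hcm : ∀ (x : P), ((k * x * k⁻¹ : GL (Fin 3) F) : M3) = (c x : F) • ((x : GL (Fin 3) F) : M3) := by
    intro x
    have := congrArg (· * ((x : GL (Fin 3) F) : M3)) (hc x)
    rw [← Units.val_mul, inv_mul_cancel_right] at this
    simpa using this
  let f : P →* Fˣ :=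
    { toFun := c
      map_one' := by
        ext
        have := congrFun (congrFun (hc 1) 0) 0
        simpa using this.symm
      map_mul' := fun x y => by
        ext
        have e : ((k * (x * y : P) * k⁻¹ : GL (Fin 3) F) : M3) =
            ((c x * c y : Fˣ) : F) • (((x * y : P) : GL (Fin 3) F) : M3) := by
          rw [Subgroup.coe_mul, show k * ((x : GL (Fin 3) F) * y) * k⁻¹ = (k * x * k⁻¹) * (k * y * k⁻¹) by group,
            Units.val_mul, hcm, hcm, smul_mul_smul_comm, Units.val_mul, Units.val_mul]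
        rw [hcm] at e
        have h1 := congrArg (· * ((((x * y : P) : GL (Fin 3) F)⁻¹ : GL (Fin 3) F) : M3)) e
        simp only [smul_mul_assoc, Units.mul_inv] at h1
        exact (scalar_unique hS h1) }
  have hf : ∀ x, c x = 1 := fun x => hS.hom_eq_one f x
  obtain ⟨d, hd⟩ := hS.scalar_of_commute (X := (k : M3)) fun x hx => by
    have := hcm ⟨x, hx⟩
    rw [hf, Units.val_one, one_smul] at this
    have e : k * x * k⁻¹ = x := Units.ext this
    have e2 : x * k = k * x := by
      calc x * k = k * x * k⁻¹ * k := by rw [e]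
        _ = k * x := by group
    exact congrArg Units.val e2
  refine ⟨d, ?_⟩
  have : h = (g : GL (Fin 3) F) * k := by rw [hk]; group
  rw [this, Units.val_mul, hd, mul_smul_comm, mul_one]

/-- Elements normalising a group of order 168 or 2520 (`p ≠ 7`) lie in it up to scalars. -/
theorem mem_smul_of_pair (p : ℕ) [Fact p.Prime] [CharP F p] (hS : Setting P) (hp : p ≠ 7)
    (hs : projCard P = 168 ∨ projCard P = 2520) (hn : ∀ x ∈ P, h * x * h⁻¹ ∈ P) :
    ∃ g ∈ P, ∃ c : F, (h : M3) = c • (g : M3) := by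
  haveI := hS.simple
  obtain ⟨z, b, ks, d⟩ : ∃ (z b : PX P) (ks : List (ℕ × ℕ)), PairData z b ks := by
    rcases hs with e | e
    · obtain ⟨z, b, d⟩ := exists_168Data (G := PX P) e
      exact ⟨z, b, _, d⟩
    · obtain ⟨i⟩ := iso_seven hS e
      obtain ⟨z, b, d⟩ := exists_sevenData
      exact ⟨_, _, _, d.map i.symm⟩
  have hne : ∀ g, g * z⁻¹ * g⁻¹ ≠ indAut hn z := by
    intro G hG
    rcases (IsSmall.profile (hs.elim Or.inl (Or.inr ∘ Or.inr)) hS) z with rfl | ⟨n, hn', ho, -⟩ | ⟨ho, hsq⟩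
    · simpa using d.oz
    · have hm := realOrders_mem _ n hn'
      rw [d.oz] at ho
      simp at hm
      omega
    obtain ⟨w, hw, hpw, h1, h2⟩ := exists_sq_lift hS hsq
    obtain ⟨hr1, hr2⟩ := root7_of_lift hS ho hw hpw h1 h2
    obtain ⟨g, rfl⟩ := px_surjective G
    subst hw
    rw [indAut_px, ← map_inv, ← map_inv, ← map_mul, ← map_mul] at hG
    have h7 := hpw 7 (ho ▸ pow_orderOf_eq_one _)
    have := lift_unique hS hG (n := 7) (by norm_num)
      (by simp only [Subgroup.coe_mul, Subgroup.coe_inv]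
          rw [conj_pow, inv_pow, h7]; simp)
      (by rw [conj_pow, h7]; simp)
    have htr := congrArg (fun x : P => tr (x : GL (Fin 3) F)) this
    simp only [Subgroup.coe_mul, Subgroup.coe_inv, tr_conj hS] at htr
    rw [hr1] at htr
    have h70 : (7 : F) = 0 := by
      linear_combination 4 * hr2 + (2 * tr (w : GL (Fin 3) F) + 1) * htr
    exact hp ((Nat.prime_dvd_prime_iff_eq Fact.out (by norm_num)).mp
      ((CharP.cast_eq_zero_iff F p 7).mp (by exact_mod_cast h70)))
  obtain ⟨G, hG⟩ := d.exists_inner (indAut hn) hne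
  obtain ⟨g, rfl⟩ := px_surjective G
  obtain ⟨c, hc⟩ := eq_smul_of_inner hS hn fun x => hG _
  exact ⟨_, g.2, c, hc⟩

end Cfsg.Agent.Linear.Mitchell.Socle
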