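import Cfsg.Agent.Linear.Mitchell.Socle.FiveModel
import Cfsg.Agent.Linear.Mitchell.Socle.Induced
import Mathlib.LinearAlgebra.Trace

/-!
The group of order 168 is not the socle of a maximal subgroup of `SU₃(5)`.
-/

set_option autoImplicit false
set_option linter.style.haveILetI false
set_option linter.unusedSectionVars false

namespace Cfsg.Agent.Linear.Mitchell.Socle

open scoped MatrixGroups Matrix
open Cfsg.Geo Cfsg.Agent.Aschbacher Five

variable {F : Type*} [Field F] [Fintype F]

local notation "M3" => Matrix (Fin 3) (Fin 3) F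

/-- The stabiliser of a set of lines. -/
noncomputable def lineStab (Φ : Set (Fin 3 → F)) : Subgroup (GL (Fin 3) F) where
  carrier := {g | ∀ y ∈ Φ, ∃ y' ∈ Φ, ∃ c : F, c ≠ 0 ∧ (g : M3) *ᵥ y = c • y'}
  one_mem' := fun y hy => ⟨y, hy, 1, one_ne_zero, by simp⟩
  mul_mem' := by
    intro a b ha hb y hy
    obtain ⟨y', hy', c, hc, e⟩ := hb y hy
    obtain ⟨y'', hy'', d, hd, e'⟩ := ha y' hy'
    exact ⟨y'', hy'', c * d, mul_ne_zero hc hd, by
      rw [Units.val_mul, ← Matrix.mulVec_mulVec, e, Matrix.mulVec_smul, e', smul_smul]⟩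
  inv_mem' := by
    intro a ha
    have hpow : ∀ n : ℕ, ∀ y ∈ Φ, ∃ y' ∈ Φ, ∃ c : F, c ≠ 0 ∧ ((a ^ n : GL (Fin 3) F) : M3) *ᵥ y = c • y' := by
      intro n
      induction n with
      | zero => exact fun y hy => ⟨y, hy, 1, one_ne_zero, by simp⟩
      | succ n ih =>
        intro y hy
        obtain ⟨y', hy', c, hc, e⟩ := ih y hy
        obtain ⟨y'', hy'', d, hd, e'⟩ := ha y' hy'
        exact ⟨y'', hy'', c * d, mul_ne_zero hc hd, by
          rw [pow_succ', Units.val_mul, ← Matrix.mulVec_mulVec, e, Matrix.mulVec_smul, e', smul_smul]⟩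
    have e : a⁻¹ = a ^ (orderOf a - 1) := by
      refine inv_eq_of_mul_eq_one_right ?_
      rw [← pow_succ', Nat.sub_add_cancel (orderOf_pos a), pow_orderOf_eq_one]
    show ∀ y ∈ Φ, _
    rw [e]
    exact hpow _

theorem mem_lineStab {Φ : Set (Fin 3 → F)} {g : GL (Fin 3) F} :
    g ∈ lineStab Φ ↔ ∀ y ∈ Φ, ∃ y' ∈ Φ, ∃ c : F, c ≠ 0 ∧ (g : M3) *ᵥ y = c • y' := Iff.rfl

theorem smul_mem_lineStab {Φ : Set (Fin 3 → F)} {g h : GL (Fin 3) F} (hg : g ∈ lineStab Φ) {c : F}
    (hc : c ≠ 0) (he : (h : M3) = c • (g : M3)) : h ∈ lineStab Φ := fun y hy => by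
  obtain ⟨y', hy', d, hd, e⟩ := hg y hy
  exact ⟨y', hy', c * d, mul_ne_zero hc hd, by rw [he, Matrix.smul_mulVec, e, smul_smul]⟩

/-- The image of a certified point set under a change of basis. -/
def ptSet (o : F) [CharP F 5] (T : M3) (L : List V) : Set (Fin 3 → F) :=
  {y | ∃ w ∈ L, y = T *ᵥ vval o w}

theorem mem_lineStab_ptSet [CharP F 5] {o : F} {T : GL (Fin 3) F} {g : GL (Fin 3) F} {M : Mx} {L : List V}
    (hg : (g : M3) * (T : M3) = (T : M3) * mval o M)
    (hM : ∀ v ∈ L, ∃ w ∈ L, ∃ c : F, c ≠ 0 ∧ mval o M *ᵥ vval o v = c • vval o w) :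
    g ∈ lineStab (ptSet o (T : M3) L) := by
  rintro _ ⟨v, hv, rfl⟩
  obtain ⟨w, hw, c, hc, e⟩ := hM v hv
  exact ⟨_, ⟨w, hw, rfl⟩, c, hc, by
    rw [Matrix.mulVec_mulVec, hg, ← Matrix.mulVec_mulVec, e, Matrix.mulVec_smul]⟩

theorem not_mem_lineStab_ptSet [CharP F 5] {o : F} {T : GL (Fin 3) F} {g : GL (Fin 3) F} {M : Mx}
    {L : List V} (hg : (g : M3) * (T : M3) = (T : M3) * mval o M) {v : V} (hv : v ∈ L)
    (hM : ∀ w ∈ L, ∀ c : F, mval o M *ᵥ vval o v ≠ c • vval o w) :
    g ∉ lineStab (ptSet o (T : M3) L) := by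
  intro h
  obtain ⟨_, ⟨w, hw, rfl⟩, c, -, e⟩ := h _ ⟨v, hv, rfl⟩
  refine hM w hw c ?_
  rw [Matrix.mulVec_mulVec, hg, ← Matrix.mulVec_mulVec, ← Matrix.mulVec_smul] at e
  have := congrArg (((T⁻¹ : GL (Fin 3) F) : M3) *ᵥ ·) e
  simpa [Matrix.mulVec_mulVec, ← Units.val_mul, ← mul_assoc] using this

theorem rank_one_of_involution [CharP F 5] {a : M3} (h2 : a * a = 1) (ht : a.trace = -1) :
    ∃ v : Fin 3 → F, v ≠ 0 ∧ a *ᵥ v = v ∧ ∀ w, ∃ c : F, (a + 1) *ᵥ w = c • v := by
  haveI : Fact (Nat.Prime 5) := ⟨by norm_num⟩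
  have h20 := two_ne_zero_char (F := F) 5 (by norm_num)
  set e : M3 := (2 : F)⁻¹ • (a + 1) with he
  have hee : e * e = e := by
    rw [he, smul_mul_smul_comm, show (a + 1) * (a + 1) = (2 : F) • (a + 1) by
      simp only [add_mul, mul_add, h2, one_mul, mul_one]; module, smul_smul]
    congr 1
    field_simp
  let f := Matrix.toLin' e
  have hproj : LinearMap.IsProj f.range f := ⟨fun x => ⟨x, rfl⟩, fun x ⟨y, hy⟩ => by
    rw [← hy, Matrix.toLin'_apply, Matrix.toLin'_apply, Matrix.mulVec_mulVec, hee]⟩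
  have htr := hproj.trace
  rw [Matrix.trace_toLin'_eq] at htr
  have hte : e.trace = 1 := by
    rw [he, Matrix.trace_smul, Matrix.trace_add, ht, Matrix.trace_one, Fintype.card_fin, smul_eq_mul]
    push_cast
    field_simp
    norm_num
  rw [hte] at htr
  have hle : Module.finrank F f.range ≤ 3 := by
    have := Submodule.finrank_le f.range
    simpa using this
  have hr : Module.finrank F f.range = 1 := by
    by_contra hne
    have hmod := (CharP.natCast_eq_natCast F 5 (a := Module.finrank F f.range) (b := 1)).mp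
      (by rw [← htr, Nat.cast_one])
    unfold Nat.ModEq at hmod
    omega
  obtain ⟨⟨v, hv⟩, hv0, hspan⟩ := finrank_eq_one_iff'.mp hr
  have hv0' : v ≠ 0 := fun h => hv0 (Subtype.ext h)
  have hev : e *ᵥ v = v := hproj.map_id v hv
  refine ⟨v, hv0', ?_, fun w => ?_⟩
  · have : (a + 1) *ᵥ v = (2 : F) • v := by
      conv_rhs => rw [← hev, he, Matrix.smul_mulVec, smul_smul, mul_inv_cancel₀ h20, one_smul]
    rw [Matrix.add_mulVec, Matrix.one_mulVec, two_smul] at this
    exact add_right_cancel this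
  · obtain ⟨c, hc⟩ := hspan ⟨e *ᵥ w, ⟨w, rfl⟩⟩
    refine ⟨2 * c, ?_⟩
    have hc' : c • v = e *ᵥ w := congrArg Subtype.val hc
    rw [mul_smul, hc', he, Matrix.smul_mulVec, smul_smul, mul_inv_cancel₀ h20, one_smul]

theorem gtr_mem_closure {σ : F ≃+* F} {G : M3} {S : Set (GL (Fin 3) F)}
    (hS : ∀ g ∈ S, gtr σ G (g : M3) = G) {g : GL (Fin 3) F} (hg : g ∈ Subgroup.closure S) :
    gtr σ G (g : M3) = G := by
  induction hg using Subgroup.closure_induction with
  | mem x hx => exact hS x hx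
  | one => simp [gtr]
  | mul x y _ _ hx hy =>
    simp only [gtr, Units.val_mul, Matrix.transpose_mul, Matrix.map_mul] at hx hy ⊢
    calc _ = (y : M3)ᵀ * ((x : M3)ᵀ * G * (x : M3).map σ) * (y : M3).map σ := by simp [mul_assoc]
      _ = G := by rw [hx, hy]
  | inv x _ hx =>
    simp only [gtr] at hx ⊢
    conv_lhs => rw [← hx]
    have e1 : ((x⁻¹ : GL (Fin 3) F) : M3)ᵀ * (x : M3)ᵀ = 1 := by
      rw [← Matrix.transpose_mul, ← Units.val_mul, mul_inv_cancel, Units.val_one, Matrix.transpose_one]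
    have e2 : (x : M3).map σ * ((x⁻¹ : GL (Fin 3) F) : M3).map σ = 1 := by
      rw [← Matrix.map_mul, ← Units.val_mul, mul_inv_cancel, Units.val_one]; simp
    calc _ = (((x⁻¹ : GL (Fin 3) F) : M3)ᵀ * (x : M3)ᵀ) * G *
          ((x : M3).map σ * ((x⁻¹ : GL (Fin 3) F) : M3).map σ) := by simp only [mul_assoc]
      _ = G := by rw [e1, e2, one_mul, mul_one]

/-- The exclusion. -/
theorem false_of_168_five [CharP F 5] (hF : Fintype.card F = 5 ^ 2) {H P : Subgroup (GL (Fin 3) F)}
    (hH : IsMaximalIn (GU 3 F 5 ⊓ specialLinear (Fin 3) F) H) (hS : Setting P) (hle : P ≤ H)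
    (hn : ∀ h ∈ H, ∀ x ∈ P, h * x * h⁻¹ ∈ P) (h : projCard P = 168) : False := by
  haveI : Fact (Nat.Prime 5) := ⟨by norm_num⟩
  haveI := hS.simple
  have hinj : Function.Injective (px P) := by
    rw [injective_iff_map_eq_one]
    intro x hx
    obtain ⟨c, hc⟩ := px_eq_one.mp hx
    exact Subtype.ext (Units.ext (by rw [hc, scalar_eq_one_168 hS h x.2 hc, one_smul]; rfl))
  obtain ⟨Z, B, d⟩ := exists_168Data (G := PX P) h
  obtain ⟨zl, hz⟩ := px_surjective Z
  obtain ⟨al, ha⟩ := px_surjective B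
  have ha2 : al ^ 2 = 1 := hinj (by rw [map_pow, ha, map_one]; exact orderOf_dvd_iff_pow_eq_one.mp (by rw [d.ob]))
  set bl : P := zl * al with hbl
  have hb3 : bl ^ 3 = 1 := hinj (by
    rw [map_pow, hbl, map_mul, hz, ha, map_one]
    refine orderOf_dvd_iff_pow_eq_one.mp ?_
    have := d.words (1, 3) (by simp)
    rw [pow_one] at this
    rw [this])
  have hroot : Root7 (tr (zl : GL (Fin 3) F)) (tr ((zl : GL (Fin 3) F))⁻¹) := by
    rcases profile_168 h Z with e | ⟨n, hn', e, -⟩ | ⟨e, hq⟩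
    · have := d.oz; rw [e, orderOf_one] at this; norm_num at this
    · have := d.oz; rw [e] at this; subst this; simp at hn'
    obtain ⟨w, hw, hp, h1, h2⟩ := exists_sq_lift hS hq
    obtain rfl : w = zl := hinj (hw.trans hz.symm)
    exact root7_of_lift hS e hw hp h1 h2
  obtain ⟨hu, hs⟩ := hroot
  set s := tr (zl : GL (Fin 3) F) with hsdef
  set a : GL (Fin 3) F := (al : GL (Fin 3) F) with hadef
  set b : GL (Fin 3) F := (bl : GL (Fin 3) F) with hbdef
  have ha2' : a * a = 1 := by
    have := congrArg Subtype.val ha2; rwa [Subgroup.coe_pow, sq] at this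
  have hainv : a⁻¹ = a := inv_eq_of_mul_eq_one_right ha2'
  have ha1 : a ≠ 1 := fun e => by
    have h1 : al = 1 := Subtype.ext e
    have := d.ob
    rw [← ha, h1, map_one, orderOf_one] at this
    norm_num at this
  have hta : tr a = -1 := trace_of_two (hS.det_eq_one al.2) (by rw [sq, ha2']) ha1
  obtain ⟨v, hv0, hav, hline⟩ := rank_one_of_involution (a := (a : M3))
    (by rw [← Units.val_mul, ha2', Units.val_one]) hta
  have hb3' : (b : M3) * ((b : M3) * (b : M3)) = 1 := by
    have := congrArg (fun x : P => ((x : GL (Fin 3) F) : M3)) hb3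
    simpa [pow_succ, mul_assoc] using this
  set cols : Fin 3 → (Fin 3 → F) := ![v, (b : M3) *ᵥ v, (b : M3) *ᵥ ((b : M3) *ᵥ v)] with hcols
  have hPgen : P = Subgroup.closure ({a, b} : Set (GL (Fin 3) F)) := by
    have hg : Subgroup.closure ({al, bl} : Set P) = ⊤ := by
      refine Subgroup.map_injective hinj ?_
      rw [Subgroup.map_top_of_surjective _ px_surjective, eq_top_iff, ← d.gen, Subgroup.closure_le]
      have h1 : B ∈ Subgroup.map (px P) (Subgroup.closure {al, bl}) :=
        ⟨al, Subgroup.subset_closure (by simp), ha⟩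
      have h2 : Z * B ∈ Subgroup.map (px P) (Subgroup.closure {al, bl}) :=
        ⟨bl, Subgroup.subset_closure (by simp), by rw [hbl, map_mul, hz, ha]⟩
      rintro x (rfl | rfl)
      · have := Subgroup.mul_mem _ h2 (Subgroup.inv_mem _ h1)
        rwa [mul_inv_cancel_right] at this
      · exact h1
    have := congrArg (Subgroup.map P.subtype) hg
    rw [MonoidHom.map_closure, ← MonoidHom.range_eq_map, Subgroup.range_subtype, Set.image_pair] at this
    exact this.symm
  -- the three vectors form a basis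
  set W := Submodule.span F (Set.range cols) with hW
  have hmem : ∀ i, cols i ∈ W := fun i => Submodule.subset_span ⟨i, rfl⟩
  have hWg : ∀ g ∈ P, W.map (Matrix.toLin' (g : M3)) ≤ W := by
    intro g hg
    rw [hPgen] at hg
    induction hg using Subgroup.closure_induction with
    | mem x hx =>
      rw [hW, Submodule.map_span, Submodule.span_le]
      rintro _ ⟨_, ⟨i, rfl⟩, rfl⟩
      rw [Matrix.toLin'_apply]
      rcases hx with rfl | rfl
      · obtain ⟨c, hc⟩ := hline (cols i)
        rw [Matrix.add_mulVec, Matrix.one_mulVec] at hc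
        rw [eq_sub_of_add_eq hc]
        exact W.sub_mem (W.smul_mem c (hmem 0)) (hmem i)
      · fin_cases i
        · exact hmem 1
        · exact hmem 2
        · show (b : M3) *ᵥ ((b : M3) *ᵥ ((b : M3) *ᵥ v)) ∈ W
          rw [Matrix.mulVec_mulVec, Matrix.mulVec_mulVec, mul_assoc, hb3', Matrix.one_mulVec]
          exact hmem 0
    | one => simp
    | mul x y _ _ hx hy =>
      rw [Units.val_mul, Matrix.toLin'_mul, Submodule.map_comp]
      exact (Submodule.map_mono hy).trans hx
    | inv x _ hx =>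
      have he : W.map (Matrix.toLin' (x : M3)) = W := by
        refine Submodule.eq_of_le_of_finrank_eq hx ?_
        refine (Submodule.equivMapOfInjective _ ?_ W).finrank_eq.symm
        intro u w huw
        have := congrArg (((x⁻¹ : GL (Fin 3) F) : M3) *ᵥ ·) huw
        simpa [Matrix.toLin'_apply, Matrix.mulVec_mulVec] using this
      conv_lhs => rw [← he]
      rw [← Submodule.map_comp, ← Matrix.toLin'_mul, ← Units.val_mul, inv_mul_cancel, Units.val_one,
        Matrix.toLin'_one, Submodule.map_id]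
  have htop : W = ⊤ := (hS.abs.1 W (by rintro _ ⟨g, hg, rfl⟩; exact hWg g hg)).resolve_left fun h0 =>
    hv0 (by have := hmem 0; rw [h0, Submodule.mem_bot] at this; exact this)
  have hli : LinearIndependent F cols :=
    linearIndependent_of_top_le_span_of_card_eq_finrank (by rw [← hW, htop]) (by simp)
  set Tm : M3 := Matrix.of fun i j => cols j i with hTm
  have hTu : IsUnit Tm := Matrix.linearIndependent_cols_iff_isUnit.mp hli
  set T : GL (Fin 3) F := hTu.unit with hTdef
  have hT : (T : M3) = Tm := hTu.unit_spec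
  obtain ⟨c1, hc1⟩ := hline (cols 1)
  obtain ⟨c2, hc2⟩ := hline (cols 2)
  let A0 : M3 := !![1, c1, c2; 0, -1, 0; 0, 0, -1]
  let B0 : M3 := !![0, 0, 1; 1, 0, 0; 0, 1, 0]
  have hcol : ∀ (M : M3) (j : Fin 3), ∀ i, (M * Tm) i j = (M *ᵥ cols j) i := fun M j i => rfl
  have hTA : (a : M3) * Tm = Tm * A0 := by
    rw [Matrix.add_mulVec, Matrix.one_mulVec] at hc1 hc2
    ext i j
    rw [hcol]
    have e1 := congrFun hc1 i
    have e2 := congrFun hc2 i
    simp only [Pi.add_apply, Pi.smul_apply, smul_eq_mul] at e1 e2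
    fin_cases j
    · simp [Matrix.mul_apply, Fin.sum_univ_three, A0, hTm, hcols, hav]
    · simp [Matrix.mul_apply, Fin.sum_univ_three, A0, hTm, hcols] at e1 ⊢
      linear_combination e1
    · simp [Matrix.mul_apply, Fin.sum_univ_three, A0, hTm, hcols] at e2 ⊢
      linear_combination e2
  have hTB : (b : M3) * Tm = Tm * B0 := by
    ext i j
    rw [hcol]
    fin_cases j
    · simp [Matrix.mul_apply, Fin.sum_univ_three, B0, hTm, hcols]
    · simp [Matrix.mul_apply, Fin.sum_univ_three, B0, hTm, hcols]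
    · simp only [hcols]
      show ((b : M3) *ᵥ ((b : M3) *ᵥ ((b : M3) *ᵥ v))) i = _
      rw [Matrix.mulVec_mulVec, Matrix.mulVec_mulVec, mul_assoc, hb3', Matrix.one_mulVec]
      simp [Matrix.mul_apply, Fin.sum_univ_three, B0, hTm, hcols]
  have htc : ∀ (M N : M3), M * Tm = Tm * N → M.trace = N.trace := fun M N e => by
    rw [← hT] at e
    have : M = (T : M3) * N * ((T⁻¹ : GL (Fin 3) F) : M3) := by rw [← e]; simp
    rw [this, Matrix.trace_mul_comm, ← mul_assoc, Units.inv_mul, one_mul]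
  have hc1s : c1 = s := by
    have e := htc ((a : M3) * (b : M3)) (A0 * B0) (by rw [mul_assoc, hTB, ← mul_assoc, hTA, mul_assoc])
    rw [← Units.val_mul, show a * b = a * (zl : GL (Fin 3) F) * a⁻¹ by
      rw [hainv, hbdef, hbl, Subgroup.coe_mul, mul_assoc]] at e
    rw [hsdef, ← tr_conj hS a (zl : GL (Fin 3) F), tr, e]
    simp [A0, B0, Matrix.trace_fin_three]
  have hc2u : c2 = -1 - s := by
    have e := htc ((a : M3) * ((b : M3) * (b : M3))) (A0 * (B0 * B0)) (by
      rw [mul_assoc, mul_assoc, hTB, ← mul_assoc (b : M3), hTB, mul_assoc Tm, ← mul_assoc (a : M3), hTA, mul_assoc])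
    rw [← Units.val_mul, Matrix.trace_mul_comm, ← Units.val_mul] at e
    have hzi : (zl : GL (Fin 3) F)⁻¹ = a * (b * b) := by
      refine inv_eq_of_mul_eq_one_right ?_
      have hz' : (zl : GL (Fin 3) F) = b * a := by
        rw [hbdef, hbl, Subgroup.coe_mul, mul_assoc, ha2', mul_one]
      have e3 : b * (b * b) = 1 := Units.ext (by simpa using hb3')
      rw [hz', mul_assoc, ← mul_assoc a, ha2', one_mul, e3]
    rw [← hu, ← tr_conj hS a ((zl : GL (Fin 3) F))⁻¹, hzi, tr,
      show a * (a * (b * b)) * a⁻¹ = b * b * a by rw [hainv, ← mul_assoc a a, ha2', one_mul], e]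
    simp [A0, B0, Matrix.trace_fin_three]
  -- the coded model
  set o : F := s + 3 with hodef
  have h5 : (5 : F) = 0 := by exact_mod_cast CharP.cast_eq_zero F 5
  have ho : o ^ 2 = 2 := by rw [hodef]; linear_combination hs + (s + 1) * h5
  have hsw := seven_swap 5 hs (Or.inr (Or.inl rfl))
  have ho5 : o ^ 5 = -o := by
    rw [hodef, add_pow_char, hsw.1, show (3 : F) ^ 5 = 3 by
      have := natCast_pow_char (F := F) 5 3; exact_mod_cast this]
    linear_combination h5
  have ho0 : o ≠ 0 := fun h0 => two_ne_zero_char (F := F) 5 (by norm_num) (by rw [← ho, h0]; ring)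
  have hA : mval o matA = A0 := by
    ext i j
    fin_cases i <;> fin_cases j <;>
      simp [mval, matA, erow, eget, val, A0, hc1s, hc2u, hodef] <;>
      first
        | linear_combination h5
        | linear_combination (s + 3) * h5
        | linear_combination h5 * (1 : F)
  have hB : mval o matB = B0 := by
    ext i j
    fin_cases i <;> fin_cases j <;> simp [mval, matB, erow, eget, val, B0]
  obtain ⟨σ, hσ⟩ : ∃ σ : F ≃+* F, ∀ x, σ x = x ^ 5 := ⟨frob2 5, fun x => frob2_apply 5 x⟩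
  have hmap : ∀ M : M3, M.map σ = M.map (fun x => x ^ 5) := fun M => by
    ext i j; exact hσ _
  set G : M3 := mval o matG with hG
  set Ti : M3 := ((T⁻¹ : GL (Fin 3) F) : M3) with hTi
  have hTiT : Ti * (T : M3) = 1 := T.inv_mul
  set G0 : M3 := gtr σ G Ti with hG0
  have htrans : ∀ (g : GL (Fin 3) F) (M : M3), (g : M3) * (T : M3) = (T : M3) * M →
      gtr σ G M = G → gtr σ G0 (g : M3) = G0 := by
    intro g M e hM
    have e2 : Ti * (g : M3) = M * Ti := by
      calc Ti * (g : M3) = Ti * ((g : M3) * (T : M3)) * Ti := by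
            rw [mul_assoc, mul_assoc, hTi, T.mul_inv, mul_one]
        _ = M * Ti := by rw [e, ← mul_assoc, hTiT, one_mul]
    simp only [hG0, gtr] at hM ⊢
    calc _ = (Ti * (g : M3))ᵀ * G * (Ti * (g : M3)).map σ := by
          rw [Matrix.transpose_mul, Matrix.map_mul]; simp only [mul_assoc]
      _ = Tiᵀ * (Mᵀ * G * M.map σ) * Ti.map σ := by
          rw [e2, Matrix.transpose_mul, Matrix.map_mul]; simp only [mul_assoc]
      _ = _ := by rw [hM]
  have hiso : ∀ M ∈ [matA, matB, matC, matD], gtr σ G (mval o M) = G := fun M hM => by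
    rw [gtr, hmap]; exact (gram_of_check ho ho5 hM).1
  have hTA' : (a : M3) * (T : M3) = (T : M3) * mval o matA := by rw [hT, hTA, hA]
  have hTB' : (b : M3) * (T : M3) = (T : M3) * mval o matB := by rw [hT, hTB, hB]
  have hfix0 : ∀ x ∈ matrixSet P, gtr σ G0 x = G0 := by
    rintro _ ⟨g, hg, rfl⟩
    have hg' : g ∈ Subgroup.closure ({a, b} : Set (GL (Fin 3) F)) := hPgen ▸ hg
    refine gtr_mem_closure ?_ hg'
    rintro x (rfl | rfl)
    · exact htrans _ _ hTA' (hiso _ (by simp))
    · exact htrans _ _ hTB' (hiso _ (by simp))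
  have hGU : ∀ g : GL (Fin 3) F, g ∈ GU 3 F 5 ↔ gtr σ (1 : M3) (g : M3) = 1 := by
    intro g
    rw [Unitary.Asch.mem_GU_iff_hst hF, gtr, mul_one, hmap, Unitary.Asch.hst]
    constructor <;> intro e <;> simpa [Matrix.transpose_mul] using congrArg Matrix.transpose e
  obtain ⟨c, hc⟩ := invariant_unique hS.abs (G := (1 : M3)) isUnit_one
    (fun x ⟨g, hg, e⟩ => e ▸ (hGU g).mp (hH.1.le (hle hg)).1) hfix0
  have hGc : IsUnit G := by
    have e1 := (gram_of_check (o := o) ho ho5 (M := matA) (by simp)).1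
    rw [Matrix.isUnit_iff_isUnit_det, isUnit_iff_ne_zero, hG, det_mval ho]
    intro h0
    exact absurd (val_eq_zero ho5 ho0 ⟨by decide, by decide⟩ h0) (by decide)
  have hc0 : c ≠ 0 := by
    intro h0
    have hu : IsUnit G0 := by
      rw [hG0, gtr, Matrix.isUnit_iff_isUnit_det, Matrix.det_mul, Matrix.det_mul, Matrix.det_transpose]
      refine IsUnit.mul (IsUnit.mul ?_ ((Matrix.isUnit_iff_isUnit_det G).mp hGc)) ?_
      · exact (Matrix.isUnit_iff_isUnit_det Ti).mp (Units.isUnit _)
      · rw [show (Ti.map σ) = σ.toRingHom.mapMatrix Ti from rfl, ← RingHom.map_det]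
        exact ((Matrix.isUnit_iff_isUnit_det Ti).mp (Units.isUnit _)).map _
    rw [hc, h0, zero_smul] at hu
    exact not_isUnit_zero hu
  have hlift : ∀ M ∈ [matA, matB, matC, matD], ∃ g : GL (Fin 3) F,
      g ∈ GU 3 F 5 ⊓ specialLinear (Fin 3) F ∧ (g : M3) * (T : M3) = (T : M3) * mval o M := by
    intro M hM
    have hd : (mval o M).det = 1 := (gram_of_check ho ho5 hM).2
    refine ⟨T * Matrix.GeneralLinearGroup.mkOfDetNeZero (mval o M) (by rw [hd]; exact one_ne_zero) * T⁻¹,
      ⟨?_, ?_⟩, ?_⟩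
    · have := htrans (T * Matrix.GeneralLinearGroup.mkOfDetNeZero (mval o M) (by rw [hd]; exact one_ne_zero) * T⁻¹)
        (mval o M) (by rw [← Units.val_mul, inv_mul_cancel_right]; rfl) (hiso M hM)
      rw [hc, gtr_smul] at this
      exact (hGU _).mpr (smul_right_injective M3 hc0 this)
    · show Matrix.GeneralLinearGroup.det _ = 1
      rw [map_mul, map_mul, map_inv, mul_right_comm, mul_inv_cancel,
        one_mul, Units.ext_iff]
      exact hd
    · rw [← Units.val_mul, inv_mul_cancel_right]; rfl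
  obtain ⟨gC, hgC, hgC'⟩ := hlift matC (by simp)
  obtain ⟨gD, hgD, hgD'⟩ := hlift matD (by simp)
  have hmapA : ∀ {L : List V} {cs : List (ℕ × E)} {M : Mx}, checkCert M L L cs = true →
      ∀ w ∈ L, ∃ w' ∈ L, ∃ c : F, c ≠ 0 ∧ mval o M *ᵥ vval o w = c • vval o w' :=
    fun hck => maps_of_check ho ho5 ho0 _ _ hck
  have hHle : ∀ (L : List V) (csA csB : List (ℕ × E)), checkCert matA L L csA = true →
      checkCert matB L L csB = true → H ≤ lineStab (ptSet o (T : M3) L) := by
    intro L csA csB hA hB g hg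
    have hP : P ≤ lineStab (ptSet o (T : M3) L) := by
      rw [hPgen, Subgroup.closure_le]
      rintro x (rfl | rfl)
      · exact mem_lineStab_ptSet hTA' (hmapA hA)
      · exact mem_lineStab_ptSet hTB' (hmapA hB)
    obtain ⟨x, hx, d, hd⟩ := mem_smul_of_pair 5 hS (by norm_num) (Or.inl h) (hn g hg)
    refine smul_mem_lineStab (hP hx) (fun h0 => ?_) hd
    have := Matrix.GeneralLinearGroup.det_ne_zero g
    rw [hd, h0, zero_smul, Matrix.det_zero] at this
    exact this rfl
  rcases hH.2 (lineStab (ptSet o (T : M3) large) ⊓ (GU 3 F 5 ⊓ specialLinear (Fin 3) F))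
    (le_inf (hHle _ _ _ checkA checkB) hH.1.le) inf_le_right with e | e
  · have hCin : gC ∈ H := e ▸ ⟨mem_lineStab_ptSet hgC' (hmapA checkC), hgC⟩
    exact not_mem_lineStab_ptSet hgC' headLarge.2
      (fun w hw c => by rw [← vval_emv ho]; exact out_of_check ho ho5 ho0 outC w hw c)
      (hHle _ _ _ checkA21 checkB21 hCin)
  · exact not_mem_lineStab_ptSet hgD' headLarge.1
      (fun w hw c => by rw [← vval_emv ho]; exact out_of_check ho ho5 ho0 outD w hw c)
      (e.ge hgD).1

end Cfsg.Agent.Linear.Mitchell.Socle
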