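/-!
Coded data over the field of twenty-five elements: a pair is `a + b·√2`.
-/

set_option autoImplicit false

namespace Cfsg.Agent.Linear.Mitchell.Socle.Five

/-- Coded scalars. -/
abbrev E := Nat × Nat

/-- Coded vectors. -/
abbrev V := E × E × E

/-- Coded matrices, by rows. -/
abbrev Mx := V × V × V

/-- The involution. -/
def matA : Mx := (((1,0), (2,1), (2,4)),
    ((0,0), (4,0), (0,0)),
    ((0,0), (0,0), (4,0)))

/-- The element of order three. -/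
def matB : Mx := (((0,0), (0,0), (1,0)),
    ((1,0), (0,0), (0,0)),
    ((0,0), (1,0), (0,0)))

/-- The extra element of the larger group. -/
def matC : Mx := (((4,0), (0,0), (0,0)),
    ((0,2), (3,3), (2,4)),
    ((4,0), (1,4), (2,2)))

/-- An element outside the larger group. -/
def matD : Mx := (((4,0), (0,0), (0,0)),
    ((4,0), (2,3), (1,1)),
    ((0,3), (2,1), (3,2)))

/-- The invariant Gram matrix. -/
def matG : Mx := (((1,0), (1,2), (1,3)),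
    ((1,3), (1,0), (1,2)),
    ((1,2), (1,3), (1,0)))

/-- The orbit of length 21. -/
def small : List V := [
    ((1,0), (0,0), (0,0)), ((0,0), (1,0), (0,0)),
    ((1,0), (4,3), (0,0)), ((0,0), (0,0), (1,0)),
    ((0,0), (1,0), (4,3)), ((1,0), (0,0), (4,2)),
    ((1,0), (2,1), (4,0)), ((1,0), (0,0), (3,4)),
    ((1,0), (3,1), (0,0)), ((1,0), (4,0), (3,4)),
    ((0,0), (1,0), (3,1)), ((1,0), (1,3), (3,2)),
    ((1,0), (4,3), (1,2)), ((1,0), (4,0), (2,4)),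
    ((1,0), (3,3), (1,2)), ((1,0), (1,3), (4,2)),
    ((1,0), (3,1), (4,0)), ((1,0), (2,1), (2,4)),
    ((1,0), (1,3), (1,2)), ((1,0), (2,1), (3,2)),
    ((1,0), (3,3), (2,4))]

/-- The orbit of length 105. -/
def large : List V := [
    ((1,0), (0,0), (0,0)), ((0,0), (1,0), (0,0)),
    ((1,0), (0,3), (1,0)), ((1,0), (4,3), (0,0)),
    ((0,0), (0,0), (1,0)), ((0,0), (1,0), (4,4)),
    ((1,0), (1,0), (0,3)), ((0,0), (1,0), (4,3)),
    ((1,0), (0,2), (3,1)), ((1,0), (0,0), (4,2)),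
    ((1,0), (2,0), (3,3)), ((1,0), (0,0), (1,4)),
    ((1,0), (3,2), (2,4)), ((1,0), (0,1), (0,1)),
    ((1,0), (3,4), (3,0)), ((1,0), (2,1), (4,0)),
    ((1,0), (0,0), (3,4)), ((1,0), (4,4), (3,0)),
    ((1,0), (4,2), (3,3)), ((1,0), (3,1), (0,0)),
    ((1,0), (1,3), (0,3)), ((1,0), (3,2), (1,4)),
    ((1,0), (4,4), (1,0)), ((1,0), (0,0), (3,1)),
    ((1,0), (4,4), (0,0)), ((1,0), (1,1), (3,0)),
    ((1,0), (1,3), (0,1)), ((1,0), (2,1), (2,1)),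
    ((1,0), (1,3), (4,2)), ((1,0), (2,0), (4,3)),
    ((1,0), (2,0), (1,3)), ((1,0), (4,0), (3,4)),
    ((1,0), (0,3), (3,3)), ((1,0), (2,3), (4,1)),
    ((1,0), (3,2), (4,4)), ((1,0), (1,4), (1,2)),
    ((1,0), (3,2), (0,4)), ((1,0), (1,2), (3,0)),
    ((0,0), (1,0), (3,1)), ((1,0), (0,1), (0,2)),
    ((1,0), (0,4), (3,1)), ((1,0), (0,1), (1,1)),
    ((1,0), (2,4), (4,3)), ((1,0), (0,1), (4,1)),
    ((1,0), (1,0), (4,4)), ((1,0), (4,2), (0,0)),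
    ((1,0), (3,0), (0,0)), ((1,0), (4,4), (2,0)),
    ((1,0), (2,0), (2,2)), ((1,0), (1,4), (4,4)),
    ((1,0), (1,4), (2,1)), ((1,0), (1,2), (1,0)),
    ((1,0), (1,4), (3,0)), ((1,0), (4,3), (1,2)),
    ((1,0), (3,1), (4,0)), ((1,0), (3,4), (1,3)),
    ((1,0), (1,3), (2,3)), ((1,0), (1,3), (3,2)),
    ((1,0), (0,1), (0,0)), ((1,0), (2,2), (4,3)),
    ((1,0), (1,3), (2,1)), ((1,0), (2,1), (0,4)),
    ((1,0), (4,1), (0,2)), ((1,0), (2,0), (2,4)),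
    ((1,0), (4,0), (2,4)), ((0,0), (1,0), (4,2)),
    ((1,0), (0,4), (3,0)), ((1,0), (4,2), (1,1)),
    ((1,0), (4,1), (2,4)), ((1,0), (3,3), (2,4)),
    ((1,0), (1,1), (2,1)), ((1,0), (3,0), (2,2)),
    ((1,0), (1,4), (1,4)), ((1,0), (2,1), (1,0)),
    ((1,0), (1,0), (1,2)), ((0,0), (1,0), (3,0)),
    ((1,0), (1,4), (3,3)), ((1,0), (0,1), (2,1)),
    ((1,0), (3,4), (4,1)), ((1,0), (1,2), (2,1)),
    ((1,0), (3,4), (2,4)), ((1,0), (2,0), (2,3)),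
    ((1,0), (2,4), (3,0)), ((1,0), (3,3), (1,2)),
    ((1,0), (1,2), (0,3)), ((0,0), (1,0), (0,1)),
    ((1,0), (2,1), (3,2)), ((1,0), (0,2), (4,4)),
    ((1,0), (1,1), (0,3)), ((1,0), (1,2), (4,4)),
    ((1,0), (1,4), (0,3)), ((1,0), (2,0), (0,3)),
    ((1,0), (1,2), (4,1)), ((1,0), (1,3), (1,2)),
    ((1,0), (4,2), (4,4)), ((1,0), (2,3), (1,4)),
    ((1,0), (1,2), (1,2)), ((1,0), (1,0), (2,1)),
    ((1,0), (0,0), (2,0)), ((1,0), (0,1), (3,1)),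
    ((1,0), (1,1), (1,2)), ((1,0), (2,2), (4,4)),
    ((1,0), (2,1), (2,4)), ((1,0), (2,1), (4,3)),
    ((1,0), (0,0), (0,3))]

/-- The action of the involution on the short orbit. -/
def certA21 : List (Nat × E) := [
    (0, (1,0)), (2, (2,1)), (1, (1,2)), (5, (2,4)), (6, (4,3)),
    (3, (1,3)), (4, (3,4)), (7, (4,0)), (8, (4,0)), (11, (2,4)),
    (13, (1,0)), (9, (1,3)), (15, (3,3)), (10, (1,0)), (16, (1,2)),
    (12, (3,2)), (14, (2,1)), (18, (3,0)), (17, (2,0)), (19, (4,0)),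
    (20, (4,0))]

/-- The action of the element of order three on the short orbit. -/
def certB21 : List (Nat × E) := [
    (1, (1,0)), (3, (1,0)), (4, (1,0)), (0, (1,0)), (7, (4,3)),
    (8, (4,2)), (9, (4,0)), (2, (3,4)), (10, (1,0)), (12, (3,4)),
    (5, (3,1)), (14, (3,2)), (6, (1,2)), (15, (2,4)), (17, (1,2)),
    (16, (4,2)), (13, (4,0)), (11, (2,4)), (19, (1,2)), (20, (3,2)),
    (18, (2,4))]

/-- The action of the involution. -/
def certA : List (Nat × E) := [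
    (0, (1,0)), (3, (2,1)), (2, (4,0)), (1, (1,2)), (9, (2,4)),
    (10, (2,0)), (12, (2,2)), (15, (4,3)), (17, (4,3)), (4, (1,3)),
    (5, (3,0)), (23, (0,2)), (6, (2,3)), (27, (1,4)), (29, (1,3)),
    (7, (3,4)), (16, (4,0)), (8, (3,4)), (35, (3,1)), (19, (4,0)),
    (40, (3,3)), (42, (0,4)), (34, (4,1)), (11, (0,4)), (46, (2,2)),
    (47, (1,0)), (49, (2,4)), (13, (4,4)), (53, (3,2)), (14, (2,4)),
    (56, (1,2)), (57, (2,4)), (59, (2,4)), (60, (2,1)), (22, (1,1)),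
    (18, (4,2)), (62, (3,0)), (41, (3,2)), (64, (1,0)), (55, (4,1)),
    (20, (3,2)), (37, (3,3)), (21, (0,2)), (43, (4,0)), (71, (3,0)),
    (58, (3,3)), (24, (2,3)), (25, (1,0)), (77, (0,4)), (26, (1,3)),
    (73, (3,4)), (78, (4,4)), (80, (2,1)), (28, (3,3)), (83, (2,1)),
    (39, (1,1)), (30, (2,1)), (31, (1,3)), (45, (3,2)), (32, (1,3)),
    (33, (1,2)), (81, (4,2)), (36, (2,0)), (89, (1,3)), (38, (1,0)),
    (90, (1,1)), (85, (0,1)), (91, (3,4)), (70, (2,2)), (69, (4,0)),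
    (68, (2,3)), (44, (2,0)), (96, (0,1)), (50, (4,3)), (88, (1,4)),
    (95, (3,3)), (99, (1,2)), (48, (0,2)), (51, (1,4)), (79, (4,0)),
    (52, (1,2)), (61, (3,1)), (100, (4,2)), (54, (1,2)), (103, (1,1)),
    (66, (0,3)), (86, (4,0)), (97, (0,3)), (74, (4,4)), (63, (2,4)),
    (65, (4,1)), (67, (4,3)), (94, (3,3)), (102, (2,0)), (92, (3,2)),
    (75, (3,2)), (72, (0,3)), (87, (0,1)), (104, (0,3)), (76, (2,1)),
    (82, (3,1)), (101, (4,0)), (93, (3,0)), (84, (4,1)), (98, (0,1))]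

/-- The action of the element of order three. -/
def certB : List (Nat × E) := [
    (1, (1,0)), (4, (1,0)), (6, (1,0)), (7, (1,0)), (0, (1,0)),
    (11, (4,4)), (13, (0,3)), (16, (4,3)), (18, (3,1)), (19, (4,2)),
    (21, (3,3)), (24, (1,4)), (26, (2,4)), (2, (0,1)), (30, (3,0)),
    (31, (4,0)), (3, (3,4)), (10, (3,0)), (36, (3,3)), (38, (1,0)),
    (41, (0,3)), (17, (1,4)), (44, (1,0)), (45, (3,1)), (5, (1,0)),
    (48, (3,0)), (32, (0,1)), (51, (2,1)), (54, (4,2)), (55, (4,3)),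
    (42, (1,3)), (53, (3,4)), (12, (3,3)), (25, (4,1)), (49, (4,4)),
    (61, (1,2)), (8, (0,4)), (63, (3,0)), (9, (3,1)), (66, (0,2)),
    (67, (3,1)), (68, (1,1)), (14, (4,3)), (70, (4,1)), (72, (4,4)),
    (65, (1,0)), (75, (1,0)), (71, (2,0)), (33, (2,2)), (76, (4,4)),
    (79, (2,1)), (74, (1,0)), (81, (3,0)), (15, (1,2)), (64, (4,0)),
    (82, (1,3)), (59, (2,3)), (83, (3,2)), (85, (1,0)), (80, (4,3)),
    (37, (2,1)), (87, (0,4)), (40, (0,2)), (60, (2,4)), (28, (2,4)),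
    (23, (4,2)), (91, (3,0)), (62, (1,1)), (20, (2,4)), (93, (2,4)),
    (84, (2,1)), (95, (2,2)), (22, (1,4)), (97, (1,0)), (27, (1,2)),
    (98, (3,0)), (34, (3,3)), (92, (2,1)), (100, (4,1)), (89, (2,1)),
    (56, (2,4)), (101, (2,3)), (29, (3,0)), (102, (1,2)), (43, (0,3)),
    (104, (0,1)), (69, (3,2)), (35, (4,4)), (77, (0,3)), (50, (4,4)),
    (99, (0,3)), (39, (0,3)), (88, (4,1)), (86, (1,2)), (90, (4,4)),
    (47, (1,4)), (73, (1,2)), (96, (2,1)), (46, (2,0)), (94, (3,1)),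
    (103, (1,2)), (52, (4,4)), (57, (2,4)), (78, (4,3)), (58, (0,3))]

/-- The action of the extra element. -/
def certC : List (Nat × E) := [
    (2, (4,0)), (5, (3,3)), (0, (4,0)), (8, (4,0)), (7, (2,4)),
    (1, (3,2)), (14, (4,0)), (4, (1,3)), (3, (4,0)), (20, (4,0)),
    (22, (4,0)), (25, (4,0)), (12, (4,0)), (28, (4,0)), (6, (4,0)),
    (32, (4,0)), (33, (4,0)), (34, (4,0)), (37, (4,0)), (39, (4,0)),
    (9, (4,0)), (43, (4,0)), (10, (4,0)), (35, (4,0)), (24, (4,0)),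
    (11, (4,0)), (50, (4,0)), (52, (4,0)), (13, (4,0)), (29, (4,0)),
    (36, (4,0)), (58, (4,0)), (15, (4,0)), (16, (4,0)), (17, (4,0)),
    (23, (4,0)), (30, (4,0)), (18, (4,0)), (65, (2,2)), (19, (4,0)),
    (59, (4,0)), (47, (4,0)), (69, (4,0)), (21, (4,0)), (73, (4,0)),
    (74, (4,0)), (76, (4,0)), (41, (4,0)), (64, (4,0)), (78, (4,0)),
    (26, (4,0)), (71, (4,0)), (27, (4,0)), (82, (4,0)), (63, (4,0)),
    (79, (4,0)), (84, (4,0)), (81, (4,0)), (31, (4,0)), (40, (4,0)),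
    (86, (4,0)), (88, (4,0)), (72, (4,0)), (54, (4,0)), (48, (4,0)),
    (38, (2,3)), (66, (4,0)), (90, (4,0)), (92, (4,0)), (42, (4,0)),
    (94, (4,0)), (51, (4,0)), (62, (4,0)), (44, (4,0)), (45, (4,0)),
    (75, (4,0)), (46, (4,0)), (91, (4,0)), (49, (4,0)), (55, (4,0)),
    (100, (4,0)), (57, (4,0)), (53, (4,0)), (87, (4,0)), (56, (4,0)),
    (85, (1,0)), (60, (4,0)), (83, (4,0)), (61, (4,0)), (104, (4,0)),
    (67, (4,0)), (77, (4,0)), (68, (4,0)), (93, (4,0)), (70, (4,0)),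
    (102, (4,0)), (103, (4,0)), (98, (4,0)), (97, (4,0)), (99, (4,0)),
    (80, (4,0)), (101, (4,0)), (95, (4,0)), (96, (4,0)), (89, (4,0))]

end Cfsg.Agent.Linear.Mitchell.Socle.Five
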