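import Cfsg.Agent.Linear.Mitchell.Socle.FiveData
import Cfsg.Agent.Linear.Mitchell.Socle.Common

/-!
The coded arithmetic and the point sets in characteristic five.
-/

set_option autoImplicit false
set_option maxRecDepth 20000
set_option linter.style.haveILetI false
set_option linter.unusedSectionVars false

namespace Cfsg.Agent.Linear.Mitchell.Socle.Five

open scoped MatrixGroups Matrix
open Cfsg.Geo

/-- Product of coded scalars. -/
def emul (x y : E) : E := ((x.1 * y.1 + 2 * x.2 * y.2) % 5, (x.1 * y.2 + x.2 * y.1) % 5)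

/-- Sum of coded scalars. -/
def eadd (x y : E) : E := ((x.1 + y.1) % 5, (x.2 + y.2) % 5)

/-- The conjugate. -/
def econj (x : E) : E := (x.1 % 5, (4 * x.2) % 5)

/-- Reduced code. -/
def red (x : E) : Prop := x.1 < 5 ∧ x.2 < 5

/-- Dot product. -/
def edot (x y : V) : E := eadd (eadd (emul x.1 y.1) (emul x.2.1 y.2.1)) (emul x.2.2 y.2.2)

/-- Matrix times vector. -/
def emv (M : Mx) (v : V) : V := (edot M.1 v, edot M.2.1 v, edot M.2.2 v)

/-- Scalar times vector. -/
def esmul (c : E) (v : V) : V := (emul c v.1, emul c v.2.1, emul c v.2.2)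

/-- A column. -/
def ecol (M : Mx) : Fin 3 → V :=
  ![(M.1.1, M.2.1.1, M.2.2.1), (M.1.2.1, M.2.1.2.1, M.2.2.2.1), (M.1.2.2, M.2.1.2.2, M.2.2.2.2)]

/-- A row. -/
def erow (M : Mx) : Fin 3 → V := ![M.1, M.2.1, M.2.2]

/-- An entry. -/
def eget (v : V) : Fin 3 → E := ![v.1, v.2.1, v.2.2]

/-- The form `xᵀ G ȳ`. -/
def eform (x y : V) : E :=
  edot x (emv matG (econj y.1, econj y.2.1, econj y.2.2))

/-- The determinant. -/
def edet (M : Mx) : E :=
  eadd (eadd (eadd (eadd (eadd
    (emul (emul M.1.1 M.2.1.2.1) M.2.2.2.2)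
    (emul (4, 0) (emul (emul M.1.1 M.2.1.2.2) M.2.2.2.1)))
    (emul (4, 0) (emul (emul M.1.2.1 M.2.1.1) M.2.2.2.2)))
    (emul (emul M.1.2.1 M.2.1.2.2) M.2.2.1))
    (emul (emul M.1.2.2 M.2.1.1) M.2.2.2.1))
    (emul (4, 0) (emul (emul M.1.2.2 M.2.1.2.1) M.2.2.1))

/-- A list of images certifies that a matrix maps a set of points to itself. -/
def checkCert (M : Mx) (L : List V) : List V → List (Nat × E) → Bool
  | [], [] => true
  | v :: vs, (i, c) :: cs =>
      (match L[i]? with
        | some w => decide (emv M v = esmul c w) && decide (c ≠ (0, 0)) && decide (c.1 < 5) && decide (c.2 < 5)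
        | none => false) && checkCert M L vs cs
  | _, _ => false

/-- The point is not in the set. -/
def checkOut (v : V) (L : List V) : Bool :=
  L.all fun w => (List.finRange 3).any fun i => (List.finRange 3).any fun j =>
    decide (emul (eget v i) (eget w j) ≠ emul (eget v j) (eget w i))

theorem checkA21 : checkCert matA small small certA21 = true := by decide +kernel

theorem checkB21 : checkCert matB small small certB21 = true := by decide +kernel

theorem checkA : checkCert matA large large certA = true := by decide +kernel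

theorem checkB : checkCert matB large large certB = true := by decide +kernel

theorem checkC : checkCert matC large large certC = true := by decide +kernel

theorem headLarge : ((1, 0), (0, 0), (0, 0)) ∈ large ∧ ((1, 0), (0, 0), (0, 0)) ∈ small := by
  decide +kernel

theorem outC : checkOut (emv matC ((1, 0), (0, 0), (0, 0))) small = true := by decide +kernel

theorem outD : checkOut (emv matD ((1, 0), (0, 0), (0, 0))) large = true := by decide +kernel

theorem isometries : ∀ M ∈ [matA, matB, matC, matD],
    edet M = (1, 0) ∧ ∀ i j : Fin 3, eform (ecol M i) (ecol M j) = eget (erow matG i) j := by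
  decide +kernel

section Values

variable {F : Type*} [Field F] [CharP F 5] (o : F)

/-- The value of a code. -/
def val (x : E) : F := (x.1 : F) + (x.2 : F) * o

/-- The value of a vector. -/
def vval (v : V) : Fin 3 → F := fun i => val o (eget v i)

/-- The value of a matrix. -/
def mval (M : Mx) : Matrix (Fin 3) (Fin 3) F := Matrix.of fun i j => val o (eget (erow M i) j)

theorem cast_mod_five (n : ℕ) : (((n % 5 : ℕ)) : F) = n := (CharP.cast_eq_mod F 5 n).symm

variable {o}

theorem val_eadd (x y : E) : val o (eadd x y) = val o x + val o y := by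
  simp only [val, eadd, cast_mod_five]
  push_cast; ring

theorem val_emul (ho : o ^ 2 = 2) (x y : E) : val o (emul x y) = val o x * val o y := by
  simp only [val, emul, cast_mod_five]
  push_cast
  linear_combination -(x.2 : F) * (y.2 : F) * ho

theorem val_econj (ho5 : o ^ 5 = -o) (x : E) : val o (econj x) = val o x ^ 5 := by
  haveI : Fact (Nat.Prime 5) := ⟨by norm_num⟩
  have h5 : (5 : F) = 0 := by exact_mod_cast CharP.cast_eq_zero F 5
  simp only [val, econj, cast_mod_five, add_pow_char, mul_pow, natCast_pow_char (F := F) 5, ho5]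
  push_cast
  linear_combination (x.2 : F) * o * h5

theorem val_eq_zero (ho5 : o ^ 5 = -o) (ho : o ≠ 0) {x : E} (hx : red x) (h : val o x = 0) :
    x = (0, 0) := by
  haveI : Fact (Nat.Prime 5) := ⟨by norm_num⟩
  have h2 := two_ne_zero_char (F := F) 5 (by norm_num)
  have hz : ∀ n : ℕ, n < 5 → (n : F) = 0 → n = 0 := fun n hn h =>
    Nat.eq_zero_of_dvd_of_lt ((CharP.cast_eq_zero_iff F 5 n).mp h) hn
  have hc := congrArg (· ^ 5) h
  simp only [val, add_pow_char, mul_pow, natCast_pow_char (F := F) 5, ho5, ne_eq, OfNat.ofNat_ne_zero,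
    not_false_eq_true, zero_pow] at hc
  simp only [val] at h
  have h1 : (x.2 : F) = 0 := by
    have : 2 * o * (x.2 : F) = 0 := by linear_combination h - hc
    exact (mul_eq_zero.mp this).resolve_left (mul_ne_zero h2 ho)
  have h0 : (x.1 : F) = 0 := by rw [h1, zero_mul, add_zero] at h; exact h
  exact Prod.ext (hz _ hx.1 h0) (hz _ hx.2 h1)

theorem val_injective (ho : o ^ 2 = 2) (ho5 : o ^ 5 = -o) (ho0 : o ≠ 0) {x y : E} (hx : red x) (hy : red y)
    (h : val o x = val o y) : x = y := by
  have h0 : val o (eadd x (emul (4, 0) y)) = 0 := by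
    have h5 : (5 : F) = 0 := by exact_mod_cast CharP.cast_eq_zero F 5
    rw [val_eadd, val_emul ho, show val o ((4, 0) : E) = 4 by simp [val]]
    linear_combination h + val o y * h5
  have := val_eq_zero ho5 ho0 ⟨Nat.mod_lt _ (by norm_num), Nat.mod_lt _ (by norm_num)⟩ h0
  simp only [eadd, emul, Prod.mk.injEq] at this
  obtain ⟨a, b⟩ := hx; obtain ⟨c, d⟩ := hy
  exact Prod.ext (by omega) (by omega)

theorem val_edot (ho : o ^ 2 = 2) (x y : V) : val o (edot x y) = vval o x ⬝ᵥ vval o y := by
  simp [edot, val_eadd, val_emul ho, vval, eget, dotProduct, Fin.sum_univ_three]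

theorem vval_emv (ho : o ^ 2 = 2) (M : Mx) (v : V) : vval o (emv M v) = mval o M *ᵥ vval o v := by
  funext i
  fin_cases i <;> simp [vval, emv, eget, mval, erow, Matrix.mulVec, val_edot ho, dotProduct,
    Fin.sum_univ_three]

theorem vval_esmul (ho : o ^ 2 = 2) (c : E) (v : V) : vval o (esmul c v) = val o c • vval o v := by
  funext i
  fin_cases i <;> simp [vval, esmul, eget, val_emul ho]

/-- A certified matrix maps the set to itself. -/
theorem maps_of_check (ho : o ^ 2 = 2) (ho5 : o ^ 5 = -o) (ho0 : o ≠ 0) {M : Mx} {L : List V} :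
    ∀ (vs : List V) (cs : List (Nat × E)), checkCert M L vs cs = true → ∀ v ∈ vs,
      ∃ w ∈ L, ∃ c : F, c ≠ 0 ∧ mval o M *ᵥ vval o v = c • vval o w
  | [], _, _, v, hv => absurd hv (List.not_mem_nil)
  | _ :: _, [], h, _, _ => by simp [checkCert] at h
  | u :: vs, (i, c) :: cs, h, v, hv => by
    simp only [checkCert, Bool.and_eq_true] at h
    rcases List.mem_cons.mp hv with rfl | hv
    · rcases e : L[i]? with _ | w
      · simp [e] at h
      · simp only [e, Bool.and_eq_true, decide_eq_true_eq] at h
        obtain ⟨⟨⟨⟨h1, h2⟩, h3⟩, h4⟩, -⟩ := h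
        refine ⟨w, List.mem_of_getElem? e, val o c, fun hc => h2 (val_eq_zero ho5 ho0 ⟨h3, h4⟩ hc), ?_⟩
        rw [← vval_emv ho, h1, vval_esmul ho]
    · exact maps_of_check ho ho5 ho0 vs cs h.2 v hv

/-- A certified point is outside the set. -/
theorem out_of_check (ho : o ^ 2 = 2) (ho5 : o ^ 5 = -o) (ho0 : o ≠ 0) {v : V} {L : List V}
    (h : checkOut v L = true) : ∀ w ∈ L, ∀ c : F, vval o v ≠ c • vval o w := by
  intro w hw c e
  simp only [checkOut, List.all_eq_true, List.any_eq_true, decide_eq_true_eq] at h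
  obtain ⟨i, -, j, -, hij⟩ := h w hw
  refine hij (val_injective ho ho5 ho0 ⟨Nat.mod_lt _ (by norm_num), Nat.mod_lt _ (by norm_num)⟩
    ⟨Nat.mod_lt _ (by norm_num), Nat.mod_lt _ (by norm_num)⟩ ?_)
  have hi : val o (eget v i) = c * val o (eget w i) := congrFun e i
  have hj : val o (eget v j) = c * val o (eget w j) := congrFun e j
  rw [val_emul ho, val_emul ho, hi, hj]; ring

theorem det_mval (ho : o ^ 2 = 2) (M : Mx) : (mval o M).det = val o (edet M) := by
  have h5 : (5 : F) = 0 := by exact_mod_cast CharP.cast_eq_zero F 5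
  have h4 : val o ((4, 0) : E) = -1 := by simp [val]; linear_combination h5
  simp [Matrix.det_fin_three, mval, erow, eget, edet, val_eadd, val_emul ho, h4]
  ring

theorem form_vval (ho : o ^ 2 = 2) (ho5 : o ^ 5 = -o) (x y : V) :
    val o (eform x y) = vval o x ⬝ᵥ (mval o matG *ᵥ fun i => vval o y i ^ 5) := by
  rw [eform, val_edot ho, vval_emv ho]
  congr 2
  funext i
  fin_cases i <;> simp [vval, eget, val_econj ho5]

/-- The certified isometries. -/
theorem gram_of_check (ho : o ^ 2 = 2) (ho5 : o ^ 5 = -o) {M : Mx}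
    (hM : M ∈ [matA, matB, matC, matD]) :
    (mval o M)ᵀ * mval o matG * (mval o M).map (fun x => x ^ 5) = mval o matG ∧ (mval o M).det = 1 := by
  obtain ⟨hd, hf⟩ := isometries M hM
  refine ⟨?_, by rw [det_mval ho, hd]; simp [val]⟩
  ext i j
  have := congrArg (val o) (hf i j)
  rw [form_vval ho ho5] at this
  rw [show mval o matG i j = val o (eget (erow matG i) j) from rfl, ← this, mul_assoc]
  simp only [Matrix.mul_apply, Matrix.transpose_apply, Matrix.map_apply, dotProduct, Matrix.mulVec]
  refine Finset.sum_congr rfl fun k _ => ?_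
  congr 1
  · fin_cases i <;> fin_cases k <;> rfl
  · refine Finset.sum_congr rfl fun l _ => ?_
    congr 2
    fin_cases j <;> fin_cases l <;> rfl

end Values

end Cfsg.Agent.Linear.Mitchell.Socle.Five
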