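import Cfsg.Agent.Linear.Mitchell.Socle.Model
import Cfsg.Agent.Linear.Mitchell.Quotient
import Mathlib.GroupTheory.Transfer
import Mathlib.LinearAlgebra.Matrix.Adjugate

/-!
Normalised lifts of real elements of `P` modulo scalars and their traces.
-/

set_option autoImplicit false
set_option linter.style.haveILetI false
set_option linter.unusedSectionVars false
set_option linter.unusedSimpArgs false

namespace Cfsg.Agent.Linear.Mitchell.Socle

open scoped MatrixGroups Matrix commutatorElement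
open Cfsg.Geo

variable {F : Type*} [Field F] {P : Subgroup (GL (Fin 3) F)}

local notation "M3" => Matrix (Fin 3) (Fin 3) F

/-- The trace. -/
abbrev tr (g : GL (Fin 3) F) : F := (g : M3).trace

section Matrices

variable {g : GL (Fin 3) F}

theorem adjugate_eq (M : M3) : M.adjugate = M * M - M.trace • M + M.adjugate.trace • 1 := by
  simp only [Matrix.adjugate_fin_three M, Matrix.trace_fin_three]
  ext i j
  fin_cases i <;> fin_cases j <;>
    simp [Matrix.mul_apply, Fin.sum_univ_three, Matrix.smul_apply] <;> ring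

theorem inv_eq (hd : (g : M3).det = 1) :
    ((g⁻¹ : GL (Fin 3) F) : M3) = (g : M3) * (g : M3) - tr g • (g : M3) + tr g⁻¹ • 1 := by
  have hi : ((g⁻¹ : GL (Fin 3) F) : M3) = (g : M3).adjugate := by
    rw [Matrix.coe_units_inv, Matrix.inv_def, hd, Ring.inverse_one, one_smul]
  rw [tr, tr, hi]
  exact adjugate_eq _

theorem det_inv (hd : (g : M3).det = 1) : ((g⁻¹ : GL (Fin 3) F) : M3).det = 1 := by
  have := congrArg Matrix.det (show (g : M3) * ((g⁻¹ : GL (Fin 3) F) : M3) = 1 by simp)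
  rwa [Matrix.det_mul, hd, one_mul, Matrix.det_one] at this

theorem cube_eq (hd : (g : M3).det = 1) :
    (g : M3) * (g : M3) * (g : M3) = tr g • ((g : M3) * (g : M3)) - tr g⁻¹ • (g : M3) + 1 := by
  have h := congrArg (· * (g : M3)) (inv_eq hd)
  simp only [Units.inv_mul, add_mul, sub_mul, smul_mul_assoc, one_mul] at h
  conv_rhs => rw [h]
  abel

theorem tr_sq (hd : (g : M3).det = 1) : tr (g ^ 2) = tr g ^ 2 - 2 * tr g⁻¹ := by
  have h := congrArg Matrix.trace (inv_eq hd)
  simp only [Matrix.trace_add, Matrix.trace_sub, Matrix.trace_smul, Matrix.trace_one,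
    Fintype.card_fin, smul_eq_mul] at h
  simp only [tr, sq, Units.val_mul] at h ⊢
  simp only [Nat.cast_ofNat] at h
  linear_combination -h

theorem tr_one : tr (1 : GL (Fin 3) F) = 3 := by simp [tr]

theorem sq_eq_val (g : GL (Fin 3) F) : ((g ^ 2 : GL (Fin 3) F) : M3) = (g : M3) * (g : M3) := by
  rw [sq, Units.val_mul]

theorem trace_of_two (hd : (g : M3).det = 1) (h : g ^ 2 = 1) (h1 : g ≠ 1) : tr g = -1 := by
  have hi : g⁻¹ = g := inv_eq_of_mul_eq_one_right (by rw [← sq, h])
  have e := cube_eq hd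
  rw [← sq_eq_val, h, hi, Units.val_one, one_mul] at e
  by_contra hne
  refine h1 (Units.ext (smul_right_injective M3 (show 1 + tr g ≠ 0 from fun h0 => hne (by linear_combination h0)) ?_))
  show (1 + tr g) • (g : M3) = (1 + tr g) • (1 : M3)
  rw [add_smul, add_smul, one_smul, one_smul]
  conv_lhs => arg 1; rw [e]
  abel

theorem trace_of_three (hd : (g : M3).det = 1) (h : g ^ 3 = 1) (h1 : g ≠ 1)
    (hr : tr g⁻¹ = tr g) : tr g = 0 := by
  have e := cube_eq hd
  rw [show (g : M3) * (g : M3) * (g : M3) = 1 by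
    rw [← Units.val_mul, ← Units.val_mul, ← sq, ← pow_succ, h, Units.val_one], hr] at e
  have e' : tr g • ((g : M3) * (g : M3)) = tr g • (g : M3) := sub_eq_zero.mp (by
    have := congrArg (· - (1 : M3)) e
    simpa using this.symm)
  by_contra hne
  have := smul_right_injective M3 hne e'
  refine h1 (mul_left_cancel (a := g) (Units.ext ?_))
  simpa using this

theorem trace_of_four (hd : (g : M3).det = 1) (h : g ^ 4 = 1) (h1 : g ^ 2 ≠ 1)
    (hr : tr g⁻¹ = tr g) : tr g = 1 := by
  have e := trace_of_two (g := g ^ 2) (by simp [hd]) (by rw [← pow_mul]; exact h) h1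
  rw [tr_sq hd, hr] at e
  have : (tr g - 1) ^ 2 = 0 := by linear_combination e
  exact sub_eq_zero.mp (pow_eq_zero_iff (by norm_num) |>.mp this)

theorem trace_of_six (hd : (g : M3).det = 1) (h : g ^ 6 = 1) (h1 : g ^ 2 ≠ 1)
    (hr : tr g⁻¹ = tr g) (hr2 : tr (g ^ 2)⁻¹ = tr (g ^ 2)) : tr g * (tr g - 2) = 0 := by
  have e := trace_of_three (g := g ^ 2) (by simp [hd]) (by rw [← pow_mul]; exact h) h1 hr2
  rw [tr_sq hd, hr] at e
  linear_combination e

theorem eq_one_of_nil {N : M3} (h3 : N * N * N = 0) (h : N = (-2 : F) • (N * N)) : N = 0 := by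
  have e : N * N = (-2 : F) • (N * N * N) := by
    conv_lhs => arg 1; rw [h]
    rw [smul_mul_assoc]
  rw [h3, smul_zero] at e
  rw [h, e, smul_zero]

theorem trace_of_five (hd : (g : M3).det = 1) (h : g ^ 5 = 1) (h1 : g ≠ 1) (h2 : g ^ 2 ≠ 1)
    (hr : tr g⁻¹ = tr g) : tr g ^ 2 = tr g + 1 := by
  set t := tr g with ht
  set M : M3 := (g : M3) with hM
  have e3 : M * M * M = t • (M * M) - t • M + 1 := by
    have := cube_eq hd; rwa [hr] at this
  have e4 : M * M * M * M = (t ^ 2 - t) • (M * M) + (1 - t ^ 2) • M + t • 1 := by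
    conv_lhs => rw [e3]
    simp only [add_mul, sub_mul, smul_mul_assoc, one_mul, e3, smul_add, smul_sub, smul_smul]
    module
  have e5 : (t ^ 2 - t - 1) • ((t - 1) • (M * M) - t • M + 1) = 0 := by
    have h5 : M * M * M * M * M = 1 := by
      rw [hM, ← Units.val_mul, ← Units.val_mul, ← Units.val_mul, ← Units.val_mul, ← sq, ← pow_succ,
        ← pow_succ, ← pow_succ, h, Units.val_one]
    rw [e4] at h5
    simp only [add_mul, smul_mul_assoc, one_mul, e3, smul_add, smul_sub, smul_smul] at h5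
    calc _ = ((t ^ 2 - t) * t) • (M * M) - ((t ^ 2 - t) * t) • M + (t ^ 2 - t) • (1 : M3)
          + (1 - t ^ 2) • (M * M) + t • M - 1 := by
            simp only [smul_add, smul_sub, smul_smul]; module
      _ = 0 := by rw [h5, sub_self]
  by_contra hne
  have hq : (t - 1) • (M * M) - t • M + 1 = 0 := by
    rcases smul_eq_zero.mp e5 with h | h
    · exact absurd (by linear_combination h) hne
    · exact h
  have q2 : (t - 1) • M - t • (1 : M3) + ((g⁻¹ : GL (Fin 3) F) : M3) = 0 := by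
    have := congrArg (· * ((g⁻¹ : GL (Fin 3) F) : M3)) hq
    simpa [sub_mul, add_mul, hM, mul_assoc] using this
  have tq := congrArg Matrix.trace q2
  simp only [Matrix.trace_add, Matrix.trace_sub, Matrix.trace_smul, Matrix.trace_one,
    Fintype.card_fin, smul_eq_mul, Matrix.trace_zero] at tq
  rw [show (((g⁻¹ : GL (Fin 3) F)) : M3).trace = t from hr, show M.trace = t from rfl] at tq
  push_cast at tq
  rcases mul_eq_zero.mp (show t * (t - 3) = 0 by linear_combination tq) with ht0 | ht3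
  · rw [ht0] at hq
    refine h2 (Units.ext ?_)
    rw [sq_eq_val, Units.val_one]
    simp only [zero_sub, neg_smul, one_smul, zero_smul, sub_zero] at hq
    exact (neg_add_eq_zero.mp hq)
  · have ht3' : t = 3 := by linear_combination ht3
    rw [ht3'] at hq e3
    refine h1 (Units.ext (sub_eq_zero.mp ?_))
    rw [Units.val_one, ← hM]
    refine eq_one_of_nil ?_ ?_
    · simp only [sub_mul, mul_sub, one_mul, mul_one, e3]
      module
    · refine eq_of_sub_eq_zero ?_
      rw [← hq]
      simp only [sub_mul, mul_sub, one_mul, mul_one]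
      module

theorem trace_of_seven (hd : (g : M3).det = 1) (h : g ^ 7 = 1) (h1 : g ≠ 1) (h3 : g ^ 3 ≠ 1)
    (hc : tr (g ^ 2) = tr g) (hc' : tr (g⁻¹ ^ 2) = tr g⁻¹) :
    tr g⁻¹ = -1 - tr g ∧ tr g ^ 2 + tr g + 2 = 0 := by
  rw [tr_sq hd] at hc
  rw [tr_sq (det_inv hd), inv_inv] at hc'
  rcases mul_eq_zero.mp (show (tr g - tr g⁻¹) * (tr g + tr g⁻¹ + 1) = 0 by
    linear_combination hc - hc') with he | he
  · have hs : tr g⁻¹ = tr g := by linear_combination -he
    rcases mul_eq_zero.mp (show tr g * (tr g - 3) = 0 by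
      rw [hs] at hc; linear_combination hc) with h0 | h0
    · have e := cube_eq hd
      rw [hs, h0, zero_smul, zero_smul, sub_zero, zero_add, ← Units.val_mul, ← Units.val_mul, ← sq,
        ← pow_succ] at e
      exact absurd (Units.ext e) h3
    · have ht : tr g = 3 := by linear_combination h0
      set N : M3 := (g : M3) - 1 with hN
      have e := cube_eq hd
      rw [hs, ht] at e
      have hN3 : N * N * N = 0 := by
        simp only [hN, sub_mul, mul_sub, one_mul, mul_one, e]
        module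
      have hN4 : N * N * N * N = 0 := by rw [hN3, zero_mul]
      have hg : (g : M3) = 1 + N := by rw [hN]; abel
      have e7 : (1 : M3) = 1 + (7 : F) • N + (21 : F) • (N * N) := by
        have e2 : (1 + N) * (1 + N) = 1 + (2 : F) • N + N * N := by
          simp only [add_mul, mul_add, one_mul, mul_one]; module
        have e4 : (1 + N) * (1 + N) * ((1 + N) * (1 + N)) = 1 + (4 : F) • N + (6 : F) • (N * N) := by
          rw [e2]
          simp only [add_mul, mul_add, one_mul, mul_one, smul_mul_assoc, mul_smul_comm, smul_smul,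
            ← mul_assoc, hN3, zero_mul, smul_zero]
          module
        calc (1 : M3) = ((g ^ 7 : GL (Fin 3) F) : M3) := by rw [h, Units.val_one]
          _ = (1 + N) * (1 + N) * ((1 + N) * (1 + N)) * ((1 + N) * (1 + N)) * (1 + N) := by
            rw [Units.val_pow_eq_pow_val, hg]; simp only [pow_succ, pow_zero, one_mul, mul_assoc]
          _ = _ := by
            rw [e4, e2]
            simp only [add_mul, mul_add, one_mul, mul_one, smul_mul_assoc, mul_smul_comm, smul_smul,
              ← mul_assoc, hN3, hN4, zero_mul, mul_zero, smul_zero, add_zero]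
            module
      have e7' : (7 : F) • N = (-21 : F) • (N * N) := by
        refine eq_of_sub_eq_zero ?_
        calc (7 : F) • N - (-21 : F) • (N * N) = (1 + (7 : F) • N + (21 : F) • (N * N)) - 1 := by module
          _ = 0 := by rw [← e7, sub_self]
      by_cases h7 : (7 : F) = 0
      · rw [hs, ht]
        exact ⟨by linear_combination h7, by linear_combination 2 * h7⟩
      exfalso
      have hz : (7 : F) • (N * N) = 0 := by
        have := congrArg (· * N) e7'
        simp only [smul_mul_assoc, hN3, smul_zero] at this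
        exact this
      rw [smul_eq_zero, or_iff_right h7] at hz
      rw [hz, smul_zero, smul_eq_zero, or_iff_right h7] at e7'
      exact h1 (Units.ext (by rw [hg, e7', add_zero, Units.val_one]))
  · have hu : tr g⁻¹ = -1 - tr g := by linear_combination he
    exact ⟨hu, by rw [hu] at hc; linear_combination hc⟩

end Matrices

/-- The possible traces at a given order. -/
def TV (n : ℕ) (t : F) : Prop :=
  (n = 2 ∧ t = -1) ∨ (n = 3 ∧ t = 0) ∨ (n = 4 ∧ t = 1) ∨ (n = 5 ∧ t ^ 2 = t + 1) ∨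
    (n = 6 ∧ t * (t - 2) = 0)

/-- The pair of traces at order seven. -/
def Root7 (t t' : F) : Prop := t' = -1 - t ∧ t ^ 2 + t + 2 = 0

section Lifts

variable (hS : Setting P)
include hS

theorem tr_conj (g x : GL (Fin 3) F) : tr (g * x * g⁻¹) = tr x := by
  rw [tr, tr, Units.val_mul, Units.val_mul, Matrix.trace_mul_comm, ← mul_assoc, ← Units.val_mul,
    inv_mul_cancel, Units.val_one, one_mul]

theorem scalar_unique {c d : F} (h : c • (1 : M3) = d • 1) : c = d := by
  simpa using congrFun (congrFun h 0) 0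

/-- Powers of a lift are nontrivial below the order. -/
theorem lift_pow_ne {x : P} {X : PX P} {k : ℕ} (hx : px P x = X) (hk : X ^ k ≠ 1) :
    (x : GL (Fin 3) F) ^ k ≠ 1 := fun h => hk (by
  rw [← hx, ← map_pow, show x ^ k = 1 from Subtype.ext h, map_one])

/-- An element of `P` conjugate to a power of itself modulo scalars has a multiple conjugate to
that power. -/
theorem exists_twisted {X : PX P} {e : ℤ} (he : e = -1 ∨ e = 2) (hX : ∃ h, h * X * h⁻¹ = X ^ e) :
    ∃ x h : P, px P x = X ∧ h * x * h⁻¹ = x ^ e := by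
  obtain ⟨hh, hX⟩ := hX
  obtain ⟨h, rfl⟩ := px_surjective hh
  obtain ⟨x, rfl⟩ := px_surjective X
  set k : P := h * x * h⁻¹ * (x ^ e)⁻¹ with hk
  have hk1 : px P k = 1 := by
    rw [hk, map_mul, map_mul, map_mul, map_inv, map_inv, map_zpow, hX, mul_inv_cancel]
  obtain ⟨c, hc⟩ := px_eq_one.mp hk1
  have hc3 := hS.scalar_cube k.2 hc
  have hcomm : ∀ y : P, k * y = y * k := fun y => Subtype.ext (Units.ext (by
    simp [Subgroup.coe_mul, hc]))
  have hk3 : k ^ 3 = 1 := Subtype.ext (Units.ext (by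
    rw [Subgroup.coe_pow, Units.val_pow_eq_pow_val, hc, smul_pow, one_pow, hc3, one_smul]; rfl))
  have hC : ∀ y : P, Commute k y := hcomm
  have hhx : h * x * h⁻¹ = k * x ^ e := by rw [hk]; group
  refine ⟨k * x, h, by rw [map_mul, hk1, one_mul], ?_⟩
  rw [show h * (k * x) * h⁻¹ = k * (h * x * h⁻¹) by
    rw [← mul_assoc, ← hcomm h]; group, hhx, (hC x).mul_zpow, ← mul_assoc]
  congr 1
  rcases he with rfl | rfl
  · rw [zpow_neg_one]; exact eq_inv_of_mul_eq_one_left (by rw [← hk3, pow_succ, pow_two])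
  · rw [zpow_two]

/-- The normalised lift has the order of the element. -/
theorem twisted_pow {X : PX P} {e : ℤ} (he : e = -1 ∨ e = 2) {x h : P} (hx : px P x = X)
    (hh : h * x * h⁻¹ = x ^ e) {n : ℕ} (hn : X ^ n = 1) : (x : GL (Fin 3) F) ^ n = 1 := by
  obtain ⟨c, hc⟩ := px_eq_one.mp (show px P (x ^ n) = 1 by rw [map_pow, hx, hn])
  have hcx : h * x ^ n * h⁻¹ = x ^ n :=
    Subtype.ext (Units.ext (by
      simp only [Subgroup.coe_mul, Units.val_mul, hc, mul_smul_comm, mul_one, smul_mul_assoc,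
        Subgroup.coe_inv, Units.mul_inv]))
  have h2 : (x ^ n) ^ e = x ^ n := by
    conv_rhs => rw [← hcx, ← conj_pow, hh, ← zpow_natCast, ← zpow_mul, mul_comm, zpow_mul, zpow_natCast]
  have hc3 := hS.scalar_cube (x ^ n).2 hc
  have h3 : (x ^ n) ^ 3 = 1 := Subtype.ext (Units.ext (by
    rw [Subgroup.coe_pow, Units.val_pow_eq_pow_val, hc, smul_pow, one_pow, hc3, one_smul]; rfl))
  have : x ^ n = 1 := by
    rcases he with rfl | rfl
    · rw [zpow_neg_one] at h2
      calc x ^ n = (x ^ n) ^ 3 * ((x ^ n)⁻¹ * (x ^ n)⁻¹) := by group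
        _ = (x ^ n)⁻¹ * x ^ n := by rw [h3, one_mul]; conv_lhs => arg 2; rw [h2]
        _ = 1 := inv_mul_cancel _
    · rw [zpow_two] at h2
      exact mul_left_cancel (a := x ^ n) (h2.trans (mul_one _).symm)
  simpa using congrArg Subtype.val this

/-- Every real element has a lift of the same exponent with trace equal to that of its inverse. -/
theorem exists_real_lift {X : PX P} (hX : RealElt X) :
    ∃ x : P, px P x = X ∧ (∀ n, X ^ n = 1 → (x : GL (Fin 3) F) ^ n = 1) ∧
      tr ((x : GL (Fin 3) F))⁻¹ = tr (x : GL (Fin 3) F) ∧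
      tr ((x : GL (Fin 3) F) ^ 2)⁻¹ = tr ((x : GL (Fin 3) F) ^ 2) := by
  obtain ⟨g, hg⟩ := hX
  obtain ⟨x, h, hx, hh⟩ := exists_twisted hS (e := -1) (Or.inl rfl) ⟨g, by rw [hg, zpow_neg_one]⟩
  refine ⟨x, hx, fun n hn => twisted_pow hS (Or.inl rfl) hx hh hn, ?_, ?_⟩
  · have := congrArg Subtype.val hh
    rw [zpow_neg_one] at this
    simp only [Subgroup.coe_mul, Subgroup.coe_inv] at this
    rw [← this, tr_conj hS]
  · have := congrArg (fun y : P => (y ^ 2 : P)) hh
    simp only [conj_pow, zpow_neg_one, inv_pow] at this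
    have := congrArg Subtype.val this
    simp only [Subgroup.coe_mul, Subgroup.coe_inv, Subgroup.coe_pow] at this
    rw [← this, tr_conj hS]

/-- An element conjugate to its square has such a lift. -/
theorem exists_sq_lift {X : PX P} (hX : SqElt X) :
    ∃ x : P, px P x = X ∧ (∀ n, X ^ n = 1 → (x : GL (Fin 3) F) ^ n = 1) ∧
      tr ((x : GL (Fin 3) F) ^ 2) = tr (x : GL (Fin 3) F) ∧
      tr ((x : GL (Fin 3) F)⁻¹ ^ 2) = tr (x : GL (Fin 3) F)⁻¹ := by
  obtain ⟨g, hg⟩ := hX
  obtain ⟨x, h, hx, hh⟩ := exists_twisted hS (e := 2) (Or.inr rfl)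
    ⟨g, by rw [hg]; rfl⟩
  refine ⟨x, hx, fun n hn => twisted_pow hS (Or.inr rfl) hx hh hn, ?_, ?_⟩
  · have := congrArg Subtype.val hh
    simp only [Subgroup.coe_mul, Subgroup.coe_inv, zpow_two] at this
    rw [sq, ← this, tr_conj hS]
  · have := congrArg (fun y : P => y⁻¹) hh
    simp only [mul_inv_rev, inv_inv, zpow_two] at this
    have := congrArg Subtype.val this
    simp only [Subgroup.coe_mul, Subgroup.coe_inv] at this
    rw [sq, ← this, ← mul_assoc, tr_conj hS]

/-- Lifts of elements of order prime to three are unique. -/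
theorem lift_unique {x y : P} {n : ℕ} (h : px P x = px P y) (hn : Nat.Coprime n 3)
    (hx : (x : GL (Fin 3) F) ^ n = 1) (hy : (y : GL (Fin 3) F) ^ n = 1) : x = y := by
  obtain ⟨c, hc⟩ := px_eq_one.mp (show px P (x⁻¹ * y) = 1 by rw [map_mul, map_inv, h, inv_mul_cancel])
  have hc3 := hS.scalar_cube (x⁻¹ * y).2 hc
  have hcomm : ∀ z : P, Commute z (x⁻¹ * y) := fun z => Subtype.ext (Units.ext (by
    simp only [Subgroup.coe_mul, Units.val_mul] at hc ⊢
    rw [hc]; simp))
  have hy' : y = x * (x⁻¹ * y) := by group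
  have hxn : x ^ n = 1 := Subtype.ext (by simpa using hx)
  have hyn : y ^ n = 1 := Subtype.ext (by simpa using hy)
  rw [hy', (hcomm x).mul_pow, hxn, one_mul] at hyn
  have h3 : (x⁻¹ * y) ^ 3 = 1 := Subtype.ext (Units.ext (by
    rw [Subgroup.coe_pow, Units.val_pow_eq_pow_val, hc, smul_pow, one_pow, hc3, one_smul]; rfl))
  have : (x⁻¹ * y) ^ Nat.gcd n 3 = 1 := pow_gcd_eq_one.mpr ⟨hyn, h3⟩
  rw [hn.gcd_eq_one, pow_one] at this
  exact inv_mul_eq_one.mp this

/-- The traces of a normalised lift of a real element. -/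
theorem tv_of_real {X : PX P} {n : ℕ} (hn : n ∈ [2, 3, 4, 5, 6]) (ho : orderOf X = n)
    {x : P} (hx : px P x = X) (hp : ∀ m, X ^ m = 1 → (x : GL (Fin 3) F) ^ m = 1)
    (hr : tr ((x : GL (Fin 3) F))⁻¹ = tr (x : GL (Fin 3) F))
    (hr2 : tr ((x : GL (Fin 3) F) ^ 2)⁻¹ = tr ((x : GL (Fin 3) F) ^ 2)) :
    TV n (tr (x : GL (Fin 3) F)) := by
  have hd := hS.det_eq_one x.2
  have h := hp n (ho ▸ pow_orderOf_eq_one X)
  have hne : ∀ k, 0 < k → k < n → (x : GL (Fin 3) F) ^ k ≠ 1 := fun k h0 hk =>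
    lift_pow_ne hS hx fun e => absurd (Nat.le_of_dvd h0 (orderOf_dvd_of_pow_eq_one e)) (by omega)
  have h1 : (x : GL (Fin 3) F) ≠ 1 := fun e =>
    hne 1 one_pos (by simp at hn; omega) (by rw [pow_one, e])
  simp at hn
  rcases hn with rfl | rfl | rfl | rfl | rfl
  · exact Or.inl ⟨rfl, trace_of_two hd h h1⟩
  · exact Or.inr (Or.inl ⟨rfl, trace_of_three hd h h1 hr⟩)
  · exact Or.inr (Or.inr (Or.inl ⟨rfl, trace_of_four hd h (hne 2 (by norm_num) (by norm_num)) hr⟩))
  · exact Or.inr (Or.inr (Or.inr (Or.inl ⟨rfl, trace_of_five hd h h1 (hne 2 (by norm_num) (by norm_num)) hr⟩)))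
  · exact Or.inr (Or.inr (Or.inr (Or.inr ⟨rfl, trace_of_six hd h (hne 2 (by norm_num) (by norm_num)) hr hr2⟩)))

theorem root7_of_lift {X : PX P} (ho : orderOf X = 7) {x : P} (hx : px P x = X)
    (hp : ∀ m, X ^ m = 1 → (x : GL (Fin 3) F) ^ m = 1)
    (h1 : tr ((x : GL (Fin 3) F) ^ 2) = tr (x : GL (Fin 3) F))
    (h2 : tr ((x : GL (Fin 3) F)⁻¹ ^ 2) = tr (x : GL (Fin 3) F)⁻¹) :
    Root7 (tr (x : GL (Fin 3) F)) (tr ((x : GL (Fin 3) F))⁻¹) := by
  have hne : ∀ k, 0 < k → k < 7 → (x : GL (Fin 3) F) ^ k ≠ 1 := fun k h0 hk =>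
    lift_pow_ne hS hx fun e => absurd (Nat.le_of_dvd h0 (orderOf_dvd_of_pow_eq_one e)) (by omega)
  exact trace_of_seven (hS.det_eq_one x.2) (hp 7 (ho ▸ pow_orderOf_eq_one X))
    (fun e => hne 1 one_pos (by norm_num) (by rw [pow_one, e])) (hne 3 (by norm_num) (by norm_num)) h1 h2

/-- The traces of all elements of `P`, from the profile of the quotient. -/
theorem trace_cases {ns : List ℕ} (hns : ∀ n ∈ ns, n ∈ [2, 3, 4, 5, 6])
    (hP : Profile (PX P) ns) (x : GL (Fin 3) F) (hx : x ∈ P) :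
    ∃ c t t' : F, c ^ 3 = 1 ∧ (∃ z ∈ P, (z : M3) = c • 1) ∧ tr x = c * t ∧ tr x⁻¹ = c⁻¹ * t' ∧
      ((t' = t ∧ (t = 3 ∨ ∃ n ∈ ns, TV n t)) ∨ (7 ∣ Nat.card (PX P) ∧ Root7 t t')) := by
  suffices H : ∃ (w : P) (t t' : F), px P w = px P ⟨x, hx⟩ ∧ tr (w : GL (Fin 3) F) = t ∧
      tr ((w : GL (Fin 3) F))⁻¹ = t' ∧
      ((t' = t ∧ (t = 3 ∨ ∃ n ∈ ns, TV n t)) ∨ (7 ∣ Nat.card (PX P) ∧ Root7 t t')) by
    obtain ⟨w, t, t', hw, e1, e2, ht⟩ := H
    obtain ⟨c, hc⟩ := px_eq_iff.mp hw
    change (x : M3) = c • ((w : GL (Fin 3) F) : M3) at hc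
    have hcz : (((w : GL (Fin 3) F))⁻¹ * x : GL (Fin 3) F).1 = c • 1 := by
      rw [Units.val_mul, hc, mul_smul_comm, Units.inv_mul]
    have hc3 := hS.scalar_cube (P.mul_mem (P.inv_mem w.2) hx) hcz
    refine ⟨c, t, t', hc3, ⟨_, P.mul_mem (P.inv_mem w.2) hx, hcz⟩, ?_, ?_, ht⟩
    · rw [tr, hc, Matrix.trace_smul, smul_eq_mul]; exact congrArg (c * ·) e1
    · have hc0 : c ≠ 0 := fun h => by rw [h] at hc3; simp at hc3
      have hi : ((x⁻¹ : GL (Fin 3) F) : M3) = c⁻¹ • (((w : GL (Fin 3) F))⁻¹ : GL (Fin 3) F).1 := by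
        rw [Units.inv_eq_of_mul_eq_one_right]
        rw [hc, smul_mul_assoc, mul_smul_comm, Units.mul_inv, smul_smul, mul_inv_cancel₀ hc0, one_smul]
      rw [tr, hi, Matrix.trace_smul, smul_eq_mul]
      exact congrArg (c⁻¹ * ·) e2
  rcases hP (px P ⟨x, hx⟩) with h | ⟨n, hn, ho, hr⟩ | ⟨ho, hsq⟩
  · exact ⟨1, 3, 3, by rw [map_one, h], by simp [tr], by simp [tr], Or.inl ⟨rfl, Or.inl rfl⟩⟩
  · obtain ⟨w, hw, hp, h1, h2⟩ := exists_real_lift hS hr
    exact ⟨w, _, _, hw, rfl, h1, Or.inl ⟨rfl, Or.inr ⟨n, hn, tv_of_real hS (hns n hn) ho hw hp h1 h2⟩⟩⟩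
  · obtain ⟨w, hw, hp, h1, h2⟩ := exists_sq_lift hS hsq
    exact ⟨w, _, _, hw, rfl, rfl, Or.inr ⟨ho ▸ orderOf_dvd_natCard _, root7_of_lift hS ho hw hp h1 h2⟩⟩

/-- Order 168: the only scalar in `P` is the identity. -/
theorem scalar_eq_one_168 [Finite F] (h : projCard P = 168) {z : GL (Fin 3) F} (hz : z ∈ P) {c : F}
    (hc : (z : M3) = c • 1) : c = 1 := by
  classical
  by_contra hne
  set S := (scalars (Fin 3) F).subgroupOf P
  have hzS : (⟨z, hz⟩ : P) ∈ S :=
    (QuotientGroup.eq_one_iff _).mp (px_eq_one.mpr ⟨c, hc⟩)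
  have hS3 : Nat.card S ∣ 3 := by
    haveI : Finite S := inferInstance
    let f : S →* Fˣ :=
      { toFun := fun s => Units.mk0
          (((s : P) : GL (Fin 3) F) 0 0) (by
            obtain ⟨u, hu⟩ := (mem_scalars_iff _).mp (Subgroup.mem_subgroupOf.mp s.2)
            show (((s : P) : GL (Fin 3) F) : M3) 0 0 ≠ 0
            rw [hu]; simp)
        map_one' := by ext; simp
        map_mul' := fun a b => by
          obtain ⟨u, hu⟩ := (mem_scalars_iff _).mp (Subgroup.mem_subgroupOf.mp a.2)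
          obtain ⟨v, hv⟩ := (mem_scalars_iff _).mp (Subgroup.mem_subgroupOf.mp b.2)
          ext
          simp only [Units.val_mul, Subgroup.coe_mul, Units.val_mk0]
          rw [hu, hv]; simp [mul_comm] }
    have hinj : Function.Injective f := fun a b hab => by
      obtain ⟨u, hu⟩ := (mem_scalars_iff _).mp (Subgroup.mem_subgroupOf.mp a.2)
      obtain ⟨v, hv⟩ := (mem_scalars_iff _).mp (Subgroup.mem_subgroupOf.mp b.2)
      have := congrArg Units.val hab
      simp only [f, MonoidHom.coe_mk, OneHom.coe_mk, Units.val_mk0, hu, hv] at this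
      refine Subtype.ext (Subtype.ext (Units.ext ?_))
      rw [hu, hv]
      congr 1
      simpa using this
    haveI : IsCyclic S := isCyclic_of_subgroup_isDomain ((Units.coeHom F).comp f)
      (Units.val_injective.comp hinj)
    obtain ⟨g, hg⟩ := IsCyclic.exists_generator (α := S)
    rw [← orderOf_eq_card_of_forall_mem_zpowers hg]
    refine orderOf_dvd_of_pow_eq_one (hinj ?_)
    obtain ⟨u, hu⟩ := (mem_scalars_iff _).mp (Subgroup.mem_subgroupOf.mp g.2)
    rw [map_pow, map_one]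
    ext
    simp only [f, MonoidHom.coe_mk, OneHom.coe_mk, map_one, one_mul, Units.val_pow_eq_pow_val,
      Units.val_mk0, Units.val_one, hu]
    simpa using hS.scalar_cube (g : P).2 hu
  have hS3' : Nat.card S = 3 := ((Nat.dvd_prime Nat.prime_three).mp hS3).resolve_left fun h1 => by
    rw [Subgroup.card_eq_one] at h1
    rw [h1, Subgroup.mem_bot] at hzS
    refine hne (scalar_unique hS ?_)
    rw [← hc, one_smul, show z = 1 from congrArg Subtype.val hzS, Units.val_one]
  have hcard : Nat.card P = 504 := by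
    rw [Subgroup.card_eq_card_quotient_mul_card_subgroup S, hS3',
      show Nat.card (P ⧸ S) = 168 from h]
  haveI : Fact (Nat.Prime 3) := ⟨Nat.prime_three⟩
  let R : Sylow 3 P := default
  have hR : Nat.card (R : Subgroup P) = 3 ^ 2 := by
    rw [R.card_eq_multiplicity, hcard]
    have : Nat.factorization 504 3 = 2 := by decide +kernel
    rw [this]
  haveI := IsPGroup.isMulCommutative_of_card_eq_prime_sq hR
  set zp : P := ⟨z, hz⟩
  have hcen : ∀ y : P, zp * y = y * zp := fun y => Subtype.ext (Units.ext (by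
    simp [Subgroup.coe_mul, zp, hc]))
  have h3 : zp ^ 3 = 1 := Subtype.ext (Units.ext (by
    rw [Subgroup.coe_pow, Units.val_pow_eq_pow_val]
    show (z : M3) ^ 3 = _
    rw [hc, smul_pow, one_pow, hS.scalar_cube hz hc, one_smul]; rfl))
  have key : ∀ (k : ℕ) (g₀ : P), g₀⁻¹ * zp ^ k * g₀ ∈ (R : Subgroup P) → g₀⁻¹ * zp ^ k * g₀ = zp ^ k := by
    intro k g₀ _
    rw [mul_assoc, ((show Commute zp g₀ from hcen g₀).pow_left k).eq, inv_mul_cancel_left]
  letI : CommGroup (R : Subgroup P) :=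
    { (inferInstance : Group (R : Subgroup P)) with mul_comm := fun a b => Std.Commutative.comm a b }
  have ht := MonoidHom.transfer_eq_pow (MonoidHom.id (R : Subgroup P)) zp key
  rw [hS.hom_eq_one (MonoidHom.transfer (MonoidHom.id (R : Subgroup P))) zp] at ht
  have h56 : zp ^ (R : Subgroup P).index = 1 := (congrArg Subtype.val ht).symm
  have hi : (R : Subgroup P).index = 56 := by
    have := (R : Subgroup P).card_mul_index
    rw [hR, hcard] at this
    omega
  rw [hi] at h56
  have : zp ^ Nat.gcd 56 3 = 1 := pow_gcd_eq_one.mpr ⟨h56, h3⟩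
  rw [show Nat.gcd 56 3 = 1 from rfl, pow_one] at this
  refine hne (scalar_unique hS ?_)
  rw [← hc, one_smul, show z = 1 from congrArg Subtype.val this, Units.val_one]

end Lifts

end Cfsg.Agent.Linear.Mitchell.Socle
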