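import Cfsg.Agent.Linear.Mitchell.Socle.Common

/-!
The residual class of `SL₃(q)`, from Mitchell's theorem.
-/

set_option autoImplicit false
set_option linter.style.haveILetI false
set_option linter.unusedSectionVars false

namespace Cfsg.Agent.Linear.Mitchell.Socle

open scoped MatrixGroups Matrix
open Cfsg.Geo

variable {F : Type*} [Field F] [Fintype F] {H P : Subgroup (GL (Fin 3) F)} (p : ℕ) [Fact p.Prime]
  [CharP F p]

local notation "M3" => Matrix (Fin 3) (Fin 3) F

theorem setting_of_core (hH : H ≤ specialLinear (Fin 3) F) (hc : IsResidualCore H P) : Setting P :=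
  ⟨hc.le.trans hH, hc.perfect, hc.absIrred, hc.simple⟩

/-- The socles of the maximal subgroups in the residual class of the linear case. -/
theorem linear_case (hH : IsMaximalIn (specialLinear (Fin 3) F) H) (hc : IsResidualCore H P)
    (hQ : ¬ ∃ Q : (Fin 3 → F) → F, IsNondegenerateQuadraticForm Q ∧ FixesQuadForm (matrixSet P) Q)
    (hU : ¬ ∃ (σ : F ≃+* F) (f : (Fin 3 → F) → (Fin 3 → F) → F),
      IsUnitaryForm σ f ∧ FixesForm (matrixSet P) f)
    (hM : Outcome p P) :
    (Nonempty ((P ⧸ (scalars (Fin 3) F).subgroupOf P) ≃* Matrix.ProjectiveSpecialLinearGroup (Fin 3) (ZMod 2)) ∧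
        Fintype.card F = p ∧ p ≠ 2 ∧ (p % 7 = 1 ∨ p % 7 = 2 ∨ p % 7 = 4)) ∨
    (Nonempty ((P ⧸ (scalars (Fin 3) F).subgroupOf P) ≃* alternatingGroup (Fin 6)) ∧
        ((Fintype.card F = p ∧ (p % 15 = 1 ∨ p % 15 = 4)) ∨
          (Fintype.card F = p ^ 2 ∧ p ≠ 3 ∧ (p % 5 = 2 ∨ p % 5 = 3)))) := by
  have hS := setting_of_core hH.1.le hc
  have hno := hc.no_subfield
  have hlt : ∀ L : Subgroup (GL (Fin 3) F), P = L → L ≠ specialLinear (Fin 3) F := fun L e h =>
    hH.1.not_ge ((e.trans h) ▸ hc.le)
  have hp0 : p.Prime := Fact.out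
  rcases hM with h | h | ⟨-, h⟩ | h | h | ⟨h, hp5⟩
  · exact absurd (eq_sl_of_isSLForm h hno) (hlt P rfl)
  · obtain ⟨q₀, g, hq, e⟩ := eq_su_of_isSUForm h hno
    exact absurd (e ▸ exists_unitary_of_conj hq inf_le_left g) hU
  · exact absurd h hQ
  · -- order 168
    have hs : IsSmall P := Or.inl h
    have h5 : projCard P ≠ 168 → p % 5 = 0 ∨ p % 5 = 1 ∨ p % 5 = 4 := fun h' => absurd h h'
    have hc1 : ∀ c : F, c ^ 3 = 1 → (∃ z ∈ P, (z : M3) = c • 1) → c = 1 := fun c _ hz =>
      scalar_cases_168 hS h hz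
    have h7p : p ≠ 7 := by
      intro e
      exact hQ (exists_quad_of_real p hS (by omega) (hs.traces_real p hS (fun _ => e) hc1))
    have hmod7 : p % 7 ≠ 0 := fun h0 => h7p
      ((Nat.prime_dvd_prime_iff_eq (by norm_num) hp0).mp (Nat.dvd_of_mod_eq_zero h0)).symm
    obtain ⟨x, hx, -, hroot⟩ := exists_seven hS (Or.inl h)
    by_cases hgood : p % 7 = 1 ∨ p % 7 = 2 ∨ p % 7 = 4
    · have hcard := card_eq_char p (le_of_le_of_eq (card_le_of_traces p hS hno one_pos (by
        simpa using hs.traces_prime p hS h5 (fun _ => Or.inr hgood)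
          (fun c hc3 hz => by rw [hc1 c hc3 hz, one_pow]))) (pow_one p))
      refine Or.inl ⟨iso_L32 hS h, hcard, fun hp2 => ?_, hgood⟩
      subst hp2
      have hP : Nat.card P = 168 := by
        rw [Subgroup.card_eq_card_quotient_mul_card_subgroup ((scalars (Fin 3) F).subgroupOf P),
          show Nat.card (P ⧸ _) = 168 from h]
        have : (scalars (Fin 3) F).subgroupOf P = ⊥ := by
          rw [eq_bot_iff]
          rintro ⟨z, hz⟩ hzs
          obtain ⟨c, hc'⟩ := (mem_scalars_iff _).mp (Subgroup.mem_subgroupOf.mp hzs)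
          have hc1' := scalar_eq_one_168 hS h hz hc'
          exact Subgroup.mem_bot.mpr (Subtype.ext (Units.ext (by rw [hc', hc1', one_smul]; rfl)))
        rw [this, Subgroup.card_bot, mul_one]
      have hSL : Nat.card (specialLinear (Fin 3) F) = 168 := by
        have e : specialLinear (Fin 3) F = (Matrix.SpecialLinearGroup.toGL (n := Fin 3) (R := F)).range :=
          (Cfsg.Agent.Linear.range_toGL).symm
        rw [e, ← Nat.card_congr (MonoidHom.ofInjective Cfsg.Agent.Linear.toGL_injective).toEquiv,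
          Cfsg.Agent.Linear.card_SL_three, hcard]
        norm_num
      haveI : Finite (GL (Fin 3) F) := inferInstance
      exact hlt P rfl (Subgroup.eq_of_le_of_card_ge hS.le_sl (by omega))
    · exfalso
      have hbad : p % 7 = 3 ∨ p % 7 = 5 ∨ p % 7 = 6 := by omega
      rcases hs.card_cases p hS hno with hα | hα
      · obtain ⟨e1, e2⟩ := seven_swap p hroot hbad
        exact e2 (e1 ▸ pow_card_prime p hα _)
      · exact hU (exists_unitary_of_twisted p hS hα (hs.traces_twisted p hS h5 (fun _ => hbad)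
          (fun c hc3 hz => by rw [hc1 c hc3 hz, one_pow, inv_one])))
  · -- order 360
    refine Or.inr ⟨iso_six hS h, ?_⟩
    have hs : IsSmall P := Or.inr (Or.inl h)
    have h7 : ∀ q : Prop, projCard P ≠ 360 → q := fun _ h' => absurd h h'
    have hp3 : p ≠ 3 := by
      intro e
      exact hQ (exists_quad_of_real p hS (by omega)
        (hs.traces_real p hS (h7 _) fun c hc3 _ => cube_eq_one_char_three p e hc3))
    obtain ⟨z, hz, w, hw, hne, hwp⟩ := omega_mod p hS (Or.inl h) hp3
    have hw3 := hS.scalar_cube hz hw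
    obtain ⟨x, hx, ht, -⟩ := exists_five hS (Or.inl h)
    by_cases h5 : p % 5 = 0 ∨ p % 5 = 1 ∨ p % 5 = 4
    · rcases hwp with ⟨h31, -⟩ | ⟨h32, hwi⟩
      · have hcard := card_eq_char p (le_of_le_of_eq (card_le_of_traces p hS hno one_pos (by
          simpa using hs.traces_prime p hS (fun _ => h5) (h7 _) (fun c hc3 _ =>
            ((cube_root_cases p hc3).elim (fun e => by rw [e, one_pow])
              (fun e => e.elim (fun e => e.2) (fun e => by omega)))))) (pow_one p))
        refine Or.inl ⟨hcard, ?_⟩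
        have : p % 5 ≠ 0 := fun h0 => by
          have := ((Nat.prime_dvd_prime_iff_eq (by norm_num) hp0).mp (Nat.dvd_of_mod_eq_zero h0))
          omega
        omega
      · exfalso
        rcases hs.card_cases p hS hno with hα | hα
        · exact inv_ne_self_of_cube hw3 hne (hwi ▸ pow_card_prime p hα w)
        · exact hU (exists_unitary_of_twisted p hS hα (hs.traces_twisted p hS (fun _ => h5) (h7 _)
            (fun c hc3 _ => (cube_root_cases p hc3).elim (fun e => by rw [e, one_pow, inv_one])
              (fun e => e.elim (fun e => by omega) (fun e => e.2)))))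
    · refine Or.inr ⟨(hs.card_cases p hS hno).resolve_left fun hα => ?_, hp3, by omega⟩
      obtain ⟨e1, e2⟩ := five_swap p ht (by omega)
      exact e2 (e1 ▸ pow_card_prime p hα _)
  · -- order 2520
    exfalso
    subst hp5
    have hs : IsSmall P := Or.inr (Or.inr h)
    obtain ⟨z, hz, w, hw, hne, hwp⟩ := omega_mod 5 hS (Or.inr h) (by norm_num)
    rcases hs.card_cases 5 hS hno with hα | hα
    · rcases hwp with ⟨h31, -⟩ | ⟨-, hwi⟩
      · omega
      · exact inv_ne_self_of_cube (hS.scalar_cube hz hw) hne (hwi ▸ pow_card_prime 5 hα w)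
    · exact hU (exists_unitary_of_twisted 5 hS hα (hs.traces_twisted 5 hS (fun _ => Or.inl rfl)
        (fun _ => Or.inr (Or.inl rfl))
        (fun c hc3 _ => (cube_root_cases 5 hc3).elim (fun e => by rw [e, one_pow, inv_one])
          (fun e => e.elim (fun e => by omega) (fun e => e.2)))))

end Cfsg.Agent.Linear.Mitchell.Socle
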