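import Mathlib.GroupTheory.Perm.Cycle.Type
import Mathlib.GroupTheory.SpecificGroups.Alternating
import Mathlib.GroupTheory.Index
import Cfsg.Agent.Linear.Order
import Cfsg.Agent.S0497
import Cfsg.Agent.S0984
import Cfsg.Agent.S0495
import Cfsg.Agent.S0255
import Cfsg.Agent.S1005
import Cfsg.Agent.S1006

/-!
The groups of order 168, 360 and 2520: element orders, reality, and generating pairs which detect
the outer automorphisms.
-/

set_option autoImplicit false
set_option maxRecDepth 4000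
set_option linter.style.haveILetI false

namespace Cfsg.Agent.Linear.Mitchell.Socle

open scoped MatrixGroups
open Equiv

/-- Conjugate to the inverse. -/
def RealElt {G : Type*} [Group G] (x : G) : Prop := ∃ h, h * x * h⁻¹ = x⁻¹

/-- Conjugate to the square. -/
def SqElt {G : Type*} [Group G] (x : G) : Prop := ∃ h, h * x * h⁻¹ = x ^ 2

/-- Small orders, real; order seven, conjugate to the square. -/
def Profile (G : Type*) [Group G] (ns : List ℕ) : Prop :=
  ∀ x : G, x = 1 ∨ (∃ n ∈ ns, orderOf x = n ∧ RealElt x) ∨ (orderOf x = 7 ∧ SqElt x)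

/-- A subgroup of small index of a simple group is everything. -/
theorem eq_top_of_index {G : Type*} [Group G] [Finite G] [IsSimpleGroup G] {K : Subgroup G}
    (h : K.index.factorial < Nat.card G) : K = ⊤ := by
  by_contra hK
  have hne : K.normalCore ≠ ⊤ := fun e => hK (top_le_iff.mp (e ▸ K.normalCore_le))
  have hb := (K.normalCore_normal.eq_bot_or_eq_top).resolve_right hne
  haveI : Fintype (G ⧸ K) := Fintype.ofFinite _
  classical
  have hinj : Function.Injective (MulAction.toPermHom G (G ⧸ K)) := by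
    rw [← MonoidHom.ker_eq_bot_iff, ← Subgroup.normalCore_eq_ker, hb]
  have h1 := Nat.card_le_card_of_injective _ hinj
  rw [Nat.card_perm] at h1
  exact absurd (lt_of_le_of_lt h1 h) (lt_irrefl _)

theorem index_le {G : Type*} [Group G] [Finite G] {K : Subgroup G} {d k : ℕ}
    (hd : d ∣ Nat.card K) (hd0 : 0 < d) (hk : Nat.card G ≤ d * k) : K.index ≤ k := by
  refine Nat.le_of_mul_le_mul_left ?_ hd0
  calc d * K.index ≤ Nat.card K * K.index := Nat.mul_le_mul_right _ (Nat.le_of_dvd Nat.card_pos hd)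
    _ = Nat.card G := K.card_mul_index
    _ ≤ d * k := hk

theorem orderOf_dvd_card_of_mem {G : Type*} [Group G] {K : Subgroup G} {x : G} (hx : x ∈ K) :
    orderOf x ∣ Nat.card K := by
  have := orderOf_dvd_natCard (⟨x, hx⟩ : K)
  rwa [← Subgroup.orderOf_coe] at this

theorem closure_pair_mem {G : Type*} [Group G] (z b : G) :
    z ∈ Subgroup.closure ({z, b} : Set G) ∧ b ∈ Subgroup.closure ({z, b} : Set G) :=
  ⟨Subgroup.subset_closure (by simp), Subgroup.subset_closure (by simp)⟩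

/-- A permutation given by two tables. -/
abbrev mk {n : ℕ} (f g : Fin n → Fin n) (h₁ : ∀ i, g (f i) = i := by decide)
    (h₂ : ∀ i, f (g i) = i := by decide) : Perm (Fin n) := ⟨f, g, h₁, h₂⟩

/-- The cycle types of degree `n`, with enough fuel. -/
def parts : ℕ → ℕ → List (Multiset ℕ)
  | 0, _ => [0]
  | f + 1, n => 0 :: (((List.range (n + 1)).filter (2 ≤ ·)).flatMap fun a =>
      (parts f (n - a)).map (a ::ₘ ·))

theorem mem_parts (m : Multiset ℕ) : ∀ f n, n / 2 ≤ f → (∀ a ∈ m, 2 ≤ a) → m.sum ≤ n →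
    m ∈ parts f n := by
  induction m using Multiset.induction with
  | empty => intro f n _ _ _; cases f <;> simp [parts]
  | cons a m ih =>
    intro f n hf h2 hs
    have ha := h2 a (Multiset.mem_cons_self a m)
    rw [Multiset.sum_cons] at hs
    cases f with
    | zero => omega
    | succ f =>
      simp only [parts, List.mem_cons, List.mem_flatMap, List.mem_map, List.mem_filter,
        List.mem_range, decide_eq_true_eq]
      exact Or.inr ⟨a, ⟨by omega, ha⟩, m, ih f (n - a) (by omega)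
        (fun x hx => h2 x (Multiset.mem_cons_of_mem hx)) (by omega), rfl⟩

/-- Every even permutation is conjugate to a representative. -/
theorem exists_rep {n : ℕ} (R : List (Perm (Fin n)))
    (hR : ∀ m ∈ parts n n, Even (m.sum + m.card) → ∃ r ∈ R, r.cycleType = m)
    (x : Perm (Fin n)) (hx : Perm.sign x = 1) : ∃ r ∈ R, IsConj r x := by
  obtain ⟨r, hr, he⟩ := hR x.cycleType (mem_parts _ n n (Nat.div_le_self n 2)
      (fun a ha => Perm.two_le_of_mem_cycleType ha)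
      (by simpa using x.sum_cycleType_le)) (by
    rw [Perm.sign_of_cycleType] at hx
    exact (neg_one_pow_eq_one_iff_even (by decide)).mp hx)
  exact ⟨r, hr, Perm.isConj_iff_cycleType_eq.mpr he⟩

/-- Properties of representatives give the profile of the alternating group. -/
theorem profile_alt {n : ℕ} (R : List (Perm (Fin n))) (ns : List ℕ)
    (hR : ∀ m ∈ parts n n, Even (m.sum + m.card) → ∃ r ∈ R, r.cycleType = m)
    (hr : ∀ r ∈ R, r = 1 ∨
      (∃ k ∈ ns, orderOf r = k ∧ ∃ h, Perm.sign h = 1 ∧ h * r * h⁻¹ = r⁻¹) ∨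
      (orderOf r = 7 ∧ ∃ h, Perm.sign h = 1 ∧ h * r * h⁻¹ = r ^ 2)) :
    Profile (alternatingGroup (Fin n)) ns := by
  rintro ⟨x, hx⟩
  obtain ⟨r, hrR, hc⟩ := exists_rep R hR x (Perm.mem_alternatingGroup.mp hx)
  obtain ⟨π, rfl⟩ := isConj_iff.mp hc
  have ho : orderOf (⟨π * r * π⁻¹, hx⟩ : alternatingGroup (Fin n)) = orderOf r := by
    rw [← Subgroup.orderOf_coe]
    exact orderOf_injective (MulAut.conj π).toMonoidHom (MulAut.conj π).injective r
  have hs : ∀ h, Perm.sign h = 1 → π * h * π⁻¹ ∈ alternatingGroup (Fin n) := fun h hh =>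
    Perm.mem_alternatingGroup.mpr (by simp [hh])
  rcases hr r hrR with rfl | ⟨k, hk, hok, h, hh, he⟩ | ⟨h7, h, hh, he⟩
  · exact Or.inl (Subtype.ext (by simp))
  · refine Or.inr (Or.inl ⟨k, hk, ho.trans hok, ⟨_, hs h hh⟩, Subtype.ext ?_⟩)
    show π * h * π⁻¹ * (π * r * π⁻¹) * (π * h * π⁻¹)⁻¹ = (π * r * π⁻¹)⁻¹
    rw [show π * h * π⁻¹ * (π * r * π⁻¹) * (π * h * π⁻¹)⁻¹ = π * (h * r * h⁻¹) * π⁻¹ by group, he]
    group
  · refine Or.inr (Or.inr ⟨ho.trans h7, ⟨_, hs h hh⟩, Subtype.ext ?_⟩)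
    show π * h * π⁻¹ * (π * r * π⁻¹) * (π * h * π⁻¹)⁻¹ = (π * r * π⁻¹) ^ 2
    rw [show π * h * π⁻¹ * (π * r * π⁻¹) * (π * h * π⁻¹)⁻¹ = π * (h * r * h⁻¹) * π⁻¹ by group, he,
      conj_pow]

/-- Conjugate in `Sₙ` gives conjugate in `Aₙ` to it or to its image under an odd permutation. -/
theorem alt_conj_or {n : ℕ} {z x w : alternatingGroup (Fin n)} (hc : IsConj (z : Perm (Fin n)) x)
    (τ : Perm (Fin n)) (hτ : Perm.sign τ = -1) (hw : τ * (z : Perm (Fin n)) * τ⁻¹ = w) :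
    ∃ y, y * z * y⁻¹ = x ∨ y * w * y⁻¹ = x := by
  obtain ⟨π, hπ⟩ := isConj_iff.mp hc
  rcases Int.units_eq_one_or (Perm.sign π) with h | h
  · exact ⟨⟨π, Perm.mem_alternatingGroup.mpr h⟩, Or.inl (Subtype.ext hπ)⟩
  · refine ⟨⟨π * τ⁻¹, Perm.mem_alternatingGroup.mpr (by simp [h, hτ])⟩, Or.inr (Subtype.ext ?_)⟩
    show π * τ⁻¹ * (w : Perm (Fin n)) * (π * τ⁻¹)⁻¹ = x
    rw [← hw, ← hπ]; group

/-! ### Degree six -/

/-- The five-cycle. -/
abbrev z6 : Perm (Fin 6) := mk ![1,2,3,4,0,5] ![4,0,1,2,3,5]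

/-- The involution. -/
abbrev b6 : Perm (Fin 6) := mk ![0,1,3,2,5,4] ![0,1,3,2,5,4]

/-- Its outer partner. -/
abbrev c6 : Perm (Fin 6) := mk ![0,1,5,4,3,2] ![0,1,5,4,3,2]

/-- Representatives of the even classes. -/
abbrev reps6 : List (Perm (Fin 6)) :=
  [1, mk ![1,0,3,2,4,5] ![1,0,3,2,4,5], mk ![1,2,0,3,4,5] ![2,0,1,3,4,5],
    mk ![1,2,0,4,5,3] ![2,0,1,5,3,4], mk ![1,2,3,0,5,4] ![3,0,1,2,5,4], z6]

/-- The witnesses of reality. -/
abbrev wit6 : List (Perm (Fin 6)) :=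
  [1, mk ![0,2,1,3,5,4] ![0,2,1,3,5,4], mk ![0,3,2,1,5,4] ![0,3,2,1,5,4],
    mk ![0,4,3,2,1,5] ![0,4,3,2,1,5]]

theorem reps6_types : ∀ m ∈ parts 6 6, Even (m.sum + m.card) →
    ∃ r ∈ reps6, r.cycleType = m := by decide +kernel

theorem reps6_real : ∀ r ∈ reps6, r = 1 ∨
    (∃ k ∈ [2, 3, 4, 5], r ^ k = 1 ∧ (∀ j < k, 0 < j → r ^ j ≠ 1) ∧
      ∃ h ∈ wit6, Perm.sign h = 1 ∧ h * r * h⁻¹ = r⁻¹) := by decide +kernel

theorem inner6 : ∀ x : Perm (Fin 6), x * x = 1 → Perm.sign x = 1 → x ≠ 1 →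
    (z6 * x) ^ 5 = 1 → (z6 ^ 2 * x) ^ 4 = 1 → (z6 ^ 3 * x) ^ 4 = 1 →
    ∃ k : Fin 5, z6 ^ (k : ℕ) * b6 * (z6 ^ (k : ℕ))⁻¹ = x ∨
      z6 ^ (k : ℕ) * c6 * (z6 ^ (k : ℕ))⁻¹ = x := by decide +kernel

theorem five6 : ∀ m ∈ parts 6 6, (∀ a ∈ m, a = 5) → m = 0 ∨ m = z6.cycleType := by decide +kernel

/-- The word for the first element of order three. -/
def wu {G : Type*} [Monoid G] (z b : G) : G := b * z ^ 3 * b * z ^ 2 * b * z

/-- The word for the second element of order three. -/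
def wv {G : Type*} [Monoid G] (z b : G) : G := b * z ^ 2 * b * z * b * z ^ 3

theorem map_wu {G H : Type*} [Monoid G] [Monoid H] (f : G →* H) (z b : G) :
    f (wu z b) = wu (f z) (f b) := by simp [wu]

theorem map_wv {G H : Type*} [Monoid G] [Monoid H] (f : G →* H) (z b : G) :
    f (wv z b) = wv (f z) (f b) := by simp [wv]

/-- The data of the group of order 360. -/
structure SixData {G : Type*} [Group G] (z b c y : G) : Prop where
  oz : orderOf z = 5
  ob : orderOf b = 2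
  o1 : orderOf (z * b) = 5
  o2 : orderOf (z ^ 2 * b) = 4
  o3 : orderOf (z ^ 3 * b) = 4
  ou : orderOf (wu z b) = 3
  ov : orderOf (wv z b) = 3
  comm : wu z b * wv z b = wv z b * wu z b
  indep : ∀ i : ℕ, wv z b ≠ wu z b ^ i
  cls : ∀ x : G, orderOf x = 5 → ∃ g, g * z * g⁻¹ = x ∨ g * z ^ 2 * g⁻¹ = x
  inner : ∀ x : G, orderOf x = 2 → (z * x) ^ 5 = 1 → (z ^ 2 * x) ^ 4 = 1 → (z ^ 3 * x) ^ 4 = 1 →
    ∃ k : ℕ, z ^ k * b * (z ^ k)⁻¹ = x ∨ z ^ k * c * (z ^ k)⁻¹ = x
  outu : wu z c = y * (wu z b * (wv z b * wv z b)) * y⁻¹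
  outv : wv z c = y * (wu z b * wv z b) * y⁻¹

theorem SixData.map {G H : Type*} [Group G] [Group H] {z b c y : G} (d : SixData z b c y)
    (e : G ≃* H) : SixData (e z) (e b) (e c) (e y) := by
  have ho : ∀ a : G, orderOf (e a) = orderOf a := fun a =>
    orderOf_injective e.toMonoidHom e.injective a
  have hu : ∀ a a' : G, wu (e a) (e a') = e (wu a a') := fun a a' => (map_wu e.toMonoidHom a a').symm
  have hv : ∀ a a' : G, wv (e a) (e a') = e (wv a a') := fun a a' => (map_wv e.toMonoidHom a a').symm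
  refine ⟨(ho z).trans d.oz, (ho b).trans d.ob, ?_, ?_, ?_, ?_, ?_, ?_, ?_, ?_, ?_, ?_, ?_⟩
  · rw [← map_mul, ho, d.o1]
  · rw [← map_pow, ← map_mul, ho, d.o2]
  · rw [← map_pow, ← map_mul, ho, d.o3]
  · rw [hu, ho, d.ou]
  · rw [hv, ho, d.ov]
  · rw [hu, hv, ← map_mul, ← map_mul, d.comm]
  · intro i h
    rw [hu, hv, ← map_pow] at h
    exact d.indep i (e.injective h)
  · intro x hx
    obtain ⟨x, rfl⟩ := e.surjective x
    obtain ⟨g, h | h⟩ := d.cls x ((ho x).symm.trans hx)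
    · exact ⟨e g, Or.inl (by rw [← map_inv, ← map_mul, ← map_mul, h])⟩
    · exact ⟨e g, Or.inr (by rw [← map_pow, ← map_inv, ← map_mul, ← map_mul, h])⟩
  · intro x hx h1 h2 h3
    obtain ⟨x, rfl⟩ := e.surjective x
    simp only [← map_pow, ← map_mul, MulEquiv.map_eq_one_iff] at h1 h2 h3
    obtain ⟨k, h | h⟩ := d.inner x ((ho x).symm.trans hx) h1 h2 h3
    · exact ⟨k, Or.inl (by rw [← map_pow, ← map_inv, ← map_mul, ← map_mul, h])⟩
    · exact ⟨k, Or.inr (by rw [← map_pow, ← map_inv, ← map_mul, ← map_mul, h])⟩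
  · rw [hu, hu, hv, ← map_mul, ← map_mul, ← map_inv, ← map_mul, ← map_mul, d.outu]
  · rw [hv, hu, hv, ← map_mul, ← map_inv, ← map_mul, ← map_mul, d.outv]

theorem orderOf_alt {n : ℕ} {x : alternatingGroup (Fin n)} {k : ℕ} (hk : 0 < k)
    (h : (x : Perm (Fin n)) ^ k = 1)
    (h' : ∀ j < k, 0 < j → (x : Perm (Fin n)) ^ j ≠ 1) : orderOf x = k := by
  rw [← Subgroup.orderOf_coe]
  exact (orderOf_eq_iff hk).mpr ⟨h, h'⟩

theorem profile_six : Profile (alternatingGroup (Fin 6)) [2, 3, 4, 5] := by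
  refine profile_alt reps6 _ reps6_types fun r hr => ?_
  rcases reps6_real r hr with h | ⟨k, hk, h1, h2, h, -, hs, he⟩
  · exact Or.inl h
  · refine Or.inr (Or.inl ⟨k, hk, (orderOf_eq_iff ?_).mpr ⟨h1, h2⟩, h, hs, he⟩)
    rcases k with _ | k
    · simp at hk
    · omega

theorem six_facts : z6 * z6 ≠ 1 ∧ z6 ^ 5 = 1 ∧ b6 ^ 2 = 1 ∧ b6 ≠ 1 ∧ (z6 * b6) ^ 5 = 1 ∧ z6 * b6 ≠ 1 ∧
    (∀ j < 4, 0 < j → (z6 ^ 2 * b6) ^ j ≠ 1) ∧ (z6 ^ 2 * b6) ^ 4 = 1 ∧
    (∀ j < 4, 0 < j → (z6 ^ 3 * b6) ^ j ≠ 1) ∧ (z6 ^ 3 * b6) ^ 4 = 1 ∧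
    wu z6 b6 ^ 3 = 1 ∧ wu z6 b6 ≠ 1 ∧ wv z6 b6 ^ 3 = 1 ∧ wv z6 b6 ≠ 1 ∧
    wu z6 b6 * wv z6 b6 = wv z6 b6 * wu z6 b6 ∧ wv z6 b6 ≠ wu z6 b6 ∧
    wv z6 b6 ≠ wu z6 b6 ^ 2 ∧
    mk ![0,2,4,1,3,5] ![0,3,1,4,2,5] * z6 * (mk ![0,2,4,1,3,5] ![0,3,1,4,2,5])⁻¹ = z6 ^ 2 ∧
    Perm.sign (mk ![0,2,4,1,3,5] ![0,3,1,4,2,5]) = -1 ∧
    wu z6 c6 = mk ![3,0,5,4,1,2] ![1,4,5,0,3,2] * (wu z6 b6 * (wv z6 b6 * wv z6 b6)) *
      (mk ![3,0,5,4,1,2] ![1,4,5,0,3,2])⁻¹ ∧
    wv z6 c6 = mk ![3,0,5,4,1,2] ![1,4,5,0,3,2] * (wu z6 b6 * wv z6 b6) *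
      (mk ![3,0,5,4,1,2] ![1,4,5,0,3,2])⁻¹ := by
  unfold wu wv
  decide +kernel

theorem six_signs : Perm.sign z6 = 1 ∧ Perm.sign b6 = 1 ∧ Perm.sign c6 = 1 ∧
    Perm.sign (mk ![3,0,5,4,1,2] ![1,4,5,0,3,2]) = 1 := by decide +kernel

theorem exists_sixData : ∃ z b c y : alternatingGroup (Fin 6), SixData z b c y := by
  obtain ⟨e0, e1, e2, e3, e4, e5, e6, e7, e8, e9, u1, u2, v1, v2, cm, i1, i2, t1, t2, w1, w2⟩ :=
    six_facts
  obtain ⟨s1, s2, s3, s4⟩ := six_signs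
  have hp5 : Fact (Nat.Prime 5) := ⟨by norm_num⟩
  have hp3 : Fact (Nat.Prime 3) := ⟨by norm_num⟩
  let A := fun (x : Perm (Fin 6)) (h : Perm.sign x = 1) =>
    (⟨x, Perm.mem_alternatingGroup.mpr h⟩ : alternatingGroup (Fin 6))
  set z := A z6 s1
  set b := A b6 s2
  set c := A c6 s3
  set y := A _ s4
  let ι := (alternatingGroup (Fin 6)).subtype
  have cu : ∀ a a' : alternatingGroup (Fin 6),
      ((wu a a' : alternatingGroup (Fin 6)) : Perm (Fin 6)) = wu (a : Perm (Fin 6)) a' := fun a a' => map_wu ι a a'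
  have cv : ∀ a a' : alternatingGroup (Fin 6),
      ((wv a a' : alternatingGroup (Fin 6)) : Perm (Fin 6)) = wv (a : Perm (Fin 6)) a' := fun a a' => map_wv ι a a'
  refine ⟨z, b, c, y, ?_⟩
  have oz : orderOf z = 5 := by
    rw [← Subgroup.orderOf_coe]
    exact orderOf_eq_prime e1 fun h => e0 (by rw [show z6 = 1 from h, one_mul])
  refine ⟨oz, ?_, ?_, orderOf_alt (by norm_num) e7 e6, orderOf_alt (by norm_num) e9 e8,
    ?_, ?_, ?_, ?_, ?_, ?_, ?_, ?_⟩
  · rw [← Subgroup.orderOf_coe]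
    exact orderOf_eq_prime e2 e3
  · rw [← Subgroup.orderOf_coe]
    exact orderOf_eq_prime e4 e5
  · rw [← Subgroup.orderOf_coe, cu]
    exact orderOf_eq_prime u1 u2
  · rw [← Subgroup.orderOf_coe, cv]
    exact orderOf_eq_prime v1 v2
  · exact Subtype.ext (by simp only [Subgroup.coe_mul, cu, cv]; exact cm)
  · intro i h
    have h' := congrArg Subtype.val h
    rw [Subgroup.coe_pow, cu, cv, pow_eq_pow_mod i u1] at h'
    rcases (show i % 3 = 0 ∨ i % 3 = 1 ∨ i % 3 = 2 by omega) with j | j | j <;> rw [j] at h'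
    · exact v2 (h'.trans (pow_zero _))
    · exact i1 (h'.trans (pow_one _))
    · exact i2 h'
  · intro x hx
    refine alt_conj_or (w := z ^ 2) ?_ _ t2 ?_
    · rw [Perm.isConj_iff_cycleType_eq]
      have h1 := five6 ((x : Perm (Fin 6)).cycleType)
        (mem_parts _ 6 6 (by norm_num) (fun a ha => Perm.two_le_of_mem_cycleType ha)
          (by simpa using (x : Perm (Fin 6)).sum_cycleType_le)) fun a ha => by
        have := Perm.dvd_of_mem_cycleType ha
        rw [Subgroup.orderOf_coe, hx] at this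
        exact ((Nat.dvd_prime hp5.out).mp this).resolve_left
          (by have := Perm.two_le_of_mem_cycleType ha; omega)
      refine (h1.resolve_left fun h => ?_).symm
      rw [Perm.cycleType_eq_zero] at h
      rw [← Subgroup.orderOf_coe, h, orderOf_one] at hx
      norm_num at hx
    · rw [t1, Subgroup.coe_pow]
  · intro x hx h1 h2 h3
    have hx' : (x : Perm (Fin 6)) ^ 2 = 1 := by
      rw [← hx, ← Subgroup.orderOf_coe]; exact pow_orderOf_eq_one _
    obtain ⟨k, h | h⟩ := inner6 x (by rw [← sq]; exact hx') (Perm.mem_alternatingGroup.mp x.2)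
      (fun h => by rw [← Subgroup.orderOf_coe, h, orderOf_one] at hx; norm_num at hx)
      (congrArg Subtype.val h1) (congrArg Subtype.val h2) (congrArg Subtype.val h3)
    · exact ⟨k, Or.inl (Subtype.ext (by simpa using h))⟩
    · exact ⟨k, Or.inr (Subtype.ext (by simpa using h))⟩
  · exact Subtype.ext (by simp only [Subgroup.coe_mul, Subgroup.coe_inv, cu, cv]; exact w1)
  · exact Subtype.ext (by simp only [Subgroup.coe_mul, Subgroup.coe_inv, cu, cv]; exact w2)

/-! ### Degree seven -/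

/-- The seven-cycle. -/
abbrev z7 : Perm (Fin 7) := mk ![1,2,3,4,5,6,0] ![6,0,1,2,3,4,5]

/-- The involution. -/
abbrev b7 : Perm (Fin 7) := mk ![0,1,2,4,3,6,5] ![0,1,2,4,3,6,5]

/-- Representatives of the even classes. -/
abbrev reps7 : List (Perm (Fin 7)) :=
  [1, mk ![1,0,3,2,4,5,6] ![1,0,3,2,4,5,6], mk ![1,2,0,3,4,5,6] ![2,0,1,3,4,5,6],
    mk ![1,2,0,4,5,3,6] ![2,0,1,5,3,4,6], mk ![1,2,3,0,5,4,6] ![3,0,1,2,5,4,6],
    mk ![1,2,3,4,0,5,6] ![4,0,1,2,3,5,6], mk ![1,2,0,4,3,6,5] ![2,0,1,4,3,6,5], z7]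

/-- The witnesses. -/
abbrev wit7 : List (Perm (Fin 7)) :=
  [1, mk ![0,2,1,3,4,6,5] ![0,2,1,3,4,6,5], mk ![0,2,1,3,5,4,6] ![0,2,1,3,5,4,6],
    mk ![0,3,2,1,5,4,6] ![0,3,2,1,5,4,6], mk ![0,4,3,2,1,5,6] ![0,4,3,2,1,5,6],
    mk ![0,2,4,6,1,3,5] ![0,4,1,5,2,6,3]]

theorem reps7_types : ∀ m ∈ parts 7 7, Even (m.sum + m.card) →
    ∃ r ∈ reps7, r.cycleType = m := by decide +kernel

theorem reps7_real : ∀ r ∈ reps7, r = 1 ∨
    (∃ k ∈ [2, 3, 4, 5, 6], r ^ k = 1 ∧ (∀ j < k, 0 < j → r ^ j ≠ 1) ∧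
      ∃ h ∈ wit7, Perm.sign h = 1 ∧ h * r * h⁻¹ = r⁻¹) ∨
    (r ^ 7 = 1 ∧ r ≠ 1 ∧ ∃ h ∈ wit7, Perm.sign h = 1 ∧ h * r * h⁻¹ = r ^ 2) := by
  decide +kernel

set_option synthInstance.maxSize 2000 in
theorem inner7 : ∀ x : Perm (Fin 7), x * x = 1 → Perm.sign x = 1 → x ≠ 1 →
    (z7 * x) ^ 5 = 1 → (z7 ^ 2 * x) ^ 7 = 1 → (z7 ^ 3 * x) ^ 6 = 1 →
    ∃ k : Fin 7, z7 ^ (k : ℕ) * b7 * (z7 ^ (k : ℕ))⁻¹ = x := by decide +kernel

theorem seven7 : ∀ m ∈ parts 7 7, (∀ a ∈ m, a = 7) → m = 0 ∨ m = z7.cycleType := by decide +kernel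

/-- The data of the group of order 2520 and of the group of order 168. -/
structure PairData {G : Type*} [Group G] (z b : G) (ks : List (ℕ × ℕ)) : Prop where
  oz : orderOf z = 7
  ob : orderOf b = 2
  gen : Subgroup.closure ({z, b} : Set G) = ⊤
  words : ∀ k ∈ ks, orderOf (z ^ k.1 * b) = k.2
  cls : ∀ x : G, orderOf x = 7 → ∃ g, g * z * g⁻¹ = x ∨ g * z⁻¹ * g⁻¹ = x
  inner : ∀ x : G, orderOf x = 2 → (∀ k ∈ ks, (z ^ k.1 * x) ^ k.2 = 1) →
    ∃ k : ℕ, z ^ k * b * (z ^ k)⁻¹ = x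

theorem PairData.map {G H : Type*} [Group G] [Group H] {z b : G} {ks : List (ℕ × ℕ)}
    (d : PairData z b ks) (e : G ≃* H) : PairData (e z) (e b) ks := by
  have ho : ∀ a : G, orderOf (e a) = orderOf a := fun a =>
    orderOf_injective e.toMonoidHom e.injective a
  refine ⟨(ho z).trans d.oz, (ho b).trans d.ob, ?_, ?_, ?_, ?_⟩
  · have := congrArg (Subgroup.map e.toMonoidHom) d.gen
    rw [MonoidHom.map_closure, Subgroup.map_top_of_surjective _ e.surjective] at this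
    simpa [Set.image_pair] using this
  · intro k hk
    rw [← map_pow, ← map_mul, ho, d.words k hk]
  · intro x hx
    obtain ⟨x, rfl⟩ := e.surjective x
    obtain ⟨g, h | h⟩ := d.cls x ((ho x).symm.trans hx)
    · exact ⟨e g, Or.inl (by rw [← map_inv, ← map_mul, ← map_mul, h])⟩
    · exact ⟨e g, Or.inr (by rw [← map_inv, ← map_inv, ← map_mul, ← map_mul, h])⟩
  · intro x hx h
    obtain ⟨x, rfl⟩ := e.surjective x
    obtain ⟨k, hk⟩ := d.inner x ((ho x).symm.trans hx) fun k hk => by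
      simpa only [← map_pow, ← map_mul, MulEquiv.map_eq_one_iff] using h k hk
    exact ⟨k, by rw [← map_pow, ← map_inv, ← map_mul, ← map_mul, hk]⟩

theorem profile_seven : Profile (alternatingGroup (Fin 7)) [2, 3, 4, 5, 6] := by
  refine profile_alt reps7 _ reps7_types fun r hr => ?_
  rcases reps7_real r hr with h | ⟨k, hk, h1, h2, h, -, hs, he⟩ | ⟨h7, h1, h, -, hs, he⟩
  · exact Or.inl h
  · refine Or.inr (Or.inl ⟨k, hk, (orderOf_eq_iff ?_).mpr ⟨h1, h2⟩, h, hs, he⟩)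
    rcases k with _ | k
    · simp at hk
    · omega
  · haveI : Fact (Nat.Prime 7) := ⟨by norm_num⟩
    exact Or.inr (Or.inr ⟨orderOf_eq_prime h7 h1, h, hs, he⟩)

theorem seven_facts : z7 ^ 7 = 1 ∧ z7 ≠ 1 ∧ b7 ^ 2 = 1 ∧ b7 ≠ 1 ∧
    (∀ k ∈ [(1, 5), (2, 7), (3, 6)], (z7 ^ (k : ℕ × ℕ).1 * b7) ^ k.2 = 1 ∧
      ∀ j < k.2, 0 < j → (z7 ^ k.1 * b7) ^ j ≠ 1) ∧
    (z7 * b7 * z7 ^ 2 * b7 * z7 ^ 4 * b7) ^ 4 = 1 ∧ (z7 * b7 * z7 ^ 2 * b7 * z7 ^ 4 * b7) ^ 2 ≠ 1 ∧
    Perm.sign z7 = 1 ∧ Perm.sign b7 = 1 ∧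
    Perm.sign (mk ![0,6,5,4,3,2,1] ![0,6,5,4,3,2,1]) = -1 ∧
    mk ![0,6,5,4,3,2,1] ![0,6,5,4,3,2,1] * z7 * (mk ![0,6,5,4,3,2,1] ![0,6,5,4,3,2,1])⁻¹ = z7⁻¹ := by
  decide +kernel

theorem card_alt (n N : ℕ) [NeZero n] (hn : 2 ≤ n) (hN : n.factorial = 2 * N) :
    Nat.card (alternatingGroup (Fin n)) = N := by
  haveI : Nontrivial (Fin n) := Fin.nontrivial_iff_two_le.mpr hn
  have := two_mul_nat_card_alternatingGroup (α := Fin n)
  rw [Nat.card_perm, Nat.card_fin] at this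
  omega

theorem exists_sevenData :
    ∃ z b : alternatingGroup (Fin 7), PairData z b [(1, 5), (2, 7), (3, 6)] := by
  obtain ⟨e1, e2, e3, e4, hw, q1, q2, s1, s2, t2, t1⟩ := seven_facts
  haveI : Fact (Nat.Prime 7) := ⟨by norm_num⟩
  set z : alternatingGroup (Fin 7) := ⟨z7, Perm.mem_alternatingGroup.mpr s1⟩
  set b : alternatingGroup (Fin 7) := ⟨b7, Perm.mem_alternatingGroup.mpr s2⟩
  have oz : orderOf z = 7 := by
    rw [← Subgroup.orderOf_coe]; exact orderOf_eq_prime e1 e2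
  have hwo : ∀ k ∈ [(1, 5), (2, 7), (3, 6)], orderOf (z ^ (k : ℕ × ℕ).1 * b) = k.2 := fun k hk =>
    orderOf_alt (by simp at hk; rcases hk with rfl | rfl | rfl <;> norm_num) (hw k hk).1 (hw k hk).2
  refine ⟨z, b, oz, ?_, ?_, hwo, ?_, ?_⟩
  · rw [← Subgroup.orderOf_coe]; exact orderOf_eq_prime e3 e4
  · haveI : IsSimpleGroup (alternatingGroup (Fin 7)) := alternatingGroup.isSimpleGroup (by simp)
    set K := Subgroup.closure ({z, b} : Set (alternatingGroup (Fin 7)))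
    obtain ⟨hz, hb⟩ := closure_pair_mem z b
    have h7 : 7 ∣ Nat.card K := by
      have h' := orderOf_dvd_card_of_mem hz
      rwa [oz] at h'
    have h5 : 5 ∣ Nat.card K := by
      have h' : orderOf (z ^ 1 * b) ∣ Nat.card K :=
        orderOf_dvd_card_of_mem (K.mul_mem (K.pow_mem hz _) hb)
      rwa [hwo (1, 5) (by simp)] at h'
    have h6 : 6 ∣ Nat.card K := by
      have h' : orderOf (z ^ 3 * b) ∣ Nat.card K :=
        orderOf_dvd_card_of_mem (K.mul_mem (K.pow_mem hz _) hb)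
      rwa [hwo (3, 6) (by simp)] at h'
    have h4 : 4 ∣ Nat.card K := by
      have hm : z * b * z ^ 2 * b * z ^ 4 * b ∈ K :=
        K.mul_mem (K.mul_mem (K.mul_mem (K.mul_mem (K.mul_mem hz hb) (K.pow_mem hz _)) hb)
          (K.pow_mem hz _)) hb
      have h' := orderOf_dvd_card_of_mem hm
      rwa [orderOf_alt (x := z * b * z ^ 2 * b * z ^ 4 * b) (k := 4) (by norm_num) ?_ ?_] at h'
      · exact q1
      · intro j hj hj0 h
        have h' : (z7 * b7 * z7 ^ 2 * b7 * z7 ^ 4 * b7) ^ j = 1 := h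
        interval_cases j
        · exact q2 (by rw [pow_one] at h'; rw [h', one_pow])
        · exact q2 h'
        · refine q2 ?_
          have h4' := q1
          rw [show 4 = 3 + 1 from rfl, pow_succ, h', one_mul] at h4'
          rw [h4', one_pow]
    have hc : Nat.card (alternatingGroup (Fin 7)) = 2520 := card_alt 7 2520 (by norm_num) rfl
    refine eq_top_of_index (lt_of_le_of_lt (Nat.factorial_le (index_le (d := 420) (k := 6) ?_
      (by norm_num) (by omega))) (by rw [hc]; decide))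
    have h12 : 12 ∣ Nat.card K := Nat.lcm_dvd h4 h6
    exact Nat.Coprime.mul_dvd_of_dvd_of_dvd (by norm_num : Nat.Coprime 12 35) h12
      (Nat.Coprime.mul_dvd_of_dvd_of_dvd (by norm_num : Nat.Coprime 5 7) h5 h7)
  · intro x hx
    refine alt_conj_or (w := z⁻¹) ?_ _ t2 ?_
    · rw [Perm.isConj_iff_cycleType_eq]
      have h1 := seven7 ((x : Perm (Fin 7)).cycleType)
        (mem_parts _ 7 7 (by norm_num) (fun a ha => Perm.two_le_of_mem_cycleType ha)
          (by simpa using (x : Perm (Fin 7)).sum_cycleType_le)) fun a ha => by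
        have := Perm.dvd_of_mem_cycleType ha
        rw [Subgroup.orderOf_coe, hx] at this
        exact ((Nat.dvd_prime (by norm_num : Nat.Prime 7)).mp this).resolve_left
          (by have := Perm.two_le_of_mem_cycleType ha; omega)
      refine (h1.resolve_left fun h => ?_).symm
      rw [Perm.cycleType_eq_zero] at h
      rw [← Subgroup.orderOf_coe, h, orderOf_one] at hx
      norm_num at hx
    · rw [t1, Subgroup.coe_inv]
  · intro x hx h
    have hx' : (x : Perm (Fin 7)) ^ 2 = 1 := by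
      rw [← hx, ← Subgroup.orderOf_coe]; exact pow_orderOf_eq_one _
    have hh := fun k hk => congrArg Subtype.val (h k hk)
    obtain ⟨k, hk⟩ := inner7 x (by rw [← sq]; exact hx') (Perm.mem_alternatingGroup.mp x.2)
      (fun h => by rw [← Subgroup.orderOf_coe, h, orderOf_one] at hx; norm_num at hx)
      (by simpa using hh (1, 5) (by simp)) (by simpa using hh (2, 7) (by simp))
      (by simpa using hh (3, 6) (by simp))
    exact ⟨k, Subtype.ext (by simpa using hk)⟩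

/-! ### Order 168 -/

/-- The special linear group of dimension three over two elements. -/
abbrev S32 := Matrix.SpecialLinearGroup (Fin 3) (ZMod 2)

/-- An element of order seven. -/
def z32 : S32 := ⟨!![0, 0, 1; 1, 0, 1; 0, 1, 0], by decide⟩

/-- An involution. -/
def b32 : S32 := ⟨!![0, 0, 1; 1, 1, 1; 1, 0, 0], by decide⟩

theorem inner32 : ∀ X : Matrix (Fin 3) (Fin 3) (ZMod 2), X * X = 1 → X ≠ 1 →
    (z32.1 * X) ^ 3 = 1 → ∃ k : Fin 7,
      z32.1 ^ (k : ℕ) * b32.1 * z32.1 ^ (7 - (k : ℕ)) = X := by decide +kernel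

theorem facts32 : z32.1 ^ 7 = 1 ∧ z32.1 ≠ 1 ∧ b32.1 ^ 2 = 1 ∧ b32.1 ≠ 1 ∧
    (z32.1 * b32.1) ^ 3 = 1 ∧ z32.1 * b32.1 ≠ 1 := by decide +kernel

theorem card_S32 : Nat.card S32 = 168 := by
  rw [Cfsg.Agent.Linear.card_SL_three, ZMod.card]; norm_num

/-- Simple groups of order 168 are `SL₃(2)`. -/
theorem iso_S32 {G : Type*} [Group G] [Finite G] [IsSimpleGroup G] (h : Nat.card G = 168) :
    Nonempty (G ≃* S32) := by
  haveI : Fact (Nat.Prime 7) := ⟨by norm_num⟩
  obtain ⟨e1⟩ := Cfsg.Agent.S0495.result h (F := ZMod 7) (by simp)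
  obtain ⟨e2⟩ := Cfsg.Agent.S0255.result (F := ZMod 7) (K := ZMod 2) (by simp) (by simp)
  have hc : Subgroup.center S32 = ⊥ :=
    Subgroup.eq_bot_of_card_eq _ (by rw [Cfsg.Agent.Linear.card_center_SL]; simp)
  exact ⟨e1.trans (e2.trans ((QuotientGroup.quotientMulEquivOfEq hc).trans QuotientGroup.quotientBot))⟩

/-- The profile of the group of order 168. -/
theorem profile_168 {G : Type*} [Group G] [Finite G] [IsSimpleGroup G] (h : Nat.card G = 168) :
    Profile G [2, 3, 4] := by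
  intro x
  obtain ⟨ho, -, h2⟩ := Cfsg.Agent.S1005.result (G := G) h
  obtain ⟨-, h3, -, h4, h7, h7c⟩ := Cfsg.Agent.S1006.result (G := G) h
  rcases ho x with e | e | e | e | e
  · exact Or.inl (orderOf_eq_one_iff.mp e)
  · exact Or.inr (Or.inl ⟨2, by simp, e, isConj_iff.mp (h2 x x⁻¹ e (by rwa [orderOf_inv]))⟩)
  · exact Or.inr (Or.inl ⟨3, by simp, e, isConj_iff.mp (h3 x x⁻¹ e (by rwa [orderOf_inv]))⟩)
  · exact Or.inr (Or.inl ⟨4, by simp, e, isConj_iff.mp (h4 x x⁻¹ e (by rwa [orderOf_inv]))⟩)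
  refine Or.inr (Or.inr ⟨e, isConj_iff.mp ?_⟩)
  -- the two classes of elements of order seven
  classical
  have hd : ∀ y : G, orderOf y = 7 → IsConj x y ∨ IsConj x⁻¹ y := by
    intro y hy
    by_contra hno
    push Not at hno
    have hi : orderOf x⁻¹ = 7 := by rwa [orderOf_inv]
    haveI : Fintype G := Fintype.ofFinite G
    have hA := (h7c x e).1
    have hB := (h7c x⁻¹ hi).1
    have hC := (h7c y hy).1
    rw [Nat.card_eq_fintype_card, Fintype.card_subtype] at hA hB hC h7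
    have hdis : Disjoint (Finset.univ.filter fun g => IsConj x g) (Finset.univ.filter fun g => IsConj x⁻¹ g) := by
      rw [Finset.disjoint_filter]
      exact fun g _ a b => (h7c x e).2 (a.trans b.symm)
    have hdis2 : Disjoint ((Finset.univ.filter fun g => IsConj x g) ∪ Finset.univ.filter fun g => IsConj x⁻¹ g)
        (Finset.univ.filter fun g => IsConj y g) := by
      rw [Finset.disjoint_union_left, Finset.disjoint_filter, Finset.disjoint_filter]
      exact ⟨fun g _ a b => hno.1 (a.trans b.symm), fun g _ a b => hno.2 (a.trans b.symm)⟩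
    have hoc : ∀ {a g : G}, orderOf a = 7 → IsConj a g → orderOf g = 7 := fun ha hg => by
      obtain ⟨c, rfl⟩ := isConj_iff.mp hg
      exact (orderOf_injective (MulAut.conj c).toMonoidHom (MulAut.conj c).injective _).trans ha
    have := Finset.card_le_card (s := ((Finset.univ.filter fun g => IsConj x g) ∪
        Finset.univ.filter fun g => IsConj x⁻¹ g) ∪ Finset.univ.filter fun g => IsConj y g)
      (t := Finset.univ.filter fun g => orderOf g = 7) (by
        intro g hg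
        simp only [Finset.mem_union, Finset.mem_filter, Finset.mem_univ, true_and] at hg ⊢
        rcases hg with (hg | hg) | hg
        · exact hoc e hg
        · exact hoc hi hg
        · exact hoc hy hg)
    rw [Finset.card_union_of_disjoint hdis2, Finset.card_union_of_disjoint hdis, hA, hB, hC, h7] at this
    omega
  have e2 : orderOf (x ^ 2) = 7 := by rw [orderOf_pow, e]; rfl
  refine (hd _ e2).resolve_right fun hc => (h7c x e).2 ?_
  obtain ⟨c, hc⟩ := isConj_iff.mp hc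
  -- applying the automorphism three times
  have k1 : c * x * c⁻¹ = x ^ 5 := by
    have := congrArg (·⁻¹) hc
    simp only [mul_inv_rev, inv_inv] at this
    rw [show c * x * c⁻¹ = (x ^ 2)⁻¹ by rw [← this]; group]
    refine inv_eq_of_mul_eq_one_right ?_
    rw [← pow_add, show 2 + 5 = orderOf x by rw [e], pow_orderOf_eq_one]
  have k2 : c ^ 2 * x * (c ^ 2)⁻¹ = x ^ 25 := by
    rw [show c ^ 2 * x * (c ^ 2)⁻¹ = c * (c * x * c⁻¹) * c⁻¹ by rw [sq]; group, k1, ← conj_pow, k1, ← pow_mul]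
  have k3 : c ^ 3 * x * (c ^ 3)⁻¹ = x ^ 125 := by
    rw [show c ^ 3 * x * (c ^ 3)⁻¹ = c * (c ^ 2 * x * (c ^ 2)⁻¹) * c⁻¹ by group, k2, ← conj_pow, k1,
      ← pow_mul]
  refine isConj_iff.mpr ⟨c ^ 3, k3.trans ?_⟩
  refine (inv_eq_of_mul_eq_one_right ?_).symm
  rw [← pow_succ', show 125 + 1 = orderOf x * 18 by rw [e], pow_mul, pow_orderOf_eq_one, one_pow]

theorem exists_168Data {G : Type*} [Group G] [Finite G] [IsSimpleGroup G] (h : Nat.card G = 168) :
    ∃ z b : G, PairData z b [(1, 3)] := by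
  obtain ⟨e⟩ := iso_S32 h
  obtain ⟨e1, e2, e3, e4, e5, e6⟩ := facts32
  have hco : ∀ (a : S32) (n : ℕ), ((a ^ n : S32) : Matrix (Fin 3) (Fin 3) (ZMod 2)) =
      (a : Matrix (Fin 3) (Fin 3) (ZMod 2)) ^ n := fun a n => Matrix.SpecialLinearGroup.coe_pow a n
  haveI : Fact (Nat.Prime 7) := ⟨by norm_num⟩
  haveI : Fact (Nat.Prime 3) := ⟨by norm_num⟩
  have ho : ∀ (a : S32) (p : ℕ) [Fact p.Prime], a.1 ^ p = 1 → a.1 ≠ 1 → orderOf (e.symm a) = p := by
    intro a p _ h1 h2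
    rw [show orderOf (e.symm a) = orderOf a from
      orderOf_injective e.symm.toMonoidHom e.symm.injective a]
    exact orderOf_eq_prime (Subtype.ext (by rw [hco, h1]; rfl)) fun h => h2 (by rw [h]; rfl)
  set z := e.symm z32
  set b := e.symm b32
  have oz : orderOf z = 7 := ho z32 7 e1 e2
  have ob : orderOf b = 2 := ho b32 2 e3 e4
  have ow : orderOf (z ^ 1 * b) = 3 := by
    rw [pow_one, ← map_mul]
    exact ho (z32 * b32) 3 e5 e6
  refine ⟨z, b, oz, ob, ?_, fun k hk => ?_, fun x hx => ?_, fun x hx hk => ?_⟩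
  · obtain ⟨hz, hb⟩ := closure_pair_mem z b
    refine eq_top_of_index (lt_of_le_of_lt (Nat.factorial_le (index_le (d := 42) (k := 4) ?_
      (by norm_num) (by omega))) (by rw [h]; decide))
    have d7 := orderOf_dvd_card_of_mem hz
    have d2 := orderOf_dvd_card_of_mem hb
    have d3 : orderOf (z ^ 1 * b) ∣ Nat.card (Subgroup.closure ({z, b} : Set G)) :=
      orderOf_dvd_card_of_mem (Subgroup.mul_mem _ (Subgroup.pow_mem _ hz _) hb)
    rw [oz] at d7; rw [ob] at d2; rw [ow] at d3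
    exact Nat.Coprime.mul_dvd_of_dvd_of_dvd (by norm_num : Nat.Coprime 6 7)
      (Nat.Coprime.mul_dvd_of_dvd_of_dvd (by norm_num : Nat.Coprime 2 3) d2 d3) d7
  · simp at hk; subst hk; exact ow
  · rcases profile_168 h x with rfl | ⟨n, hn, e', -⟩ | -
    · simp at hx
    · rw [hx] at e'; subst e'; simp at hn
    classical
    haveI : Fintype G := Fintype.ofFinite G
    obtain ⟨-, -, -, -, h7, h7c⟩ := Cfsg.Agent.S1006.result (G := G) h
    have hzi : orderOf z⁻¹ = 7 := by rwa [orderOf_inv]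
    by_contra hno
    push Not at hno
    have n1 : ¬ IsConj z x := fun hc => by
      obtain ⟨g, hg⟩ := isConj_iff.mp hc; exact (hno g).1 hg
    have n2 : ¬ IsConj z⁻¹ x := fun hc => by
      obtain ⟨g, hg⟩ := isConj_iff.mp hc; exact (hno g).2 hg
    have hA := (h7c z oz).1
    have hB := (h7c z⁻¹ hzi).1
    have hC := (h7c x hx).1
    rw [Nat.card_eq_fintype_card, Fintype.card_subtype] at hA hB hC h7
    have hdis : Disjoint (Finset.univ.filter fun g => IsConj z g) (Finset.univ.filter fun g => IsConj z⁻¹ g) := by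
      rw [Finset.disjoint_filter]
      exact fun g _ a b => (h7c z oz).2 (a.trans b.symm)
    have hdis2 : Disjoint ((Finset.univ.filter fun g => IsConj z g) ∪ Finset.univ.filter fun g => IsConj z⁻¹ g)
        (Finset.univ.filter fun g => IsConj x g) := by
      rw [Finset.disjoint_union_left, Finset.disjoint_filter, Finset.disjoint_filter]
      exact ⟨fun g _ a b => n1 (a.trans b.symm), fun g _ a b => n2 (a.trans b.symm)⟩
    have hoc : ∀ {a g : G}, orderOf a = 7 → IsConj a g → orderOf g = 7 := fun ha hg => by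
      obtain ⟨c, rfl⟩ := isConj_iff.mp hg
      exact (orderOf_injective (MulAut.conj c).toMonoidHom (MulAut.conj c).injective _).trans ha
    have := Finset.card_le_card (s := ((Finset.univ.filter fun g => IsConj z g) ∪
        Finset.univ.filter fun g => IsConj z⁻¹ g) ∪ Finset.univ.filter fun g => IsConj x g)
      (t := Finset.univ.filter fun g => orderOf g = 7) (by
        intro g hg
        simp only [Finset.mem_union, Finset.mem_filter, Finset.mem_univ, true_and] at hg ⊢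
        rcases hg with (hg | hg) | hg
        · exact hoc oz hg
        · exact hoc hzi hg
        · exact hoc hx hg)
    rw [Finset.card_union_of_disjoint hdis2, Finset.card_union_of_disjoint hdis, hA, hB, hC, h7] at this
    omega
  · obtain ⟨X, rfl⟩ := e.symm.surjective x
    have hX : orderOf X = 2 :=
      ((orderOf_injective e.symm.toMonoidHom e.symm.injective X).symm.trans hx)
    have hX2 : X ^ 2 = 1 := by
      have hp := pow_orderOf_eq_one X
      rwa [hX] at hp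
    have hk1 := hk (1, 3) (by simp)
    simp only [pow_one, z, ← map_mul, ← map_pow, MulEquiv.map_eq_one_iff] at hk1
    obtain ⟨k, hk'⟩ := inner32 X.1 (by
        rw [← sq, ← hco, hX2]; rfl)
      (fun h => by
        rw [show X = 1 from Subtype.ext h, orderOf_one] at hX; norm_num at hX)
      (by simpa [hco] using congrArg Subtype.val hk1)
    refine ⟨k, ?_⟩
    have hinv : (z32 ^ (k : ℕ))⁻¹ = z32 ^ (7 - (k : ℕ)) := by
      refine inv_eq_of_mul_eq_one_right (Subtype.ext ?_)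
      rw [← pow_add, Nat.add_sub_cancel' (by omega), hco, e1]; rfl
    rw [← map_pow, ← map_inv, ← map_mul, ← map_mul, hinv]
    refine congrArg e.symm (Subtype.ext ?_)
    simpa [hco] using hk'

end Cfsg.Agent.Linear.Mitchell.Socle
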