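import Cfsg.Agent.Linear.Mitchell.Quotient
import Cfsg.Agent.S0205
import Mathlib.LinearAlgebra.Determinant

/-!
A perfect subgroup of `SL₃` in odd characteristic which is simple modulo scalars is absolutely
irreducible.
-/

set_option autoImplicit false
set_option linter.style.haveILetI false
set_option linter.unusedSectionVars false

namespace Cfsg.Agent.Linear.Mitchell.Socle

open scoped MatrixGroups Matrix commutatorElement
open Cfsg.Geo

variable {F : Type*} [Field F]

local notation "M3" => Matrix (Fin 3) (Fin 3) F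

theorem hom_comm_eq_one {G : Type*} [Group G] [Group.IsPerfect G] {A : Type*} [CommGroup A]
    (f : G →* A) (x : G) : f x = 1 := by
  have h := Abelianization.commutator_subset_ker f
  rw [Group.IsPerfect.commutator_eq_top] at h
  exact h (Subgroup.mem_top x)

/-- Perfect groups act trivially on a line. -/
theorem eq_one_of_rank_one {G : Type*} [Group G] [Group.IsPerfect G] {U : Type*} [AddCommGroup U]
    [Module F U] (hU : Module.finrank F U = 1) (f : G →* Module.End F U) (x : G) : f x = 1 := by
  obtain ⟨v, hv0, hspan⟩ := finrank_eq_one_iff'.mp hU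
  obtain ⟨c, hc⟩ := hspan (f x v)
  have hd : LinearMap.det (f x) = 1 := by
    have := congrArg Units.val (hom_comm_eq_one ((LinearMap.det.comp f).toHomUnits) x)
    simpa using this
  have hfx : f x = c • (1 : Module.End F U) := LinearMap.ext fun w => by
    obtain ⟨d, rfl⟩ := hspan w
    rw [map_smul, ← hc, smul_smul, mul_comm d c, ← smul_smul]
    rfl
  rw [hfx, LinearMap.det_smul, map_one, hU, pow_one, mul_one] at hd
  rw [hfx, hd, one_smul]

/-- The only involution of determinant one in dimension two. -/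
theorem eq_neg_one_of_sq (h2 : (2 : F) ≠ 0) {M : Matrix (Fin 2) (Fin 2) F} (hd : M.det = 1)
    (hM : M * M = 1) (h1 : M ≠ 1) : M = -1 := by
  set a := M 0 0; set b := M 0 1; set c := M 1 0; set d := M 1 1
  rw [Matrix.det_fin_two] at hd
  have e00 := congrFun (congrFun hM 0) 0
  have e01 := congrFun (congrFun hM 0) 1
  have e10 := congrFun (congrFun hM 1) 0
  simp [Matrix.mul_apply, Fin.sum_univ_two] at e00 e01 e10
  have hat : (a + d) * a = 2 := by linear_combination e00 + hd
  have ht : a + d ≠ 0 := fun h => h2 (by rw [← hat, h, zero_mul])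
  have hb : b = 0 := (mul_eq_zero.mp (show (a + d) * b = 0 by linear_combination e01)).resolve_left ht
  have hc : c = 0 := (mul_eq_zero.mp (show (a + d) * c = 0 by linear_combination e10)).resolve_left ht
  have haa : a * a = 1 := by linear_combination e00 - c * hb
  have had : a * d = 1 := by linear_combination hd + b * hc
  have hda : d = a := by linear_combination a * had - d * haa
  rcases mul_self_eq_one_iff.mp haa with h | h
  · refine absurd (Matrix.ext fun i j => ?_) h1
    fin_cases i <;> fin_cases j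
    · simpa using h
    · simpa using hb
    · simpa using hc
    · simpa using hda.trans h
  · ext i j
    fin_cases i <;> fin_cases j
    · simpa using h
    · simpa using hb
    · simpa using hc
    · simpa using hda.trans h

/-- Restriction to an invariant subspace. -/
noncomputable def restrictHom {G : Type*} [Group G] (f : G →* Module.End F (Fin 3 → F))
    (W : Submodule F (Fin 3 → F)) (hW : ∀ x, ∀ w ∈ W, f x w ∈ W) : G →* Module.End F W where
  toFun x := (f x).restrict (hW x)
  map_one' := LinearMap.ext fun w => Subtype.ext (by simp [LinearMap.restrict_apply])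
  map_mul' x y := LinearMap.ext fun w => Subtype.ext (by simp [LinearMap.restrict_apply])

/-- The action on the quotient by an invariant subspace. -/
noncomputable def quotientHom {G : Type*} [Group G] (f : G →* Module.End F (Fin 3 → F))
    (W : Submodule F (Fin 3 → F)) (hW : ∀ x, ∀ w ∈ W, f x w ∈ W) :
    G →* Module.End F ((Fin 3 → F) ⧸ W) where
  toFun x := W.mapQ W (f x) (fun w hw => hW x w hw)
  map_one' := by
    ext v
    simp
  map_mul' x y := by
    ext v
    simp

/-- The matrices of a subgroup as endomorphisms. -/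
noncomputable def endHom (P : Subgroup (GL (Fin 3) F)) : P →* Module.End F (Fin 3 → F) where
  toFun x := Matrix.toLin' ((x : GL (Fin 3) F) : M3)
  map_one' := by simp; rfl
  map_mul' x y := by rw [Subgroup.coe_mul, Units.val_mul, Matrix.toLin'_mul]; rfl

theorem endHom_apply (P : Subgroup (GL (Fin 3) F)) (x : P) (v : Fin 3 → F) :
    endHom P x v = ((x : GL (Fin 3) F) : M3) *ᵥ v := Matrix.toLin'_apply _ _

variable [Fintype F] {P : Subgroup (GL (Fin 3) F)}

theorem irreducible_of_simple (h2 : (2 : F) ≠ 0) (hle : P ≤ specialLinear (Fin 3) F)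
    (hperf : ⁅P, P⁆ = P) (hsimple : IsSimpleGroup (PX P))
    (hna : ¬ IsMulCommutative (PX P)) : ActsIrreducibly (matrixSet P) := by
  intro W hW
  by_contra hcon
  push Not at hcon
  obtain ⟨hW0, hW1⟩ := hcon
  haveI : Group.IsPerfect P := by
    constructor
    refine Subgroup.map_injective P.subtype_injective ?_
    rw [commutator, Subgroup.map_commutator, ← MonoidHom.range_eq_map, Subgroup.range_subtype, hperf]
  have hW' : ∀ x : P, ∀ w ∈ W, endHom P x w ∈ W := fun x w hw =>
    hW _ ⟨x, x.2, rfl⟩ ⟨w, hw, rfl⟩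
  set f1 := restrictHom (endHom P) W hW' with hf1
  set f2 := quotientHom (endHom P) W hW' with hf2
  -- the common kernel is trivial
  set K : Subgroup P := f1.toHomUnits.ker ⊓ f2.toHomUnits.ker with hK
  have hKmem : ∀ {x : P}, x ∈ K → (∀ w ∈ W, ((x : GL (Fin 3) F) : M3) *ᵥ w = w) ∧
      ∀ v, ((x : GL (Fin 3) F) : M3) *ᵥ v - v ∈ W := by
    intro x hx
    obtain ⟨h1, h2'⟩ := Subgroup.mem_inf.mp hx
    have e1 : f1 x = 1 := congrArg Units.val (MonoidHom.mem_ker.mp h1)
    have e2 : f2 x = 1 := congrArg Units.val (MonoidHom.mem_ker.mp h2')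
    refine ⟨fun w hw => ?_, fun v => ?_⟩
    · have := congrArg Subtype.val (LinearMap.congr_fun e1 ⟨w, hw⟩)
      rw [← endHom_apply]
      exact this
    · have := LinearMap.congr_fun e2 (Submodule.Quotient.mk v)
      rw [← endHom_apply]
      exact (Submodule.Quotient.eq W).mp this
  have hKcomm : ∀ x ∈ K, ∀ y ∈ K, x * y = y * x := by
    intro x hx y hy
    obtain ⟨x1, x2⟩ := hKmem hx
    obtain ⟨y1, y2⟩ := hKmem hy
    refine Subtype.ext (Units.ext (Matrix.toLin'.injective (LinearMap.ext fun v => ?_)))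
    simp only [Subgroup.coe_mul, Units.val_mul, Matrix.toLin'_apply, ← Matrix.mulVec_mulVec]
    obtain ⟨wx, hwx, ex⟩ : ∃ w ∈ W, ((x : GL (Fin 3) F) : M3) *ᵥ v = v + w :=
      ⟨_, x2 v, by abel⟩
    obtain ⟨wy, hwy, ey⟩ : ∃ w ∈ W, ((y : GL (Fin 3) F) : M3) *ᵥ v = v + w :=
      ⟨_, y2 v, by abel⟩
    rw [ex, ey, Matrix.mulVec_add, Matrix.mulVec_add, ex, ey, x1 wy hwy, y1 wx hwx]
    abel
  haveI := hsimple
  have hKn : K.Normal := Subgroup.normal_inf_normal _ _
  have hKs : ∀ x ∈ K, x = 1 := by
    intro x hx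
    have hmap : (K.map (px P)).Normal := hKn.map _ px_surjective
    have hbot : K.map (px P) = ⊥ := hmap.eq_bot_or_eq_top.resolve_right fun htop => hna (by
      refine ⟨⟨fun a b => ?_⟩⟩
      obtain ⟨a', ha', rfl⟩ := htop.ge (Subgroup.mem_top a)
      obtain ⟨b', hb', rfl⟩ := htop.ge (Subgroup.mem_top b)
      rw [← map_mul, ← map_mul, hKcomm a' ha' b' hb'])
    have : px P x = 1 := Subgroup.mem_bot.mp (hbot ▸ Subgroup.mem_map_of_mem _ hx)
    obtain ⟨c, hc⟩ := px_eq_one.mp this
    obtain ⟨w, hw, hw0⟩ := (Submodule.ne_bot_iff W).mp hW0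
    have h1 := (hKmem hx).1 w hw
    rw [hc, Matrix.smul_mulVec, Matrix.one_mulVec] at h1
    have hc1 : c = 1 := by
      have : (c - 1) • w = 0 := by rw [sub_smul, one_smul, h1, sub_self]
      exact sub_eq_zero.mp ((smul_eq_zero.mp this).resolve_right hw0)
    exact Subtype.ext (Units.ext (by rw [hc, hc1, one_smul]; rfl))
  -- a faithful representation of dimension two
  have hd1 : 0 < Module.finrank F W := by
    rw [pos_iff_ne_zero]
    exact fun h => hW0 (Submodule.finrank_eq_zero.mp h)
  have hd2 : Module.finrank F W < 3 := by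
    have := Submodule.finrank_lt hW1
    simpa using this
  have hsum : Module.finrank F ((Fin 3 → F) ⧸ W) + Module.finrank F W = 3 := by
    rw [Submodule.finrank_quotient_add_finrank]; simp
  obtain ⟨g, hg⟩ : ∃ g : P →* Matrix (Fin 2) (Fin 2) F, Function.Injective g := by
    rcases (show Module.finrank F W = 1 ∨ Module.finrank F W = 2 by omega) with h | h
    · let e := LinearMap.toMatrixAlgEquiv
        (Module.finBasisOfFinrankEq F ((Fin 3 → F) ⧸ W) (n := 2) (by omega))
      refine ⟨e.toMulEquiv.toMonoidHom.comp f2, (injective_iff_map_eq_one _).mpr fun x hx => ?_⟩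
      have h2x : f2 x = 1 := e.injective (by rw [map_one]; exact hx)
      exact hKs x (Subgroup.mem_inf.mpr ⟨Units.ext (eq_one_of_rank_one h f1 x), Units.ext h2x⟩)
    · let e := LinearMap.toMatrixAlgEquiv (Module.finBasisOfFinrankEq F W (n := 2) h)
      refine ⟨e.toMulEquiv.toMonoidHom.comp f1, (injective_iff_map_eq_one _).mpr fun x hx => ?_⟩
      have h1x : f1 x = 1 := e.injective (by rw [map_one]; exact hx)
      exact hKs x (Subgroup.mem_inf.mpr
        ⟨Units.ext h1x, Units.ext (eq_one_of_rank_one (by omega) f2 x)⟩)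
  -- an involution
  have heven : Even (Nat.card P) := by
    rw [← Nat.not_odd_iff_even]
    intro hodd
    haveI := Cfsg.Agent.S0205.result hodd
    refine hna ⟨⟨fun a b => ?_⟩⟩
    haveI : Group.IsSolvable (PX P) := Group.isSolvable_of_surjective (px_surjective (P := P))
    exact IsSimpleGroup.comm_iff_isSolvable.mpr inferInstance a b
  haveI : Fact (Nat.Prime 2) := ⟨Nat.prime_two⟩
  obtain ⟨x, hx⟩ := exists_prime_orderOf_dvd_card' (G := P) 2 (even_iff_two_dvd.mp heven)
  have hx2 : x * x = 1 := by rw [← sq, ← hx, pow_orderOf_eq_one]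
  have hdet : ∀ y, (g y).det = 1 := fun y => by
    have := congrArg Units.val (hom_comm_eq_one ((Matrix.detMonoidHom.comp g).toHomUnits) y)
    simpa using this
  have hx1 : x ≠ 1 := fun h => by rw [h, orderOf_one] at hx; norm_num at hx
  have hgx : g x = -1 := eq_neg_one_of_sq h2 (hdet x) (by rw [← map_mul, hx2, map_one])
    fun h => hx1 (hg (by rw [h, map_one]))
  have hcen : ∀ y, x * y = y * x := fun y => hg (by rw [map_mul, map_mul, hgx]; simp)
  -- the centre modulo scalars is trivial
  have hz : px P x ∈ Subgroup.center (PX P) := Subgroup.mem_center_iff.mpr fun a => by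
    obtain ⟨a, rfl⟩ := px_surjective a
    rw [← map_mul, ← map_mul, hcen]
  have hbot : Subgroup.center (PX P) = ⊥ :=
    (inferInstance : (Subgroup.center (PX P)).Normal).eq_bot_or_eq_top.resolve_right fun htop => hna
      ⟨⟨fun a b => (Subgroup.mem_center_iff.mp (htop.ge (Subgroup.mem_top a)) b).symm⟩⟩
  rw [hbot, Subgroup.mem_bot] at hz
  obtain ⟨c, hc⟩ := px_eq_one.mp hz
  have hd : c ^ 3 = 1 := by
    have := det_of_mem_sl (hle x.2)
    simpa [hc] using this
  have hc2 : c * c = 1 := by
    have := congrArg (fun y : P => ((y : GL (Fin 3) F) : M3)) hx2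
    simp only [Subgroup.coe_mul, Units.val_mul, hc, smul_mul_smul_comm, one_mul, OneMemClass.coe_one,
      Units.val_one] at this
    simpa using congrFun (congrFun this 0) 0
  have hc1 : c = 1 := by linear_combination hd - c * hc2
  exact hx1 (Subtype.ext (Units.ext (by rw [hc, hc1, one_smul]; rfl)))

/-- A matrix with square a scalar has an eigenvalue in odd characteristic and odd degree. -/
theorem eq_zero_or_square {N : M3} {D : F} (hD : D ≠ 0) (h : N * N = D • 1) : IsSquare D := by
  have := congrArg Matrix.det h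
  rw [Matrix.det_mul, Matrix.det_smul, Matrix.det_one, mul_one, Fintype.card_fin] at this
  exact ⟨N.det / D, by field_simp; linear_combination -this⟩

/-- Irreducibility gives absolute irreducibility for a non-abelian group. -/
theorem abs_of_irreducible (h2 : (2 : F) ≠ 0) (hirr : ActsIrreducibly (matrixSet P))
    (hnc : ¬ ∀ a b : P, a * b = b * a) : ActsAbsolutelyIrreducibly (matrixSet P) := by
  refine ⟨hirr, fun X hX => ?_⟩
  -- the kernel of a commuting matrix is everything or nothing
  have hker : ∀ Y : M3, (∀ s ∈ matrixSet P, Y * s = s * Y) → ∀ v, v ≠ 0 → Y *ᵥ v = 0 → Y = 0 := by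
    intro Y hY v hv hYv
    rcases hirr (LinearMap.ker (Matrix.toLin' Y)) (fun s hs => by
      rintro _ ⟨w, hw, rfl⟩
      simp only [SetLike.mem_coe, LinearMap.mem_ker, Matrix.toLin'_apply] at hw ⊢
      rw [Matrix.mulVec_mulVec, hY s hs, ← Matrix.mulVec_mulVec, hw, Matrix.mulVec_zero]) with h | h
    · have : v ∈ LinearMap.ker (Matrix.toLin' Y) := by simp [hYv]
      rw [h, Submodule.mem_bot] at this
      exact absurd this hv
    · exact Matrix.toLin'.injective (by rw [map_zero]; exact LinearMap.ker_eq_top.mp h)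
  by_contra hns
  push Not at hns
  have heig : ∀ (c : F) (v : Fin 3 → F), v ≠ 0 → X *ᵥ v ≠ c • v := by
    intro c v hv h
    have := hker (X - c • 1) (fun s hs => by simp [sub_mul, mul_sub, hX s hs]) v hv (by
      rw [Matrix.sub_mulVec, h, Matrix.smul_mulVec, Matrix.one_mulVec, sub_self])
    exact hns c (sub_eq_zero.mp this)
  set v : Fin 3 → F := ![1, 0, 0]
  have hv : v ≠ 0 := fun h => one_ne_zero (α := F) (congrFun h 0)
  by_cases hli : LinearIndependent F ![v, X *ᵥ v, X *ᵥ (X *ᵥ v)]
  · refine hnc fun a b => ?_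
    have hpoly : ∀ g : P, ∃ c : Fin 3 → F,
        ((g : GL (Fin 3) F) : M3) = c 0 • 1 + c 1 • X + c 2 • (X * X) := by
      intro g
      have hspan := hli.span_eq_top_of_card_eq_finrank' (by simp)
      obtain ⟨c, hc⟩ := (Submodule.mem_span_range_iff_exists_fun F).mp
        (hspan ▸ Submodule.mem_top : ((g : GL (Fin 3) F) : M3) *ᵥ v ∈ _)
      refine ⟨c, sub_eq_zero.mp ?_⟩
      set Y := ((g : GL (Fin 3) F) : M3) - (c 0 • 1 + c 1 • X + c 2 • (X * X)) with hY
      have hYX : Commute X Y := by
        refine Commute.sub_right (hX _ ⟨g, g.2, rfl⟩) ?_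
        exact (((Commute.one_right X).smul_right _).add_right ((Commute.refl X).smul_right _)).add_right
          (((Commute.refl X).mul_right (Commute.refl X)).smul_right _)
      have hYv : Y *ᵥ v = 0 := by
        rw [hY, Matrix.sub_mulVec, ← hc, Fin.sum_univ_three]
        simp [Matrix.add_mulVec, Matrix.smul_mulVec, Matrix.mulVec_mulVec]
      refine Matrix.toLin'.injective (LinearMap.ext_on_range hspan fun i => ?_)
      rw [map_zero, LinearMap.zero_apply, Matrix.toLin'_apply]
      fin_cases i
      · exact hYv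
      · show Y *ᵥ (X *ᵥ v) = 0
        rw [Matrix.mulVec_mulVec, ← hYX.eq, ← Matrix.mulVec_mulVec, hYv, Matrix.mulVec_zero]
      · show Y *ᵥ (X *ᵥ (X *ᵥ v)) = 0
        rw [Matrix.mulVec_mulVec, ← hYX.eq, ← Matrix.mulVec_mulVec, Matrix.mulVec_mulVec v Y X, ← hYX.eq,
          ← Matrix.mulVec_mulVec, hYv, Matrix.mulVec_zero, Matrix.mulVec_zero]
    obtain ⟨c, hc⟩ := hpoly a
    obtain ⟨d, hd⟩ := hpoly b
    refine Subtype.ext (Units.ext ?_)
    simp only [Subgroup.coe_mul, Units.val_mul, hc, hd, add_mul, mul_add, smul_mul_assoc, mul_smul_comm,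
      one_mul, mul_one, mul_assoc]
    module
  · rw [Fintype.not_linearIndependent_iff] at hli
    obtain ⟨c, hc, i, hi⟩ := hli
    rw [Fin.sum_univ_three] at hc
    simp at hc
    by_cases hc2 : c 2 = 0
    · rw [hc2, zero_smul, add_zero] at hc
      by_cases hc1 : c 1 = 0
      · rw [hc1, zero_smul, add_zero, smul_eq_zero, or_iff_left hv] at hc
        fin_cases i <;> [exact hi hc; exact hi hc1; exact hi hc2]
      · refine heig (-(c 1)⁻¹ * c 0) v hv ?_
        have h1 : c 1 • (X *ᵥ v) = -(c 0 • v) := eq_neg_of_add_eq_zero_right hc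
        rw [← inv_smul_smul₀ hc1 (X *ᵥ v), h1, smul_neg, smul_smul, ← neg_smul, neg_mul]
    set a := -(c 2)⁻¹ * c 1
    set b := -(c 2)⁻¹ * c 0
    have hq : X * X = a • X + b • 1 := by
      refine sub_eq_zero.mp (hker _ (fun s hs => ?_) v hv ?_)
      · simp only [sub_mul, mul_sub, add_mul, mul_add, smul_mul_assoc, mul_smul_comm, one_mul, mul_one,
          mul_assoc, hX s hs]
        rw [← mul_assoc, hX s hs, mul_assoc]
      · rw [Matrix.sub_mulVec, Matrix.add_mulVec, Matrix.smul_mulVec, Matrix.smul_mulVec,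
          Matrix.one_mulVec, ← Matrix.mulVec_mulVec]
        have e : (c 2)⁻¹ • (c 0 • v + c 1 • (X *ᵥ v) + c 2 • (X *ᵥ (X *ᵥ v))) = 0 := by
          rw [show X *ᵥ (X *ᵥ v) = (X * X) *ᵥ v from Matrix.mulVec_mulVec _ _ _, hc, smul_zero]
        simp only [smul_add, smul_smul, inv_mul_cancel₀ hc2, one_smul] at e
        rw [← e]
        simp only [a, b, neg_mul, neg_smul]
        abel
    set N : M3 := (2 : F) • X - a • 1 with hN
    have hNN : N * N = (a ^ 2 + 4 * b) • 1 := by
      simp only [hN, sub_mul, mul_sub, smul_mul_assoc, mul_smul_comm, one_mul, mul_one, hq, smul_add,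
        smul_smul, smul_sub]
      module
    have hNs : ∀ e : F, ¬ (N - e • 1).det = 0 := by
      intro e he
      obtain ⟨w, hw, hw0⟩ := Matrix.exists_mulVec_eq_zero_iff.mpr he
      refine heig ((a + e) / 2) w hw ?_
      rw [hN, Matrix.sub_mulVec, Matrix.sub_mulVec, Matrix.smul_mulVec, Matrix.smul_mulVec,
        Matrix.smul_mulVec, Matrix.one_mulVec, sub_sub, ← add_smul, sub_eq_zero] at hw0
      rw [← inv_smul_smul₀ h2 (X *ᵥ w), hw0, smul_smul, div_eq_inv_mul]
    obtain ⟨e, he⟩ : IsSquare (a ^ 2 + 4 * b) := by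
      by_cases h0 : a ^ 2 + 4 * b = 0
      · exact ⟨0, by rw [h0, mul_zero]⟩
      · exact eq_zero_or_square h0 hNN
    have hprod : (N - e • 1) * (N - (-e) • 1) = 0 := by
      simp only [sub_mul, mul_sub, smul_mul_assoc, mul_smul_comm, one_mul, mul_one, hNN, he, smul_smul,
        smul_sub]
      module
    have := congrArg Matrix.det hprod
    rw [Matrix.det_mul, Matrix.det_zero] at this
    rcases mul_eq_zero.mp this with h | h
    · exact hNs e h
    · exact hNs (-e) h

end Cfsg.Agent.Linear.Mitchell.Socle
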