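import Cfsg.Agent.Linear.Mitchell.Socle.Induced

/-!
The normalisers of the covers of the groups of order 168, 360 and 2520 in `SL₃(q)`.
-/

set_option autoImplicit false
set_option linter.style.haveILetI false
set_option linter.unusedSectionVars false

namespace Cfsg.Agent.Linear.Mitchell.Socle

open scoped MatrixGroups Matrix commutatorElement
open Cfsg.Geo

/-! ### The group of order 360 -/

theorem SixData.gen {G : Type*} [Group G] [Finite G] [IsSimpleGroup G] (hG : Nat.card G = 360)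
    {z b c y : G} (d : SixData z b c y) : Subgroup.closure ({z, b} : Set G) = ⊤ := by
  classical
  haveI : Fact (Nat.Prime 3) := ⟨Nat.prime_three⟩
  set K := Subgroup.closure ({z, b} : Set G)
  obtain ⟨hz, hb⟩ := closure_pair_mem z b
  have h5 : 5 ∣ Nat.card K := by have := orderOf_dvd_card_of_mem hz; rwa [d.oz] at this
  have h4 : 4 ∣ Nat.card K := by
    have := orderOf_dvd_card_of_mem (K.mul_mem (K.pow_mem hz 2) hb); rwa [d.o2] at this
  set u := wu z b
  set v := wv z b
  have hu : u ∈ K := by simp only [u, wu]; aesop (add safe [Subgroup.mul_mem, Subgroup.pow_mem])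
  have hv : v ∈ K := by simp only [v, wv]; aesop (add safe [Subgroup.mul_mem, Subgroup.pow_mem])
  set L := Subgroup.closure ({u, v} : Set G)
  have hLK : L ≤ K := (Subgroup.closure_le _).mpr (by rintro x (rfl | rfl) <;> assumption)
  have hLc : ∀ x ∈ L, x ^ 3 = 1 ∧ Commute x u ∧ Commute x v := by
    intro x hx
    induction hx using Subgroup.closure_induction with
    | mem x hx =>
      rcases hx with hx | hx <;> rw [hx]
      · exact ⟨orderOf_dvd_iff_pow_eq_one.mp (by rw [d.ou]), Commute.refl _, d.comm⟩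
      · exact ⟨orderOf_dvd_iff_pow_eq_one.mp (by rw [d.ov]), d.comm.symm, Commute.refl _⟩
    | one => exact ⟨one_pow _, Commute.one_left _, Commute.one_left _⟩
    | mul a b ha hb iha ihb =>
      have hab : Commute a b := by
        clear ihb
        induction hb using Subgroup.closure_induction with
        | mem x hx => rcases hx with hx | hx <;> rw [hx]; exacts [iha.2.1, iha.2.2]
        | one => exact Commute.one_right _
        | mul x y _ _ hx hy => exact hx.mul_right hy
        | inv x _ hx => exact hx.inv_right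
      exact ⟨by rw [hab.mul_pow, iha.1, ihb.1, one_mul], iha.2.1.mul_left ihb.2.1, iha.2.2.mul_left ihb.2.2⟩
    | inv a _ iha => exact ⟨by rw [inv_pow, iha.1, inv_one], iha.2.1.inv_left, iha.2.2.inv_left⟩
  have hLp : IsPGroup 3 L := fun x => ⟨1, Subtype.ext (by simpa using (hLc x x.2).1)⟩
  obtain ⟨k, hk⟩ := IsPGroup.iff_card.mp hLp
  have h9 : 9 ∣ Nat.card K := by
    refine dvd_trans ?_ (Subgroup.card_dvd_of_le hLK)
    rw [hk]
    rcases (show k ≤ 1 ∨ 2 ≤ k by omega) with hk1 | hk2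
    · exfalso
      have hzu : Subgroup.zpowers u ≤ L := Subgroup.zpowers_le.mpr (Subgroup.subset_closure (by simp))
      have he : Subgroup.zpowers u = L := Subgroup.eq_of_le_of_card_ge hzu (by
        rw [hk, Nat.card_zpowers, d.ou]
        exact (Nat.pow_le_pow_right (by norm_num) hk1).trans (by norm_num))
      have hvu : v ∈ Subgroup.zpowers u := he ▸ Subgroup.subset_closure (by simp)
      obtain ⟨i, hi⟩ := (mem_powers_iff_mem_zpowers).mpr hvu
      exact d.indep i hi.symm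
    · exact pow_dvd_pow 3 hk2
  refine eq_top_of_index (lt_of_le_of_lt (Nat.factorial_le (index_le (d := 180) (k := 2) ?_
    (by norm_num) (by omega))) (by rw [hG]; decide))
  exact Nat.Coprime.mul_dvd_of_dvd_of_dvd (by norm_num : Nat.Coprime 36 5)
    (Nat.Coprime.mul_dvd_of_dvd_of_dvd (by norm_num : Nat.Coprime 4 9) h4 h9) h5

variable {F : Type*} [Field F] [Fintype F] {P : Subgroup (GL (Fin 3) F)}

local notation "M3" => Matrix (Fin 3) (Fin 3) F

/-- `h` lies in `P` up to a scalar. -/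
def InP (P : Subgroup (GL (Fin 3) F)) (h : GL (Fin 3) F) : Prop :=
  ∃ g ∈ P, ∃ c : F, (h : M3) = c • (g : M3)

theorem commute_twist {U V : M3} {w : F} (hw : w ≠ 0) (h : U * V = w • (V * U)) :
    U * V * V * (U * V) = w⁻¹ • (U * V * (U * V * V)) := by
  have h' : V * U = w⁻¹ • (U * V) := by rw [h, smul_smul, inv_mul_cancel₀ hw, one_smul]
  calc U * V * V * (U * V) = U * V * ((V * U) * V) := by simp only [mul_assoc]
    _ = w⁻¹ • (U * V * (U * V * V)) := by rw [h', smul_mul_assoc, mul_smul_comm]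

/-- An element normalising `P` and fixing the class of an element of order five is inner. -/
theorem inP_of_class (hS : Setting P) (h360 : projCard P = 360) (h3 : (3 : F) ≠ 0)
    {Z B C Y : PX P} (d : SixData Z B C Y) {h : GL (Fin 3) F} (hn : ∀ x ∈ P, h * x * h⁻¹ ∈ P)
    {G : PX P} (hG : G * Z * G⁻¹ = indAut hn Z) : InP P h := by
  haveI := hS.simple
  set θ := indAut hn with hθ
  have ho : ∀ x, orderOf (θ x) = orderOf x := fun x => orderOf_injective θ.toMonoidHom θ.injective x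
  have hconj : ∀ (i n : ℕ), orderOf (Z ^ i * B) = n → (Z ^ i * (G⁻¹ * θ B * G)) ^ n = 1 := by
    intro i n hin
    have e : Z ^ i * (G⁻¹ * θ B * G) = G⁻¹ * θ (Z ^ i * B) * G⁻¹⁻¹ := by
      rw [map_mul, map_pow, ← hG, conj_pow]; group
    rw [e, conj_pow, ← map_pow, orderOf_dvd_iff_pow_eq_one.mp (by rw [hin]), map_one]
    group
  obtain ⟨k, hk⟩ := d.inner (G⁻¹ * θ B * G) (by
      have := orderOf_injective (MulAut.conj G⁻¹).toMonoidHom (MulAut.conj G⁻¹).injective (θ B)
      simpa using this.trans ((ho B).trans d.ob))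
    (by simpa using hconj 1 5 (by simpa using d.o1)) (hconj 2 4 d.o2) (hconj 3 4 d.o3)
  have hZ : G * Z ^ k * Z * (G * Z ^ k)⁻¹ = θ Z := by rw [← hG]; group
  obtain ⟨g, hg⟩ := px_surjective (G * Z ^ k)
  rcases hk with hk | hk
  · have hB : G * Z ^ k * B * (G * Z ^ k)⁻¹ = θ B := by
      rw [show G * Z ^ k * B * (G * Z ^ k)⁻¹ = G * (Z ^ k * B * (Z ^ k)⁻¹) * G⁻¹ by group, hk]; group
    have heq : Set.EqOn θ.toMonoidHom (MulAut.conj (G * Z ^ k)).toMonoidHom ({Z, B} : Set (PX P)) := by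
      rintro y (hy | hy) <;> rw [hy]
      · exact hZ.symm
      · exact hB.symm
    obtain ⟨c, hc⟩ := eq_smul_of_inner hS hn (g := g) fun x => by
      rw [hg]
      exact MonoidHom.eqOn_closure heq ((d.gen h360).symm ▸ Subgroup.mem_top _)
    exact ⟨_, g.2, c, hc⟩
  · exfalso
    have hB : G * Z ^ k * C * (G * Z ^ k)⁻¹ = θ B := by
      rw [show G * Z ^ k * C * (G * Z ^ k)⁻¹ = G * (Z ^ k * C * (Z ^ k)⁻¹) * G⁻¹ by group, hk]; group
    set f := (MulAut.conj (G * Z ^ k * Y)⁻¹).toMonoidHom.comp θ.toMonoidHom with hf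
    set f0 := (MulAut.conj (G * Z ^ k)⁻¹).toMonoidHom.comp θ.toMonoidHom with hf0
    have f0Z : f0 Z = Z := by
      simp only [hf0, MonoidHom.comp_apply, MulEquiv.coe_toMonoidHom, MulAut.conj_apply]
      rw [← hZ]; group
    have f0B : f0 B = C := by
      simp only [hf0, MonoidHom.comp_apply, MulEquiv.coe_toMonoidHom, MulAut.conj_apply]
      rw [← hB]; group
    have hff : ∀ x, f x = Y⁻¹ * f0 x * Y := fun x => by
      simp only [hf, hf0, MonoidHom.comp_apply, MulEquiv.coe_toMonoidHom, MulAut.conj_apply]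
      group
    have fU : f (wu Z B) = wu Z B * (wv Z B * wv Z B) := by
      rw [hff, map_wu, f0Z, f0B, d.outu]; group
    have fV : f (wv Z B) = wu Z B * wv Z B := by
      rw [hff, map_wv, f0Z, f0B, d.outv]; group
    obtain ⟨u, hu⟩ := px_surjective (wu Z B)
    obtain ⟨v, hv⟩ := px_surjective (wv Z B)
    obtain ⟨y, hy⟩ := px_surjective (G * Z ^ k * Y)
    obtain ⟨w, hw⟩ := px_eq_one.mp (show px P ⁅u, v⁆ = 1 by
      rw [commutatorElement_def, map_mul, map_mul, map_mul, map_inv, map_inv, hu, hv, d.comm]; group)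
    have hw3 := hS.scalar_cube (⁅u, v⁆ : P).2 hw
    have hw0 : w ≠ 0 := fun h0 => by rw [h0] at hw3; simp at hw3
    have hreal : ∀ X : PX P, orderOf X = 3 → RealElt X := fun X hX => by
      rcases (IsSmall.profile (P := P) (Or.inr (Or.inl h360)) hS) X with rfl | ⟨n, -, -, hr⟩ | ⟨h7, -⟩
      · simp at hX
      · exact hr
      · omega
    have hw1 : w ≠ 1 := fun h1 => by
      rw [h1, one_smul] at hw
      refine not_commute_of_pair hS h3 hreal (x := u) (y := v) (by rw [hu]; exact d.ou)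
        (by rw [hv]; exact d.ov) (fun i => by rw [hu, hv]; exact d.indep i) ?_
      exact commutatorElement_eq_one_iff_mul_comm.mp (Subtype.ext (Units.ext hw))
    -- conjugation by the lift
    set m : GL (Fin 3) F := (y : GL (Fin 3) F)⁻¹ * h with hm
    set U : M3 := ((u : GL (Fin 3) F) : M3) with hUdef
    set V : M3 := ((v : GL (Fin 3) F) : M3) with hVdef
    have hUV : U * V = w • (V * U) := by
      have := congrArg (· * (V * U)) hw
      simp only [commutatorElement_def, Subgroup.coe_mul, Subgroup.coe_inv, Units.val_mul, smul_mul_assoc,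
        one_mul] at this
      rw [← this]
      simp [U, V, mul_assoc]
    have himg : ∀ a b : P, f (px P a) = px P b →
        ∃ c : F, ((m * (a : GL (Fin 3) F) * m⁻¹ : GL (Fin 3) F) : M3) = c • ((b : GL (Fin 3) F) : M3) := by
      intro a b hab
      set e : P := y⁻¹ * ⟨h * a * h⁻¹, hn a a.2⟩ * y with he
      have hpe : px P b = px P e := by
        rw [← hab, he, map_mul, map_mul, map_inv, ← indAut_px hn, hy]
        simp only [hf, MonoidHom.comp_apply, MulEquiv.coe_toMonoidHom, MulAut.conj_apply, inv_inv, hθ]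
      obtain ⟨c, hc⟩ := px_eq_iff.mp hpe
      refine ⟨c, ?_⟩
      rw [show m * (a : GL (Fin 3) F) * m⁻¹ = (e : GL (Fin 3) F) by simp [he, hm, mul_assoc]]
      exact hc
    obtain ⟨a, ha⟩ := himg u (u * (v * v)) (by rw [map_mul, map_mul, hu, hv, fU])
    obtain ⟨b, hb⟩ := himg v (u * v) (by rw [map_mul, hu, hv, fV])
    simp only [Subgroup.coe_mul, Units.val_mul] at ha hb
    have hab0 : a * b ≠ 0 := by
      have ha' := Matrix.GeneralLinearGroup.det_ne_zero (m * (u : GL (Fin 3) F) * m⁻¹)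
      have hb' := Matrix.GeneralLinearGroup.det_ne_zero (m * (v : GL (Fin 3) F) * m⁻¹)
      simp only [Units.val_mul, ha, hb] at ha' hb'
      refine mul_ne_zero (fun h0 => ?_) (fun h0 => ?_)
      · rw [h0, zero_smul, Matrix.det_zero] at ha'; exact ha' rfl
      · rw [h0, zero_smul, Matrix.det_zero] at hb'; exact hb' rfl
    have e2 := congrArg (fun X => (m : M3) * X * ((m⁻¹ : GL (Fin 3) F) : M3)) hUV
    simp only [mul_smul_comm, smul_mul_assoc] at e2
    have hsplit : ∀ X X' : M3, (m : M3) * (X * X') * ((m⁻¹ : GL (Fin 3) F) : M3) =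
        ((m : M3) * X * ((m⁻¹ : GL (Fin 3) F) : M3)) * ((m : M3) * X' * ((m⁻¹ : GL (Fin 3) F) : M3)) :=
      fun X X' => by simp [mul_assoc]
    rw [hsplit, hsplit, ha, hb, smul_mul_smul_comm, smul_mul_smul_comm, mul_comm b a, smul_smul,
      mul_comm w (a * b), mul_smul (a * b) w] at e2
    have e3 := smul_right_injective M3 hab0 e2
    have et := commute_twist hw0 hUV
    rw [← hUdef, ← hVdef, ← mul_assoc U V V, et] at e3
    have hne : U * V * (U * V * V) ≠ 0 := fun h0 => by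
      have := Matrix.GeneralLinearGroup.det_ne_zero ((u * v * (u * v * v) : P) : GL (Fin 3) F)
      simp only [Subgroup.coe_mul, Units.val_mul] at this
      rw [← hUdef, ← hVdef, h0, Matrix.det_zero] at this
      exact this rfl
    exact inv_ne_self_of_cube hw3 hw1 (smul_left_injective F hne e3)

theorem indAut_inv_mul {h₁ h₂ : GL (Fin 3) F} (hn₁ : ∀ x ∈ P, h₁ * x * h₁⁻¹ ∈ P)
    (hn₂ : ∀ x ∈ P, h₂ * x * h₂⁻¹ ∈ P) (hn : ∀ x ∈ P, h₁⁻¹ * h₂ * x * (h₁⁻¹ * h₂)⁻¹ ∈ P) (X : PX P) :
    indAut hn₁ (indAut hn X) = indAut hn₂ X := by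
  obtain ⟨x, rfl⟩ := px_surjective X
  rw [indAut_px, indAut_px, indAut_px]
  congr 1
  exact Subtype.ext (by simp [mul_assoc])

theorem normalizes_inv_mul {h₁ h₂ : GL (Fin 3) F} (hn₁ : ∀ x ∈ P, h₁ * x * h₁⁻¹ ∈ P)
    (hn₂ : ∀ x ∈ P, h₂ * x * h₂⁻¹ ∈ P) : ∀ x ∈ P, h₁⁻¹ * h₂ * x * (h₁⁻¹ * h₂)⁻¹ ∈ P := by
  intro x hx
  obtain ⟨a, ha⟩ := (conjEquiv hn₁).surjective ⟨_, hn₂ x hx⟩
  have := congrArg Subtype.val ha
  rw [conjEquiv_apply] at this
  replace this : h₁ * (a : GL (Fin 3) F) * h₁⁻¹ = h₂ * x * h₂⁻¹ := this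
  rw [show h₁⁻¹ * h₂ * x * (h₁⁻¹ * h₂)⁻¹ = h₁⁻¹ * (h₂ * x * h₂⁻¹) * h₁ by group, ← this]
  simpa [mul_assoc] using a.2

theorem exists_six (hS : Setting P) (h360 : projCard P = 360) :
    ∃ Z B C Y : PX P, SixData Z B C Y := by
  obtain ⟨e⟩ := iso_six hS h360
  obtain ⟨z, b, c, y, d⟩ := exists_sixData
  exact ⟨_, _, _, _, d.map e.symm⟩

/-- Outside `P` the class of order five is moved to the class of its square. -/
theorem outer_class (hS : Setting P) (h360 : projCard P = 360) (h3 : (3 : F) ≠ 0)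
    {Z B C Y : PX P} (d : SixData Z B C Y) {h : GL (Fin 3) F} (hn : ∀ x ∈ P, h * x * h⁻¹ ∈ P)
    (hout : ¬ InP P h) : ∃ G, G * Z ^ 2 * G⁻¹ = indAut hn Z := by
  have ho : orderOf (indAut hn Z) = orderOf Z :=
    orderOf_injective (indAut hn).toMonoidHom (indAut hn).injective Z
  obtain ⟨G, hG | hG⟩ := d.cls _ (ho.trans d.oz)
  · exact absurd (inP_of_class hS h360 h3 d hn hG) hout
  · exact ⟨G, hG⟩

/-- Two outer elements differ by an element of `P` and scalars. -/
theorem six_index_two (p : ℕ) [Fact p.Prime] [CharP F p] (hS : Setting P) (h360 : projCard P = 360)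
    (hp3 : p ≠ 3) {h₁ h₂ : GL (Fin 3) F} (hn₁ : ∀ x ∈ P, h₁ * x * h₁⁻¹ ∈ P)
    (hn₂ : ∀ x ∈ P, h₂ * x * h₂⁻¹ ∈ P) (o₁ : ¬ InP P h₁) (o₂ : ¬ InP P h₂) :
    InP P (h₁⁻¹ * h₂) := by
  have h3 := three_ne_zero_char (F := F) p hp3
  obtain ⟨Z, B, C, Y, d⟩ := exists_six hS h360
  obtain ⟨G₁, e₁⟩ := outer_class hS h360 h3 d hn₁ o₁
  obtain ⟨G₂, e₂⟩ := outer_class hS h360 h3 d hn₂ o₂
  have hn := normalizes_inv_mul hn₁ hn₂
  refine inP_of_class hS h360 h3 d hn (G := (indAut hn₁).symm (G₂ * G₁⁻¹)) ((indAut hn₁).injective ?_)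
  rw [map_mul, map_mul, map_inv, MulEquiv.apply_symm_apply, indAut_inv_mul hn₁ hn₂ hn, ← e₂, ← e₁]
  group

/-- Outside characteristic five there are no outer elements. -/
theorem six_inP (p : ℕ) [Fact p.Prime] [CharP F p] (hS : Setting P) (h360 : projCard P = 360)
    (hp3 : p ≠ 3) (hp5 : p ≠ 5) {h : GL (Fin 3) F} (hn : ∀ x ∈ P, h * x * h⁻¹ ∈ P) : InP P h := by
  by_contra hout
  have h3 := three_ne_zero_char (F := F) p hp3
  obtain ⟨Z, B, C, Y, d⟩ := exists_six hS h360
  obtain ⟨G, hG⟩ := outer_class hS h360 h3 d hn hout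
  rcases (IsSmall.profile (P := P) (Or.inr (Or.inl h360)) hS) Z with e | ⟨n, -, ho, hr⟩ | ⟨h7, -⟩
  · have := d.oz; rw [e, orderOf_one] at this; norm_num at this
  · obtain ⟨w, hw, hp, h1, h2⟩ := exists_real_lift hS hr
    have ht : tr (w : GL (Fin 3) F) ^ 2 = tr (w : GL (Fin 3) F) + 1 := by
      rcases tv_of_real hS (n := 5) (by simp) d.oz hw hp h1 h2 with
        ⟨h, _⟩ | ⟨h, _⟩ | ⟨h, _⟩ | ⟨_, h⟩ | ⟨h, _⟩
      all_goals first
        | exact h
        | omega
    obtain ⟨g, rfl⟩ := px_surjective G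
    subst hw
    rw [indAut_px, ← map_pow, ← map_inv, ← map_mul, ← map_mul] at hG
    have h5 := hp 5 (d.oz ▸ pow_orderOf_eq_one _)
    have heq := lift_unique hS hG (n := 5) (by norm_num)
      (by simp only [Subgroup.coe_mul, Subgroup.coe_inv, Subgroup.coe_pow]
          rw [conj_pow, ← pow_mul, mul_comm, pow_mul, h5]; simp)
      (by rw [conj_pow, h5]; simp)
    have htr := congrArg (fun x : P => tr (x : GL (Fin 3) F)) heq
    simp only [Subgroup.coe_mul, Subgroup.coe_inv, Subgroup.coe_pow, tr_conj hS] at htr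
    rw [tr_sq (hS.det_eq_one w.2), h1] at htr
    have he : 2 * tr (w : GL (Fin 3) F) - 1 = 0 := by
      first
        | linear_combination htr - ht
        | linear_combination ht - htr
    have h50 : (5 : F) = 0 := by
      linear_combination (-4 : F) * ht + (2 * tr (w : GL (Fin 3) F) - 1) * he
    exact hp5 ((Nat.prime_dvd_prime_iff_eq Fact.out (by norm_num)).mp
      ((CharP.cast_eq_zero_iff F p 5).mp (by exact_mod_cast h50)))
  · have := d.oz; omega

/-! ### The congruences -/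

variable (p α : ℕ) [Fact p.Prime] [CharP F p]

theorem pow_card_self (hF : Fintype.card F = p ^ α) (x : F) : x ^ p ^ α = x := by
  have := FiniteField.pow_card x
  rwa [hF] at this

theorem even_of_swap {t t' : F} (h1 : t ^ p = t') (h2 : t' ^ p = t) (hne : t' ≠ t)
    (h : t ^ p ^ α = t) : Even α := by
  by_contra hodd
  rw [Nat.not_even_iff_odd] at hodd
  obtain ⟨k, rfl⟩ := hodd
  refine hne ?_
  have hk : ∀ j, t ^ p ^ (2 * j) = t := fun j => by
    induction j with
    | zero => simp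
    | succ j ih => rw [show 2 * (j + 1) = 2 * j + 1 + 1 by ring, pow_succ, pow_succ, pow_mul, pow_mul, ih, h1, h2]
  rw [pow_succ, pow_mul, hk, h1] at h
  exact h

theorem scalar_mod_three (hS : Setting P) (hsmall : projCard P = 360 ∨ projCard P = 2520) (hp3 : p ≠ 3)
    (hF : Fintype.card F = p ^ α) : p ^ α % 3 = 1 := by
  obtain ⟨z, hz, w, hw, hne, h3⟩ := exists_omega hS hsmall (three_ne_zero_char p hp3)
  have e : w ^ (p ^ α % 3) = w := by rw [← pow_eq_pow_mod _ h3, pow_card_self p α hF]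
  rcases (show p ^ α % 3 = 0 ∨ p ^ α % 3 = 1 ∨ p ^ α % 3 = 2 by omega) with h | h | h
  · rw [h, pow_zero] at e; exact absurd e.symm hne
  · exact h
  · rw [h] at e
    have hwi : w⁻¹ = w ^ 2 := (eq_inv_of_mul_eq_one_left (by rw [← pow_succ, h3])).symm
    exact absurd (hwi.trans e) (inv_ne_self_of_cube h3 hne)

theorem even_of_five (hS : Setting P) (hsmall : projCard P = 360 ∨ projCard P = 2520) (hp5 : p = 5)
    (hF : Fintype.card F = p ^ α) : Even α := by
  have h := scalar_mod_three p α hS hsmall (by omega) hF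
  subst hp5
  rw [Nat.pow_mod] at h
  by_contra hodd
  obtain ⟨k, rfl⟩ := Nat.not_even_iff_odd.mp hodd
  norm_num [pow_succ, pow_mul, Nat.mul_mod, Nat.pow_mod] at h

/-- Order 168: the congruence. -/
theorem mod_seven_168 (hS : Setting P) (h168 : projCard P = 168) (hp7 : p ≠ 7)
    (hF : Fintype.card F = p ^ α) : (p ^ α) ^ 3 % 7 = 1 := by
  obtain ⟨x, hx, -, hroot⟩ := exists_seven hS (Or.inl h168)
  have h0 : p % 7 ≠ 0 := fun h0 => hp7
    ((Nat.prime_dvd_prime_iff_eq (by norm_num) Fact.out).mp (Nat.dvd_of_mod_eq_zero h0)).symm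
  by_cases hg : p % 7 = 1 ∨ p % 7 = 2 ∨ p % 7 = 4
  · rw [← pow_mul, mul_comm, pow_mul, Nat.pow_mod, Nat.pow_mod p 3]
    rcases hg with e | e | e <;> rw [e] <;> norm_num
  · obtain ⟨e1, e2⟩ := seven_swap p hroot (by omega)
    have hroot' : (-1 - tr x) ^ 2 + (-1 - tr x) + 2 = 0 := by linear_combination hroot
    obtain ⟨e3, -⟩ := seven_swap p hroot' (by omega)
    obtain ⟨k, rfl⟩ := even_of_swap p α e1 (e3.trans (by ring)) e2 (pow_card_self p α hF _)
    rw [← pow_mul, show (k + k) * 3 = 6 * k by ring, pow_mul, Nat.pow_mod, Nat.pow_mod p 6]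
    rcases (show p % 7 = 3 ∨ p % 7 = 5 ∨ p % 7 = 6 by omega) with e | e | e <;> rw [e] <;> norm_num

/-- Order 360: the congruence. -/
theorem mod_thirty_360 (hS : Setting P) (h360 : projCard P = 360) (hp2 : p ≠ 2) (hp3 : p ≠ 3)
    (hp5 : p ≠ 5) (hF : Fintype.card F = p ^ α) : p ^ α % 30 = 1 ∨ p ^ α % 30 = 19 := by
  have h3 := scalar_mod_three p α hS (Or.inl h360) hp3 hF
  have h2 : p ^ α % 2 = 1 := Nat.odd_iff.mp (Odd.pow ((Fact.out : p.Prime).odd_of_ne_two hp2))
  obtain ⟨x, hx, ht, -⟩ := exists_five hS (Or.inl h360)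
  have h0 : p % 5 ≠ 0 := fun h0 => hp5
    ((Nat.prime_dvd_prime_iff_eq (by norm_num) Fact.out).mp (Nat.dvd_of_mod_eq_zero h0)).symm
  have h5 : p ^ α % 5 = 1 ∨ p ^ α % 5 = 4 := by
    by_cases hg : p % 5 = 1 ∨ p % 5 = 4
    · rw [Nat.pow_mod]
      rcases hg with e | e <;> rw [e]
      · simp
      · obtain ⟨k, rfl | rfl⟩ := Nat.even_or_odd' α
        · left; rw [pow_mul, Nat.pow_mod]; norm_num
        · right; rw [pow_succ, pow_mul, Nat.mul_mod, Nat.pow_mod]; norm_num
    · obtain ⟨e1, e2⟩ := five_swap p ht (by omega)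
      have ht' : (1 - tr x) ^ 2 = (1 - tr x) + 1 := by linear_combination ht
      obtain ⟨e3, -⟩ := five_swap p ht' (by omega)
      obtain ⟨k, rfl⟩ := even_of_swap p α e1 (e3.trans (by ring)) e2 (pow_card_self p α hF _)
      rw [← two_mul, pow_mul, Nat.pow_mod, Nat.pow_mod p 2]
      rcases (show p % 5 = 2 ∨ p % 5 = 3 by omega) with e | e <;> rw [e] <;>
        (obtain ⟨j, rfl | rfl⟩ := Nat.even_or_odd' k
         · left; rw [pow_mul, Nat.pow_mod]; norm_num
         · right; rw [pow_succ, pow_mul, Nat.mul_mod, Nat.pow_mod]; norm_num)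
  omega

/-- In characteristic seven the group of order 168 is orthogonal. -/
theorem quad_168 (hS : Setting P) (h168 : projCard P = 168) (hp7 : p = 7) :
    ∃ Q : (Fin 3 → F) → F, IsNondegenerateQuadraticForm Q ∧ FixesQuadForm (matrixSet P) Q :=
  exists_quad_of_real p hS (by omega) (IsSmall.traces_real p (Or.inl h168) hS (fun _ => hp7)
    fun _ _ hz => scalar_cases_168 hS h168 hz)

/-- In characteristic three the group of order 360 is orthogonal. -/
theorem quad_360 (hS : Setting P) (h360 : projCard P = 360) (hp3 : p = 3) :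
    ∃ Q : (Fin 3 → F) → F, IsNondegenerateQuadraticForm Q ∧ FixesQuadForm (matrixSet P) Q :=
  exists_quad_of_real p hS (by omega) (IsSmall.traces_real p (Or.inr (Or.inl h360)) hS
    (fun h => absurd h360 h) fun _ h3 _ => cube_eq_one_char_three p hp3 h3)

/-- Orders 168 and 2520: no outer elements. -/
theorem pair_inP (hS : Setting P) (hp7 : p ≠ 7) (hs : projCard P = 168 ∨ projCard P = 2520)
    {h : GL (Fin 3) F} (hn : ∀ x ∈ P, h * x * h⁻¹ ∈ P) : InP P h :=
  mem_smul_of_pair p hS hp7 hs hn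

end Cfsg.Agent.Linear.Mitchell.Socle
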