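import Cfsg.Agent.Linear.Mitchell.Socle.Fields
import Mathlib.GroupTheory.Perm.Cycle.Type

/-!
The sets of traces of the covers of the groups of order 168, 360 and 2520.
-/

set_option autoImplicit false
set_option linter.style.haveILetI false
set_option linter.unusedSectionVars false

namespace Cfsg.Agent.Linear.Mitchell.Socle

open scoped MatrixGroups Matrix
open Cfsg.Geo

theorem Profile.map {G H : Type*} [Group G] [Group H] {ns : List ℕ} (h : Profile G ns) (e : G ≃* H) :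
    Profile H ns := by
  intro x
  obtain ⟨x, rfl⟩ := e.surjective x
  have ho : orderOf (e x) = orderOf x := orderOf_injective e.toMonoidHom e.injective x
  rcases h x with rfl | ⟨n, hn, h1, g, hg⟩ | ⟨h1, g, hg⟩
  · exact Or.inl (map_one e)
  · exact Or.inr (Or.inl ⟨n, hn, ho.trans h1, e g, by
      rw [← map_inv e g, ← map_inv e x, ← map_mul, ← map_mul, hg]⟩)
  · exact Or.inr (Or.inr ⟨ho.trans h1, e g, by
      rw [← map_inv e g, ← map_pow, ← map_mul, ← map_mul, hg]⟩)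

variable {F : Type*} [Field F] [Fintype F] {P : Subgroup (GL (Fin 3) F)}

local notation "M3" => Matrix (Fin 3) (Fin 3) F

theorem iso_six (hS : Setting P) (h : projCard P = 360) :
    Nonempty (PX P ≃* alternatingGroup (Fin 6)) := by
  haveI := hS.simple
  exact Cfsg.Agent.S0497.result h

theorem iso_seven (hS : Setting P) (h : projCard P = 2520) :
    Nonempty (PX P ≃* alternatingGroup (Fin 7)) := by
  haveI := hS.simple
  exact Cfsg.Agent.S0984.result h

theorem iso_L32 (hS : Setting P) (h : projCard P = 168) :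
    Nonempty (PX P ≃* Matrix.ProjectiveSpecialLinearGroup (Fin 3) (ZMod 2)) := by
  haveI := hS.simple
  obtain ⟨e⟩ := iso_S32 (G := PX P) h
  have hc : Subgroup.center S32 = ⊥ :=
    Subgroup.eq_bot_of_card_eq _ (by rw [Cfsg.Agent.Linear.card_center_SL]; simp)
  exact ⟨e.trans (QuotientGroup.quotientBot.symm.trans (QuotientGroup.quotientMulEquivOfEq hc.symm))⟩

/-- The orders which give real elements. -/
def realOrders (n : ℕ) : List ℕ :=
  if n = 168 then [2, 3, 4] else if n = 360 then [2, 3, 4, 5] else [2, 3, 4, 5, 6]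

/-- `P` modulo scalars has order 168, 360 or 2520. -/
def IsSmall (P : Subgroup (GL (Fin 3) F)) : Prop :=
  projCard P = 168 ∨ projCard P = 360 ∨ projCard P = 2520

theorem IsSmall.profile (h : IsSmall P) (hS : Setting P) :
    Profile (PX P) (realOrders (projCard P)) := by
  haveI := hS.simple
  rcases h with h | h | h <;> rw [h]
  · exact profile_168 h
  · obtain ⟨e⟩ := iso_six hS h
    exact profile_six.map e.symm
  · obtain ⟨e⟩ := iso_seven hS h
    exact profile_seven.map e.symm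

theorem realOrders_mem (N : ℕ) : ∀ n ∈ realOrders N, n ∈ [2, 3, 4, 5, 6] := by
  intro n hn
  unfold realOrders at hn
  split_ifs at hn <;> simp at hn ⊢ <;> tauto

theorem five_mem {N : ℕ} (h : 5 ∈ realOrders N) : N ≠ 168 := by
  rintro rfl
  simp [realOrders] at h

theorem seven_dvd {N : ℕ} (h : 7 ∣ N) : N ≠ 360 := by
  rintro rfl
  norm_num at h

/-- A scalar of order three. -/
theorem exists_omega (hS : Setting P) (h : projCard P = 360 ∨ projCard P = 2520) (h3 : (3 : F) ≠ 0) :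
    ∃ z ∈ P, ∃ w : F, (z : M3) = w • 1 ∧ w ≠ 1 ∧ w ^ 3 = 1 := by
  have hP := IsSmall.profile (P := P) (h.elim (Or.inr ∘ Or.inl) (Or.inr ∘ Or.inr)) hS
  have hreal : ∀ X : PX P, orderOf X = 3 → RealElt X := fun X hX => by
    rcases hP X with rfl | ⟨n, -, hn, hr⟩ | ⟨h7, -⟩
    · simp at hX
    · exact hr
    · omega
  rcases h with h | h
  · obtain ⟨e⟩ := iso_six hS h
    obtain ⟨p1, p2, p3, p4, p5, p6⟩ := pair6
    obtain ⟨U, V, hU, hV, hc, hi⟩ := exists_pair_alt e ⟨p1, p2, p3, p4, p5, p6⟩ (by decide +kernel)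
    exact exists_omega_of_pair hS h3 hreal hU hV hc hi
  · obtain ⟨e⟩ := iso_seven hS h
    obtain ⟨p1, p2, p3, p4, p5, p6⟩ := pair7
    obtain ⟨U, V, hU, hV, hc, hi⟩ := exists_pair_alt e ⟨p1, p2, p3, p4, p5, p6⟩ (by decide +kernel)
    exact exists_omega_of_pair hS h3 hreal hU hV hc hi

/-- An element of order five has a lift with real trace, a root of `t² = t + 1`. -/
theorem exists_five (hS : Setting P) (h : projCard P = 360 ∨ projCard P = 2520) :
    ∃ x ∈ P, tr x ^ 2 = tr x + 1 ∧ tr x⁻¹ = tr x := by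
  have hs : IsSmall P := h.elim (Or.inr ∘ Or.inl) (Or.inr ∘ Or.inr)
  have h5 : 5 ∣ Nat.card (PX P) := by
    rcases h with h | h <;> rw [show Nat.card (PX P) = _ from h] <;> norm_num
  haveI : Fact (Nat.Prime 5) := ⟨by norm_num⟩
  obtain ⟨X, hX⟩ := exists_prime_orderOf_dvd_card' (G := PX P) 5 h5
  rcases hs.profile hS X with rfl | ⟨n, -, ho, hr⟩ | ⟨h7, -⟩
  · simp at hX
  · obtain ⟨w, hw, hp, h1, h2⟩ := exists_real_lift hS hr
    refine ⟨_, w.2, ?_, h1⟩
    rcases tv_of_real hS (n := 5) (by simp) hX hw hp h1 h2 with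
      ⟨h, _⟩ | ⟨h, _⟩ | ⟨h, _⟩ | ⟨_, h⟩ | ⟨h, _⟩
    all_goals first
      | exact h
      | omega
  · omega

/-- An element of order seven has a lift with trace a root of `s² + s + 2`. -/
theorem exists_seven (hS : Setting P) (h : projCard P = 168 ∨ projCard P = 2520) :
    ∃ x ∈ P, Root7 (tr x) (tr x⁻¹) := by
  have hs : IsSmall P := h.elim Or.inl (Or.inr ∘ Or.inr)
  have h7 : 7 ∣ Nat.card (PX P) := by
    rcases h with h | h <;> rw [show Nat.card (PX P) = _ from h] <;> norm_num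
  haveI : Fact (Nat.Prime 7) := ⟨by norm_num⟩
  obtain ⟨X, hX⟩ := exists_prime_orderOf_dvd_card' (G := PX P) 7 h7
  rcases hs.profile hS X with rfl | ⟨n, hn, ho, -⟩ | ⟨-, hq⟩
  · simp at hX
  · have := realOrders_mem _ n hn
    simp at this
    omega
  · obtain ⟨w, hw, hp, h1, h2⟩ := exists_sq_lift hS hq
    exact ⟨_, w.2, root7_of_lift hS hX hw hp h1 h2⟩

/-- The trace values. -/
theorem IsSmall.cases (hs : IsSmall P) (hS : Setting P) (x : GL (Fin 3) F) (hx : x ∈ P) :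
    ∃ c t t' : F, c ^ 3 = 1 ∧ (∃ z ∈ P, (z : M3) = c • 1) ∧ tr x = c * t ∧ tr x⁻¹ = c⁻¹ * t' ∧
      ((t' = t ∧ ((∃ n : ℤ, t = (n : F)) ∨ (projCard P ≠ 168 ∧ t ^ 2 = t + 1))) ∨
        (projCard P ≠ 360 ∧ Root7 t t')) := by
  obtain ⟨c, t, t', hc, hz, e1, e2, h⟩ :=
    trace_cases hS (realOrders_mem _) (hs.profile hS) x hx
  refine ⟨c, t, t', hc, hz, e1, e2, ?_⟩
  rcases h with ⟨he, h | ⟨n, hn, h⟩⟩ | ⟨h7, h⟩
  · exact Or.inl ⟨he, Or.inl ⟨3, by rw [h]; norm_num⟩⟩
  · refine Or.inl ⟨he, ?_⟩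
    rcases h with ⟨-, h⟩ | ⟨-, h⟩ | ⟨-, h⟩ | ⟨rfl, h⟩ | ⟨-, h⟩
    · exact Or.inl ⟨-1, by rw [h]; norm_num⟩
    · exact Or.inl ⟨0, by rw [h]; norm_num⟩
    · exact Or.inl ⟨1, by rw [h]; norm_num⟩
    · exact Or.inr ⟨five_mem hn, h⟩
    · rcases mul_eq_zero.mp h with h | h
      · exact Or.inl ⟨0, by rw [h]; norm_num⟩
      · exact Or.inl ⟨2, by rw [sub_eq_zero.mp h]; norm_num⟩
  · exact Or.inr ⟨seven_dvd h7, h⟩

section Char

variable (p : ℕ) [Fact p.Prime] [CharP F p]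

theorem intCast_pow_char (n : ℤ) : ((n : F)) ^ p = n := by
  rw [← map_intCast (ZMod.castHom dvd_rfl F) n, ← map_pow, ZMod.pow_card]

/-- All traces lie in the field of `p²` elements. -/
theorem IsSmall.traces_fixed (hs : IsSmall P) (hS : Setting P) :
    ∀ x ∈ P, tr x ^ p ^ 2 = tr x := by
  intro x hx
  obtain ⟨c, t, t', hc, -, e1, -, h⟩ := hs.cases hS x hx
  rw [e1, mul_pow, cube_root_fixed p hc]
  congr 1
  rcases h with ⟨-, ⟨n, rfl⟩ | ⟨-, h⟩⟩ | ⟨-, -, h⟩
  · rw [sq, pow_mul, intCast_pow_char, intCast_pow_char]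
  · exact fixed_of_quadratic p (a := 1) (b := 1) (by push_cast; linear_combination h)
  · exact fixed_of_quadratic p (a := -1) (b := -2) (by push_cast; linear_combination h)

/-- All traces lie in the prime field. -/
theorem IsSmall.traces_prime (hs : IsSmall P) (hS : Setting P)
    (h5 : projCard P ≠ 168 → p % 5 = 0 ∨ p % 5 = 1 ∨ p % 5 = 4)
    (h7 : projCard P ≠ 360 → p % 7 = 0 ∨ p % 7 = 1 ∨ p % 7 = 2 ∨ p % 7 = 4)
    (hc : ∀ c : F, c ^ 3 = 1 → (∃ z ∈ P, (z : M3) = c • 1) → c ^ p = c) :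
    ∀ x ∈ P, tr x ^ p = tr x := by
  intro x hx
  obtain ⟨c, t, t', hc3, hz, e1, -, h⟩ := hs.cases hS x hx
  rw [e1, mul_pow, hc c hc3 hz]
  congr 1
  rcases h with ⟨-, ⟨n, rfl⟩ | ⟨h, ht⟩⟩ | ⟨h, -, ht⟩
  · exact intCast_pow_char p n
  · exact five_fix p ht (h5 h)
  · exact seven_fix p ht (h7 h)

/-- The Frobenius map gives the traces of the inverses. -/
theorem IsSmall.traces_twisted (hs : IsSmall P) (hS : Setting P)
    (h5 : projCard P ≠ 168 → p % 5 = 0 ∨ p % 5 = 1 ∨ p % 5 = 4)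
    (h7 : projCard P ≠ 360 → p % 7 = 3 ∨ p % 7 = 5 ∨ p % 7 = 6)
    (hc : ∀ c : F, c ^ 3 = 1 → (∃ z ∈ P, (z : M3) = c • 1) → c ^ p = c⁻¹) :
    ∀ x ∈ P, tr x ^ p = tr x⁻¹ := by
  intro x hx
  obtain ⟨c, t, t', hc3, hz, e1, e2, h⟩ := hs.cases hS x hx
  rw [e1, e2, mul_pow, hc c hc3 hz]
  congr 1
  rcases h with ⟨rfl, ⟨n, rfl⟩ | ⟨h, ht⟩⟩ | ⟨h, rfl, ht⟩
  · exact intCast_pow_char p n
  · exact five_fix p ht (h5 h)
  · exact (seven_swap p ht (h7 h)).1

/-- All traces are equal to those of the inverses. -/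
theorem IsSmall.traces_real (hs : IsSmall P) (hS : Setting P)
    (h7 : projCard P ≠ 360 → p = 7)
    (hc : ∀ c : F, c ^ 3 = 1 → (∃ z ∈ P, (z : M3) = c • 1) → c = 1) :
    ∀ x ∈ P, tr x = tr x⁻¹ := by
  intro x hx
  obtain ⟨c, t, t', hc3, hz, e1, e2, h⟩ := hs.cases hS x hx
  rw [e1, e2, hc c hc3 hz, inv_one]
  congr 1
  rcases h with ⟨rfl, -⟩ | ⟨h, rfl, ht⟩
  · rfl
  · have hp := h7 h
    subst hp
    have h70 : (7 : F) = 0 := by exact_mod_cast CharP.cast_eq_zero F 7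
    have : (2 * t + 1) ^ 2 = 0 := by linear_combination 4 * ht - h70
    linear_combination (pow_eq_zero_iff two_ne_zero).mp this

/-- In characteristic three there is no scalar of order three. -/
theorem cube_eq_one_char_three {c : F} (h3 : p = 3) (hc : c ^ 3 = 1) : c = 1 := by
  subst h3
  exact frobenius_inj F 3 (by rw [frobenius_def, map_one, hc])

end Char

end Cfsg.Agent.Linear.Mitchell.Socle
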