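import Cfsg.Agent.Linear.Mitchell.Socle.FiveCase

/-!
The residual class of `SU₃(q)`, from Mitchell's theorem.
-/

set_option autoImplicit false
set_option linter.style.haveILetI false
set_option linter.unusedSectionVars false

namespace Cfsg.Agent.Linear.Mitchell.Socle

open scoped MatrixGroups Matrix
open Cfsg.Geo

variable {F : Type*} [Field F] [Fintype F] {H P : Subgroup (GL (Fin 3) F)}

local notation "M3" => Matrix (Fin 3) (Fin 3) F

theorem pow_of_sq_eq {q p : ℕ} (hp : p.Prime) (hα : q ^ 2 = p ∨ q ^ 2 = p ^ 2) : q = p := by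
  rcases hα with h | h
  · exfalso
    rw [← h] at hp
    exact Nat.Prime.not_prime_pow (le_refl 2) hp
  · exact Nat.pow_left_injective two_ne_zero h

/-- The socles of the maximal subgroups in the residual class of the unitary case. -/
theorem unitary_case (p q : ℕ) [Fact p.Prime] [CharP F p] (hF : Fintype.card F = q ^ 2) (hq : 3 ≤ q)
    (hH : IsMaximalIn (GU 3 F q ⊓ specialLinear (Fin 3) F) H) (hc : IsResidualCore H P)
    (hQ : ¬ ∃ Q : (Fin 3 → F) → F, IsNondegenerateQuadraticForm Q ∧ FixesQuadForm (matrixSet P) Q)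
    (hM : Outcome p P) :
    q.Prime ∧
    ((Nonempty ((P ⧸ (scalars (Fin 3) F).subgroupOf P) ≃* Matrix.ProjectiveSpecialLinearGroup (Fin 3) (ZMod 2)) ∧
        q ≠ 5 ∧ (q % 7 = 3 ∨ q % 7 = 5 ∨ q % 7 = 6)) ∨
     (Nonempty ((P ⧸ (scalars (Fin 3) F).subgroupOf P) ≃* alternatingGroup (Fin 6)) ∧
        (q % 15 = 11 ∨ q % 15 = 14 ∨ q = 5)) ∨
     (Nonempty ((P ⧸ (scalars (Fin 3) F).subgroupOf P) ≃* alternatingGroup (Fin 7)) ∧ q = 5)) := by
  have hS : Setting P :=
    ⟨hc.le.trans (hH.1.le.trans inf_le_right), hc.perfect, hc.absIrred, hc.simple⟩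
  have hno := hc.no_subfield
  have hPU : P ≤ GU 3 F q := hc.le.trans (hH.1.le.trans inf_le_left)
  have htr : ∀ x ∈ P, tr x⁻¹ = tr x ^ q := fun x hx => trace_inv_GU hF (hPU hx)
  have hp0 : p.Prime := Fact.out
  have hqp : IsSmall P → q = p := fun hs =>
    pow_of_sq_eq hp0 (hF ▸ hs.card_cases p hS hno)
  have hprime : ∀ (hs : IsSmall P), ¬ ∀ x ∈ P, tr x ^ p = tr x := by
    intro hs h
    have := card_le_of_traces p hS hno (n := 1) one_pos (by simpa using h)
    rw [hF, hqp hs, pow_one] at this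
    have := hp0.one_lt
    nlinarith
  rcases hM with h | h | ⟨-, h⟩ | h | h | ⟨h, hp5⟩
  · exact absurd ((eq_sl_of_isSLForm h hno).ge.trans hPU) (not_sl_le_GU hF)
  · exfalso
    obtain ⟨q₀, g, hq0, e⟩ := eq_su_of_isSUForm h hno
    have hq' : q₀ = q := Nat.pow_left_injective two_ne_zero (hq0.symm.trans hF)
    subst hq'
    have hcard : Nat.card P = Nat.card (GU 3 F q₀ ⊓ specialLinear (Fin 3) F : Subgroup (GL (Fin 3) F)) := by
      rw [e, Subgroup.card_map_of_injective (MulAut.conj g).injective]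
    have heq : P = GU 3 F q₀ ⊓ specialLinear (Fin 3) F :=
      Subgroup.eq_of_le_of_card_ge (hc.le.trans hH.1.le) hcard.ge
    exact hH.1.not_ge (heq ▸ hc.le)
  · exact absurd h hQ
  · -- order 168
    have hs : IsSmall P := Or.inl h
    have hqp' := hqp hs
    subst hqp'
    refine ⟨hp0, Or.inl ⟨iso_L32 hS h, fun h5 => ?_, ?_⟩⟩
    · subst h5
      exact false_of_168_five hF hH hS hc.le hc.normal h
    · by_contra hbad
      refine hprime hs (hs.traces_prime q hS (fun h' => absurd h h') (fun _ => by omega)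
        fun c _ hz => ?_)
      rw [scalar_cases_168 hS h hz, one_pow]
  · -- order 360
    have hs : IsSmall P := Or.inr (Or.inl h)
    have hqp' := hqp hs
    subst hqp'
    refine ⟨hp0, Or.inr (Or.inl ⟨iso_six hS h, ?_⟩)⟩
    obtain ⟨x, hx, ht, hxr⟩ := exists_five hS (Or.inl h)
    have h5 : q % 5 = 0 ∨ q % 5 = 1 ∨ q % 5 = 4 := by
      by_contra hbad
      obtain ⟨e1, e2⟩ := five_swap q ht (by omega)
      exact e2 (by rw [← e1, ← htr x hx, hxr])
    have hq3 : q ≠ 3 := by
      rintro rfl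
      omega
    obtain ⟨z, hz, w, hw, hne, hwp⟩ := omega_mod q hS (Or.inl h) hq3
    have h32 : q % 3 = 2 := by
      rcases hwp with ⟨-, hwf⟩ | ⟨h2, -⟩
      · exfalso
        have hzi : ((z⁻¹ : GL (Fin 3) F) : M3) = w⁻¹ • 1 := by
          refine Units.inv_eq_of_mul_eq_one_left ?_
          rw [hw, smul_mul_smul_comm, one_mul, inv_mul_cancel₀, one_smul]
          intro h0
          have := hS.scalar_cube hz hw
          simp [h0] at this
        have e := htr z hz
        rw [tr, tr, hzi, hw, Matrix.trace_smul, Matrix.trace_smul, Matrix.trace_one, Fintype.card_fin,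
          smul_eq_mul, smul_eq_mul, mul_pow, natCast_pow_char (F := F) q 3, hwf] at e
        exact inv_ne_self_of_cube (hS.scalar_cube hz hw) hne
          (mul_right_cancel₀ (by exact_mod_cast three_ne_zero_char (F := F) q hq3) e)
      · exact h2
    have hq5 : q % 5 = 0 → q = 5 := fun h0 =>
      ((Nat.prime_dvd_prime_iff_eq (by norm_num) hp0).mp (Nat.dvd_of_mod_eq_zero h0)).symm
    omega
  · -- order 2520
    have hs : IsSmall P := Or.inr (Or.inr h)
    have hqp' := hqp hs
    subst hqp'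
    exact ⟨hp0, Or.inr (Or.inr ⟨iso_seven hS h, hp5⟩)⟩

end Cfsg.Agent.Linear.Mitchell.Socle
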